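import Mathlib

/-!
# Soft abelian centralizers in finite 2-groups

An involution `y` of a finite 2-group `S` with abelian centralizer `C` is *soft* when the
normalizer of `C` moves the elements of `C` by at most one involution `w`.  Such a `w` is
central and unique, and the soft involutions of a conjugation closed set lie in a subgroup
generated by two of them.
-/

set_option autoImplicit false
set_option linter.unusedVariables false

universe u

namespace CfsgLib.AbelianInter

variable {S : Type u} [Group S]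

/-- `g` normalizes the centralizer of `y`. -/
def Norm (y g : S) : Prop := ∀ e, Commute e y ↔ Commute (g * e * g⁻¹) y

/-- A soft involution `y` with attached involution `w`. -/
structure Soft (y w : S) : Prop where
  sq : y * y = 1
  comm : ∀ a b, Commute a y → Commute b y → Commute a b
  move : ∃ r, Norm y r ∧ r * y * r⁻¹ = y * w
  ne : w ≠ 1
  quad : ∀ g, Norm y g → ∀ e, Commute e y → g * e * g⁻¹ = e ∨ g * e * g⁻¹ = e * w
  no_sq : ∀ e, Commute e y → e * e ≠ w
  not_normal : ∃ g, ¬ Norm y g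

/-- The part of softness that passes to quotients. -/
structure QPair (y w : S) : Prop where
  sq : y * y = 1
  comm : ∀ a b, Commute a y → Commute b y → Commute a b
  move : ∃ r, Norm y r ∧ r * y * r⁻¹ = y * w
  ne : w ≠ 1
  quad : ∀ g, Norm y g → ∀ e, Commute e y → g * e * g⁻¹ = e ∨ g * e * g⁻¹ = e * w

theorem Soft.qpair {y w : S} (h : Soft y w) : QPair y w :=
  ⟨h.sq, h.comm, h.move, h.ne, h.quad⟩

/-- The centralizer of `y` is abelian. -/
def AbC (y : S) : Prop := ∀ a b, Commute a y → Commute b y → Commute a b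

theorem inv_of_sq {a : S} (h : a * a = 1) : a⁻¹ = a := inv_eq_of_mul_eq_one_left h

theorem conj_of_commute {g y : S} (h : Commute g y) : g * y * g⁻¹ = y := by
  rw [h.eq, mul_inv_cancel_right]

theorem commute_of_conj {g y : S} (h : g * y * g⁻¹ = y) : Commute g y :=
  mul_inv_eq_iff_eq_mul.1 h

theorem commute_of_same_conj {a b y : S} (h : a * y * a⁻¹ = b * y * b⁻¹) :
    Commute (a⁻¹ * b) y := by
  apply commute_of_conj
  calc a⁻¹ * b * y * (a⁻¹ * b)⁻¹ = a⁻¹ * (b * y * b⁻¹) * a := by group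
    _ = y := by rw [← h]; group

theorem commute_conj_iff (g a b : S) :
    Commute (g * a * g⁻¹) (g * b * g⁻¹) ↔ Commute a b := by
  simp only [Commute, SemiconjBy]
  rw [show g * a * g⁻¹ * (g * b * g⁻¹) = g * (a * b) * g⁻¹ by group,
    show g * b * g⁻¹ * (g * a * g⁻¹) = g * (b * a) * g⁻¹ by group, mul_left_inj, mul_right_inj]

theorem AbC.conj {y : S} (h : AbC y) (g : S) : AbC (g * y * g⁻¹) := by
  intro a b ha hb
  have e : ∀ x : S, x = g * (g⁻¹ * x * g) * g⁻¹ := fun x => by group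
  rw [e a] at ha
  rw [e b] at hb
  rw [e a, e b, commute_conj_iff]
  exact h _ _ ((commute_conj_iff g _ _).1 ha) ((commute_conj_iff g _ _).1 hb)

theorem AbC.eq_cent {y a : S} (h : AbC y) (h' : AbC a) (hc : Commute a y) (e : S) :
    Commute e y ↔ Commute e a :=
  ⟨fun he => h e a he hc, fun he => h' e y he hc.symm⟩

theorem norm_iff {y g : S} (h : AbC y) : Norm y g ↔ Commute (g * y * g⁻¹) y := by
  refine ⟨fun hn => (hn y).1 (Commute.refl y), fun hc e => ?_⟩
  rw [← commute_conj_iff g e y]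
  exact ((h.eq_cent (h.conj g) hc) _).symm

theorem norm_of_commute {y g : S} (h : AbC y) (hc : Commute g y) : Norm y g := by
  rw [norm_iff h, conj_of_commute hc]

theorem norm_diff {y g g' : S} (h : AbC y)
    (hc : Commute (g' * y * g'⁻¹) (g * y * g⁻¹)) : Norm y (g⁻¹ * g') := by
  rw [norm_iff h, ← commute_conj_iff g]
  have e : g * (g⁻¹ * g' * y * (g⁻¹ * g')⁻¹) * g⁻¹ = g' * y * g'⁻¹ := by group
  rw [e]
  exact hc

/-- The normalizer of the centralizer, as a subgroup. -/
def normSub (y : S) : Subgroup S :=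
  Subgroup.normalizer ((Subgroup.centralizer ({y} : Set S) : Subgroup S) : Set S)

theorem mem_normSub {y g : S} : g ∈ normSub y ↔ Norm y g := by
  rw [normSub, Subgroup.mem_normalizer_iff]
  simp only [Subgroup.mem_centralizer_singleton_iff]
  exact Iff.rfl

theorem self_mem_normSub {y : S} (h : AbC y) : y ∈ normSub y :=
  mem_normSub.2 (norm_of_commute h (Commute.refl y))

theorem norm_conj_self {y u : S} (h : AbC y)
    (hu : u ∈ Subgroup.normalizer ((normSub y : Subgroup S) : Set S)) :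
    Norm y (u * y * u⁻¹) :=
  mem_normSub.1 ((Subgroup.mem_normalizer_iff.1 hu y).1 (self_mem_normSub h))

theorem grow [Finite S] (hS : IsPGroup 2 S) {H : Subgroup S} (hH : H ≠ ⊤) :
    ∃ g, g ∈ Subgroup.normalizer (H : Set S) ∧ g ∉ H := by
  haveI : Fact (Nat.Prime 2) := ⟨Nat.prime_two⟩
  haveI := hS.isNilpotent
  exact SetLike.exists_of_lt
    (Group.normalizerCondition_of_isNilpotent H (lt_top_iff_ne_top.2 hH))

theorem grow_norm [Finite S] (hS : IsPGroup 2 S) {y : S} (h : ∃ g, ¬ Norm y g) :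
    ∃ u, u ∈ Subgroup.normalizer ((normSub y : Subgroup S) : Set S) ∧ ¬ Norm y u := by
  obtain ⟨g, hg⟩ := h
  have hne : normSub y ≠ ⊤ := fun e => hg (mem_normSub.1 (e ▸ Subgroup.mem_top g))
  obtain ⟨u, hu, hu'⟩ := grow hS hne
  exact ⟨u, hu, fun h' => hu' (mem_normSub.2 h')⟩

theorem exists_norm [Finite S] (hS : IsPGroup 2 S) {y t : S} (h : ¬ Commute t y) :
    ∃ g, Norm y g ∧ ¬ Commute g y := by
  have hne : Subgroup.centralizer ({y} : Set S) ≠ ⊤ := fun e =>
    h (Subgroup.mem_centralizer_singleton_iff.1 (e ▸ Subgroup.mem_top t))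
  obtain ⟨g, hg, hg'⟩ := grow hS hne
  exact ⟨g, mem_normSub.1 hg, fun h' => hg' (Subgroup.mem_centralizer_singleton_iff.2 h')⟩

/-- A power of order four. -/
theorem exists_four (hS : IsPGroup 2 S) {x : S} (hx : x * x ≠ 1) :
    ∃ m : ℕ, x ^ m * x ^ m ≠ 1 ∧ x ^ m * x ^ m * (x ^ m * x ^ m) = 1 := by
  obtain ⟨k, hk⟩ := hS x
  induction k generalizing x with
  | zero => exact absurd (by simp_all) hx
  | succ k ih =>
    by_cases h4 : x * x * (x * x) = 1
    · exact ⟨1, by simpa using hx, by simpa using h4⟩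
    · obtain ⟨m, h1, h2⟩ := @ih (x * x) h4 (by rwa [← pow_two, ← pow_mul, ← pow_succ'])
      rw [← pow_two x, ← pow_mul] at h1 h2
      exact ⟨2 * m, h1, h2⟩

theorem conj_pow_eq {g x : S} (h : g * x * g⁻¹ = x⁻¹) (m : ℕ) :
    g * x ^ m * g⁻¹ = (x ^ m)⁻¹ := by
  rw [← conj_pow, h, inv_pow]

section QPair

variable {y w : S}

theorem QPair.abC (q : QPair y w) : AbC y := q.comm

theorem QPair.comm_w (q : QPair y w) : Commute w y := by
  obtain ⟨r, hr, he⟩ := q.move
  have h1 : Commute (y * w) y := he ▸ (norm_iff q.abC).1 hr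
  have h2 : w = y * (y * w) := by rw [← mul_assoc, q.sq, one_mul]
  rw [h2]
  exact (Commute.refl y).mul_left h1

theorem QPair.w_sq (q : QPair y w) : w * w = 1 := by
  obtain ⟨r, hr, he⟩ := q.move
  have h1 : y * w * (y * w) = 1 := by
    rw [← he, show r * y * r⁻¹ * (r * y * r⁻¹) = r * (y * y) * r⁻¹ by group, q.sq, mul_one,
      mul_inv_cancel]
  rw [q.comm_w.mul_mul_mul_comm, q.sq, one_mul] at h1
  exact h1

theorem QPair.conj_or (q : QPair y w) {g : S} (hg : Norm y g) :
    g * y * g⁻¹ = y ∨ g * y * g⁻¹ = y * w := q.quad g hg y (Commute.refl y)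

theorem QPair.conj_out (q : QPair y w) {g : S} (hg : Norm y g) (hc : ¬ Commute g y) :
    g * y * g⁻¹ = y * w :=
  (q.conj_or hg).resolve_left fun e => hc (commute_of_conj e)

theorem QPair.same (q : QPair y w) {n m : S} (hn : Norm y n) (hm : Norm y m)
    (hn' : ¬ Commute n y) (hm' : ¬ Commute m y) : Commute (n⁻¹ * m) y :=
  commute_of_same_conj ((q.conj_out hn hn').trans (q.conj_out hm hm').symm)

theorem QPair.d_eq (q : QPair y w) {x d : S} (h : x * y * x⁻¹ = y * d) (hd : Commute d y) :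
    d = 1 ∨ d = w := by
  have hn : Norm y x := (norm_iff q.abC).2 (h ▸ (Commute.refl y).mul_left hd)
  rcases q.conj_or hn with e | e
  · left
    rw [h] at e
    simpa using e
  · right
    rw [h] at e
    exact mul_left_cancel e

theorem exists_z (hS : IsPGroup 2 S) {y y' : S} (hy : y * y = 1) (hy' : y' * y' = 1)
    (hn : ¬ Commute y y') :
    ∃ z v : S, z ≠ 1 ∧ z ∈ Subgroup.closure ({y, y'} : Set S) ∧
      (v * y * v⁻¹ = y * z ∧ Commute z y) ∧ (v * y' * v⁻¹ = y' * z ∧ Commute z y') := by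
  have hx : y * y' * (y * y') ≠ 1 := by
    intro e
    apply hn
    have e' := inv_of_sq e
    rw [mul_inv_rev, inv_of_sq hy, inv_of_sq hy'] at e'
    exact e'.symm
  obtain ⟨m, h1, h2⟩ := exists_four hS hx
  have key : ∀ a : S, a * a = 1 → a * (y * y') * a⁻¹ = (y * y')⁻¹ →
      (y * y') ^ m * a * ((y * y') ^ m)⁻¹ = a * ((y * y') ^ m * (y * y') ^ m) ∧
        Commute ((y * y') ^ m * (y * y') ^ m) a := by
    intro a ha hai
    have hv := conj_pow_eq hai m
    generalize (y * y') ^ m = v at hv h2 ⊢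
    have hz : v⁻¹ * v⁻¹ = v * v := by rw [← mul_inv_rev]; exact inv_of_sq h2
    constructor
    · calc v * a * v⁻¹ = a * (a⁻¹ * v * a) * v⁻¹ := by group
        _ = a * (a * v * a⁻¹) * v⁻¹ := by rw [inv_of_sq ha]
        _ = a * (v⁻¹ * v⁻¹) := by rw [hv, mul_assoc]
        _ = a * (v * v) := by rw [hz]
    · refine (commute_of_conj ?_).symm
      rw [show a * (v * v) * a⁻¹ = (a * v * a⁻¹) * (a * v * a⁻¹) by group, hv, hz]
  refine ⟨_, (y * y') ^ m, h1, ?_, key y hy ?_, key y' hy' ?_⟩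
  · have : y * y' ∈ Subgroup.closure ({y, y'} : Set S) :=
      mul_mem (Subgroup.subset_closure (by simp)) (Subgroup.subset_closure (by simp))
    exact mul_mem (pow_mem this m) (pow_mem this m)
  · rw [mul_inv_rev, inv_of_sq hy, inv_of_sq hy', ← mul_assoc, hy, one_mul]
  · rw [mul_inv_rev, inv_of_sq hy, inv_of_sq hy', mul_assoc, mul_assoc y y', hy', mul_one]

theorem QPair.eq_w (hS : IsPGroup 2 S) (q : QPair y w) {y' w' : S} (q' : QPair y' w') :
    w' = w := by
  by_cases hc : Commute y' y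
  · obtain ⟨r, hr, he⟩ := q.move
    have hrc : ¬ Commute r y' := fun h => by
      have h' : Commute r y := (q.abC.eq_cent q'.abC hc r).2 h
      rw [conj_of_commute h'] at he
      exact q.ne (by simpa using he)
    have h1 : r * y' * r⁻¹ = y' * w :=
      (q.quad r hr y' hc).resolve_left fun e => hrc (commute_of_conj e)
    have h2 : Commute w y' := (q.abC.eq_cent q'.abC hc w).1 q.comm_w
    exact ((q'.d_eq h1 h2).resolve_left q.ne).symm
  · obtain ⟨z, v, hz, -, hy, hy'⟩ := exists_z hS q.sq q'.sq (fun h => hc h.symm)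
    rw [← (q.d_eq hy.1 hy.2).resolve_left hz, ← (q'.d_eq hy'.1 hy'.2).resolve_left hz]

theorem QPair.w_mem (hS : IsPGroup 2 S) (q : QPair y w) {y' : S} (hy' : y' * y' = 1)
    (hn : ¬ Commute y y') : w ∈ Subgroup.closure ({y, y'} : Set S) := by
  obtain ⟨z, v, hz, hmem, hy, -⟩ := exists_z hS q.sq hy' hn
  exact (q.d_eq hy.1 hy.2).resolve_left hz ▸ hmem

end QPair

theorem commute_map {T : Type u} [Group T] (φ : S ≃* T) (a b : S) :
    Commute (φ a) (φ b) ↔ Commute a b := by
  simp only [Commute, SemiconjBy, ← map_mul, φ.injective.eq_iff]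

theorem norm_map {T : Type u} [Group T] (φ : S ≃* T) (a g : S) :
    Norm (φ a) (φ g) ↔ Norm a g := by
  constructor
  · intro h e
    have := h (φ e)
    rwa [← map_mul, ← map_inv, ← map_mul, commute_map, commute_map] at this
  · intro h e
    obtain ⟨e, rfl⟩ := φ.surjective e
    rw [← map_mul, ← map_inv, ← map_mul, commute_map, commute_map]
    exact h e

theorem QPair.map {T : Type u} [Group T] (φ : S ≃* T) {y w : S} (q : QPair y w) :
    QPair (φ y) (φ w) where
  sq := by rw [← map_mul, q.sq, map_one]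
  comm a b ha hb := by
    obtain ⟨a, rfl⟩ := φ.surjective a
    obtain ⟨b, rfl⟩ := φ.surjective b
    rw [commute_map] at ha hb ⊢
    exact q.comm a b ha hb
  move := by
    obtain ⟨r, hr, he⟩ := q.move
    exact ⟨φ r, (norm_map φ y r).2 hr, by rw [← map_mul, ← map_inv, ← map_mul, he, map_mul]⟩
  ne h := q.ne (φ.injective (h.trans (map_one φ).symm))
  quad g hg e he := by
    obtain ⟨g, rfl⟩ := φ.surjective g
    obtain ⟨e, rfl⟩ := φ.surjective e
    rw [norm_map] at hg
    rw [commute_map] at he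
    simp only [← map_mul, ← map_inv, φ.injective.eq_iff]
    exact q.quad g hg e he

theorem Soft.map {T : Type u} [Group T] (φ : S ≃* T) {y w : S} (h : Soft y w) :
    Soft (φ y) (φ w) where
  sq := (h.qpair.map φ).sq
  comm := (h.qpair.map φ).comm
  move := (h.qpair.map φ).move
  ne := (h.qpair.map φ).ne
  quad := (h.qpair.map φ).quad
  no_sq e he := by
    obtain ⟨e, rfl⟩ := φ.surjective e
    rw [commute_map] at he
    rw [← map_mul, Ne, φ.injective.eq_iff]
    exact h.no_sq e he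
  not_normal := by
    obtain ⟨g, hg⟩ := h.not_normal
    exact ⟨φ g, fun h' => hg ((norm_map φ y g).1 h')⟩

theorem QPair.central {y w : S} (hS : IsPGroup 2 S) (q : QPair y w) (g : S) : Commute g w :=
  commute_of_conj (q.eq_w hS (q.map (MulAut.conj g)))

theorem Soft.central {y w : S} (hS : IsPGroup 2 S) (h : Soft y w) : ∀ g : S, Commute g w :=
  h.qpair.central hS

theorem Soft.eq_w {y w y' w' : S} (hS : IsPGroup 2 S) (h : Soft y w) (h' : Soft y' w') :
    w' = w := h.qpair.eq_w hS h'.qpair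

theorem Soft.conj {y w : S} (hS : IsPGroup 2 S) (h : Soft y w) (g : S) :
    Soft (g * y * g⁻¹) w := by
  have h' := h.map (MulAut.conj g)
  rwa [MulAut.conj_apply, MulAut.conj_apply, conj_of_commute (h.central hS g)] at h'

/-- Involution pairs out of the index two condition. -/
theorem qpair_of_idx {y u r : S} (hsq : y * y = 1) (hy : AbC y)
    (hidx : ∀ g g', Norm y g → Norm y g' → ¬ Commute g y → ¬ Commute g' y →
      Commute (g⁻¹ * g') y)
    (hu : u ∈ Subgroup.normalizer ((normSub y : Subgroup S) : Set S)) (hu' : ¬ Norm y u)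
    (hr : Norm y r) (hr' : ¬ Commute r y) :
    QPair y (y * (r * y * r⁻¹)) := by
  have ha : Norm y (u * y * u⁻¹) := norm_conj_self hy hu
  have hac : ¬ Commute (u * y * u⁻¹) y := fun h => hu' ((norm_iff hy).2 h)
  have hmem : ∀ e, Norm y e → Norm y (u⁻¹ * e * u) := fun e he =>
    mem_normSub.1 ((Subgroup.mem_normalizer_iff''.1 hu e).1 (mem_normSub.2 he))
  have hy' : Norm y (u⁻¹ * y * u) := hmem y (norm_of_commute hy (Commute.refl y))
  have hyc : ¬ Commute (u⁻¹ * y * u) y := by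
    intro h
    apply hac
    have h2 := (commute_conj_iff u _ _).2 h
    rw [show u * (u⁻¹ * y * u) * u⁻¹ = y by group] at h2
    exact h2.symm
  have split : ∀ e, Commute e y →
      Commute e (u * y * u⁻¹) ∨ Commute (y * e) (u * y * u⁻¹) := by
    intro e he
    by_cases hc : Commute (u⁻¹ * e * u) y
    · left
      have h2 := (commute_conj_iff u _ _).2 hc
      rwa [show u * (u⁻¹ * e * u) * u⁻¹ = e by group] at h2
    · right
      have h2 := (commute_conj_iff u _ _).2
        (hidx _ _ hy' (hmem e (norm_of_commute hy he)) hyc hc)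
      rwa [show u * ((u⁻¹ * y * u)⁻¹ * (u⁻¹ * e * u)) * u⁻¹ = y⁻¹ * e by group,
        inv_of_sq hsq] at h2
  have hconj : ∀ g, Norm y g → ¬ Commute g y → ∀ e, Commute e y →
      g * e * g⁻¹ = (u * y * u⁻¹) * e * (u * y * u⁻¹)⁻¹ := by
    intro g hg hgc e he
    have hc := hy _ _ (hidx _ g ha hg hac hgc) he
    generalize u * y * u⁻¹ = a at hc ⊢
    calc g * e * g⁻¹ = a * ((a⁻¹ * g) * e * (a⁻¹ * g)⁻¹) * a⁻¹ := by group
      _ = a * e * a⁻¹ := by rw [conj_of_commute hc]
  refine ⟨hsq, hy, ⟨r, hr, by rw [← mul_assoc, hsq, one_mul]⟩, fun h => ?_, fun g hg e he => ?_⟩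
  · have h2 := eq_inv_of_mul_eq_one_right h
    rw [inv_of_sq hsq] at h2
    exact hr' (commute_of_conj h2)
  · by_cases hgc : Commute g y
    · exact Or.inl (conj_of_commute (hy g e hgc he))
    rcases split e he with hs | hs
    · left
      rw [hconj g hg hgc e he, conj_of_commute hs.symm]
    · right
      have hA : g * e * g⁻¹ = (r * y * r⁻¹) * (y * e) := by
        rw [hconj g hg hgc e he, hconj r hr hr' y (Commute.refl y)]
        have h3 := conj_of_commute hs.symm
        generalize u * y * u⁻¹ = a at h3 ⊢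
        calc a * e * a⁻¹ = a * y⁻¹ * a⁻¹ * (a * (y * e) * a⁻¹) := by group
          _ = a * y * a⁻¹ * (y * e) := by rw [h3, inv_of_sq hsq]
      have hc1 : Commute (r * y * r⁻¹) y := (norm_iff hy).1 hr
      have hc2 : Commute (y * (r * y * r⁻¹)) e := hy _ _ ((Commute.refl y).mul_left hc1) he
      rw [hA, ← mul_assoc, hc1.eq, ← hc2.eq]

section Quotient

theorem zpowers_normal {w : S} (hc : ∀ g, Commute g w) : (Subgroup.zpowers w).Normal :=
  ⟨fun n hn g => by
    obtain ⟨k, rfl⟩ := hn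
    show g * w ^ k * g⁻¹ ∈ _
    rw [conj_of_commute ((hc g).zpow_right k)]
    exact Subgroup.zpow_mem_zpowers w k⟩

theorem mem_zpowers_iff_of_sq {w x : S} (hw : w * w = 1) :
    x ∈ Subgroup.zpowers w ↔ x = 1 ∨ x = w := by
  constructor
  · rintro ⟨k, rfl⟩
    rcases Int.even_or_odd k with ⟨m, rfl⟩ | ⟨m, rfl⟩
    · left
      show w ^ (m + m) = 1
      rw [zpow_add, ← (Commute.refl w).mul_zpow, hw, one_zpow]
    · right
      show w ^ (2 * m + 1) = w
      rw [zpow_add_one, two_mul, zpow_add, ← (Commute.refl w).mul_zpow, hw, one_zpow, one_mul]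
  · rintro (rfl | rfl)
    exacts [one_mem _, Subgroup.mem_zpowers x]

variable {y w : S} [(Subgroup.zpowers w).Normal]

/-- The projection modulo `w`. -/
abbrev proj (w : S) [(Subgroup.zpowers w).Normal] : S →* S ⧸ Subgroup.zpowers w :=
  QuotientGroup.mk' (Subgroup.zpowers w)

theorem proj_eq_iff (hw : w * w = 1) {a b : S} :
    proj w a = proj w b ↔ b = a ∨ b = a * w := by
  rw [QuotientGroup.mk'_apply, QuotientGroup.mk'_apply, QuotientGroup.eq,
    mem_zpowers_iff_of_sq hw, inv_mul_eq_iff_eq_mul, inv_mul_eq_iff_eq_mul, mul_one]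

theorem commute_proj (hw : w * w = 1) {a b : S} :
    Commute (proj w a) (proj w b) ↔ a * b * a⁻¹ = b ∨ a * b * a⁻¹ = b * w := by
  rw [← proj_eq_iff (a := b) (b := a * b * a⁻¹) hw, map_mul, map_mul, map_inv]
  exact ⟨fun h => (conj_of_commute h).symm, fun h => commute_of_conj h.symm⟩

theorem QPair.commute_proj_self (q : QPair y w) {g : S} :
    Commute (proj w g) (proj w y) ↔ Norm y g := by
  rw [commute_proj q.w_sq]
  refine ⟨fun h => (norm_iff q.abC).2 ?_, q.conj_or⟩
  rcases h with e | e <;> rw [e]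
  exact (Commute.refl y).mul_left q.comm_w

theorem QPair.abC_proj (q : QPair y w) : AbC (proj w y) := by
  intro a b ha hb
  obtain ⟨a, rfl⟩ := QuotientGroup.mk'_surjective _ a
  obtain ⟨b, rfl⟩ := QuotientGroup.mk'_surjective _ b
  have hna := q.commute_proj_self.1 ha
  have hnb := q.commute_proj_self.1 hb
  by_cases hbc : Commute b y
  · exact (commute_proj q.w_sq).2 (q.quad a hna b hbc)
  by_cases hac : Commute a y
  · exact ((commute_proj q.w_sq).2 (q.quad b hnb a hac)).symm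
  have hc := (commute_proj q.w_sq).2 (q.quad a hna _ (q.same hna hnb hac hbc))
  have hb' : proj w b = proj w a * proj w (a⁻¹ * b) := by
    rw [← map_mul, mul_inv_cancel_left]
  show Commute (proj w a) (proj w b)
  rw [hb']
  exact (Commute.refl _).mul_right hc

theorem QPair.norm_proj (q : QPair y w) {g : S} :
    Norm (proj w y) (proj w g) ↔ Norm y (g * y * g⁻¹) := by
  rw [norm_iff q.abC_proj, ← map_inv, ← map_mul, ← map_mul, q.commute_proj_self]

end Quotient

theorem two_of_three [Finite S] (hS : IsPGroup 2 S) (P H : Subgroup S) (f : S → Fin 3)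
    (hf : ∀ g g', g ∈ H → g' ∈ H → f g = f g' → g⁻¹ * g' ∈ P) :
    ∀ g g', g ∈ H → g' ∈ H → g ∉ P → g' ∉ P → g⁻¹ * g' ∈ P := by
  intro g g' hg hg' hgP hgP'
  haveI : Fact (Nat.Prime 2) := ⟨Nat.prime_two⟩
  have hle : Nat.card (H ⧸ P.subgroupOf H) ≤ 3 := by
    have hinj : Function.Injective (fun a : H ⧸ P.subgroupOf H => f (a.out : S)) := by
      intro a b hab
      rw [← QuotientGroup.out_eq' a, ← QuotientGroup.out_eq' b, QuotientGroup.eq,
        Subgroup.mem_subgroupOf]
      simpa using hf _ _ a.out.2 b.out.2 hab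
    simpa using Nat.card_le_card_of_injective _ hinj
  obtain ⟨n, hn⟩ := (hS.to_subgroup H).index (P.subgroupOf H)
  have hle' : (P.subgroupOf H).index ≤ 3 := hle
  have hn' : n = 0 ∨ n = 1 := by
    rcases n with _ | _ | n
    · exact Or.inl rfl
    · exact Or.inr rfl
    · exfalso
      have := Nat.one_le_two_pow (n := n)
      rw [pow_succ, pow_succ] at hn
      omega
  rcases hn' with rfl | rfl
  · rw [pow_zero, Subgroup.index_eq_one] at hn
    exact absurd (Subgroup.mem_subgroupOf.1 (hn ▸ Subgroup.mem_top (⟨g, hg⟩ : H))) hgP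
  · rw [pow_one] at hn
    have h2 := Subgroup.mul_mem_iff_of_index_two hn (a := (⟨g, hg⟩ : H)⁻¹) (b := ⟨g', hg'⟩)
    simp only [inv_mem_iff, Subgroup.mem_subgroupOf] at h2
    simpa using h2.2 ⟨fun h => absurd h hgP, fun h => absurd h hgP'⟩

/-- `k` centralizes `y` and `y'`. -/
def K0 (y y' k : S) : Prop := Commute k y ∧ Commute k y'

section Level

variable {y w y' : S}

theorem QPair.decomp (q : QPair y w) (hn : Norm y y') (hn' : ¬ Commute y' y)
    (hw : ∀ g, Commute g w) {n : S} (h : Norm y n) :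
    ∃ k, K0 y y' k ∧ (n = k ∨ n = y * k ∨ n = y' * k ∨ n = y' * y * k) := by
  have inC : ∀ c, Commute c y → ∃ k, K0 y y' k ∧ (c = k ∨ c = y * k) := by
    intro c hc
    rcases q.quad y' hn c hc with e | e
    · exact ⟨c, ⟨hc, (commute_of_conj e).symm⟩, Or.inl rfl⟩
    · refine ⟨y * c, ⟨(Commute.refl y).mul_left hc, ?_⟩, Or.inr ?_⟩
      · refine (commute_of_conj ?_).symm
        rw [show y' * (y * c) * y'⁻¹ = (y' * y * y'⁻¹) * (y' * c * y'⁻¹) by group,
          q.conj_out hn hn', e, Commute.mul_mul_mul_comm (hw c).symm, q.w_sq, mul_one]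
      · rw [← mul_assoc, q.sq, one_mul]
  by_cases hc : Commute n y
  · obtain ⟨k, hk, h1 | h1⟩ := inC n hc
    exacts [⟨k, hk, Or.inl h1⟩, ⟨k, hk, Or.inr (Or.inl h1)⟩]
  · obtain ⟨k, hk, h1 | h1⟩ := inC _ (q.same hn h hn' hc)
    · exact ⟨k, hk, Or.inr (Or.inr (Or.inl (by rw [← h1, mul_inv_cancel_left])))⟩
    · exact ⟨k, hk, Or.inr (Or.inr (Or.inr (by rw [mul_assoc, ← h1, mul_inv_cancel_left])))⟩

theorem QPair.K0_central (q : QPair y w) (hn : Norm y y') (hn' : ¬ Commute y' y)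
    (hw : ∀ g, Commute g w) {k n : S} (hk : K0 y y' k) (h : Norm y n) : Commute k n := by
  obtain ⟨k', hk', e | e | e | e⟩ := q.decomp hn hn' hw h <;> subst e
  · exact q.comm _ _ hk.1 hk'.1
  · exact hk.1.mul_right (q.comm _ _ hk.1 hk'.1)
  · exact hk.2.mul_right (q.comm _ _ hk.1 hk'.1)
  · exact (hk.2.mul_right hk.1).mul_right (q.comm _ _ hk.1 hk'.1)

theorem QPair.classify (q : QPair y w) (hn : Norm y y') (hn' : ¬ Commute y' y)
    (hab' : AbC y') (hw : ∀ g, Commute g w) {a : S} (ha : AbC a) (h : Norm y a) :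
    Commute a y ∨ Commute a y' ∨ ∃ k, K0 y y' k ∧ a = y' * y * k := by
  obtain ⟨k, hk, e | e | e | e⟩ := q.decomp hn hn' hw h
  · exact absurd (ha y' y (e ▸ hk.2.symm) (e ▸ hk.1.symm)) hn'
  · exact Or.inl (e ▸ (Commute.refl y).mul_left hk.1)
  · exact Or.inr (Or.inl (e ▸ (Commute.refl y').mul_left hk.2))
  · exact Or.inr (Or.inr ⟨k, hk, e⟩)

theorem QPair.index_two [Finite S] (hS : IsPGroup 2 S) (q : QPair y w) {u : S}
    (hu : Norm y (u * y * u⁻¹)) (hu' : ¬ Norm y u) {g g' : S}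
    (hg : Norm y (g * y * g⁻¹)) (hg' : Norm y (g' * y * g'⁻¹)) (hgn : ¬ Norm y g)
    (hgn' : ¬ Norm y g') : Norm y (g⁻¹ * g') := by
  classical
  haveI := zpowers_normal (q.central hS)
  have hmem : ∀ x, x ∈ (normSub (proj w y)).comap (proj w) ↔ Norm y (x * y * x⁻¹) := fun x => by
    rw [Subgroup.mem_comap, mem_normSub, q.norm_proj]
  have hb : ¬ Commute (u * y * u⁻¹) y := fun h => hu' ((norm_iff q.abC).2 h)
  have hab : AbC (u * y * u⁻¹) := q.abC.conj u
  refine mem_normSub.1 (two_of_three hS (normSub y) ((normSub (proj w y)).comap (proj w))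
    (fun x => if Commute (x * y * x⁻¹) y then 0
      else if Commute (x * y * x⁻¹) (u * y * u⁻¹) then 1 else 2) ?_ g g'
    ((hmem g).2 hg) ((hmem g').2 hg') (fun h => hgn (mem_normSub.1 h))
    (fun h => hgn' (mem_normSub.1 h)))
  intro a b ha hb' hab'
  refine mem_normSub.2 (norm_diff q.abC ?_)
  have ha2 := q.classify hu hb hab (q.central hS) (q.abC.conj a) ((hmem a).1 ha)
  have hb2 := q.classify hu hb hab (q.central hS) (q.abC.conj b) ((hmem b).1 hb')
  split_ifs at hab' with h1 h2 h3 h4 h5 h6 h7 h8 <;> try exact absurd hab' (by decide)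
  · exact q.comm _ _ (by assumption) (by assumption)
  · exact hab _ _ (by assumption) (by assumption)
  · obtain ⟨k, hk, ek⟩ := (ha2.resolve_left (by assumption)).resolve_left (by assumption)
    obtain ⟨l, hl, el⟩ := (hb2.resolve_left (by assumption)).resolve_left (by assumption)
    rw [ek, el]
    have hkl : Commute k l := q.comm _ _ hk.1 hl.1
    have hzk : Commute (u * y * u⁻¹ * y) k := (hk.2.mul_right hk.1).symm
    have hzl : Commute (u * y * u⁻¹ * y) l := (hl.2.mul_right hl.1).symm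
    exact ((Commute.refl _).mul_right hzk).mul_left (hzl.symm.mul_right hkl.symm)

theorem Soft.classify (h : Soft y w) (hn : Norm y y') (hn' : ¬ Commute y' y)
    (hy' : y' * y' = 1) (hab' : AbC y') (hw : ∀ g, Commute g w) {a : S} (ha2 : a * a = 1)
    (ha : AbC a) (hna : Norm y a) : Commute a y ∨ Commute a y' := by
  rcases h.qpair.classify hn hn' hab' hw ha hna with e | e | ⟨k, hk, e⟩
  · exact Or.inl e
  · exact Or.inr e
  · exfalso
    have hc : Commute k (y' * y) := hk.2.mul_right hk.1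
    have hz : y' * y * (y' * y) = w := by
      have h1 := h.qpair.conj_out hn hn'
      rw [inv_of_sq hy'] at h1
      rw [← mul_assoc, h1, mul_assoc, h.qpair.comm_w.eq, ← mul_assoc, h.sq, one_mul]
    rw [e, hc.mul_mul_mul_comm, hz] at ha2
    apply h.no_sq k hk.1
    rw [eq_inv_of_mul_eq_one_right ha2, inv_of_sq h.qpair.w_sq]

end Level

theorem card_quot_lt [Finite S] {w : S} (hw : w ≠ 1) :
    Nat.card (S ⧸ Subgroup.zpowers w) < Nat.card S := by
  rw [Subgroup.card_eq_card_quotient_mul_card_subgroup (Subgroup.zpowers w)]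
  apply lt_mul_of_one_lt_right Nat.card_pos
  exact (Subgroup.one_lt_card_iff_ne_bot _).2 (Subgroup.zpowers_ne_bot.2 hw)

theorem soft_proj [Finite S] (hS : IsPGroup 2 S) {y w : S} [(Subgroup.zpowers w).Normal]
    (h : Soft y w) {u : S} (hu : u ∈ Subgroup.normalizer ((normSub y : Subgroup S) : Set S))
    (hu' : ¬ Norm y u) (hM : ∃ v, ¬ Norm y (v * y * v⁻¹)) :
    Soft (proj w y) (proj w (y * (u * y * u⁻¹))) := by
  have q := h.qpair
  have hun := norm_conj_self h.comm hu
  have hS' : IsPGroup 2 (S ⧸ Subgroup.zpowers w) := hS.to_quotient _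
  have hnn : ∃ v, ¬ Norm (proj w y) v := by
    obtain ⟨v, hv⟩ := hM
    exact ⟨proj w v, fun h' => hv (q.norm_proj.1 h')⟩
  obtain ⟨v, hv, hv'⟩ := grow_norm hS' hnn
  have hidx : ∀ g g', Norm (proj w y) g → Norm (proj w y) g' → ¬ Commute g (proj w y) →
      ¬ Commute g' (proj w y) → Commute (g⁻¹ * g') (proj w y) := by
    intro g g' hg hg' hgc hgc'
    obtain ⟨g, rfl⟩ := QuotientGroup.mk'_surjective _ g
    obtain ⟨g', rfl⟩ := QuotientGroup.mk'_surjective _ g'
    rw [← map_inv, ← map_mul]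
    exact q.commute_proj_self.2 (q.index_two hS hun hu' (q.norm_proj.1 hg) (q.norm_proj.1 hg')
      (fun h' => hgc (q.commute_proj_self.2 h')) (fun h' => hgc' (q.commute_proj_self.2 h')))
  have hq := qpair_of_idx (r := proj w u) (by rw [← map_mul, h.sq, map_one]) q.abC_proj hidx
    hv hv' (q.norm_proj.2 hun) (fun h' => hu' (q.commute_proj_self.1 h'))
  rw [← map_inv, ← map_mul, ← map_mul, ← map_mul] at hq
  refine ⟨hq.sq, hq.comm, hq.move, hq.ne, hq.quad, fun e he => ?_, hnn⟩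
  obtain ⟨e, rfl⟩ := QuotientGroup.mk'_surjective _ e
  have hne : Norm y e := q.commute_proj_self.1 he
  have hee : Commute (e * e) y := by
    by_cases hec : Commute e y
    · exact hec.mul_left hec
    · have hei : Norm y e⁻¹ := mem_normSub.1 (inv_mem (mem_normSub.2 hne))
      have h2 := q.same hei hne (fun h' => hec (inv_inv e ▸ h'.inv_left)) hec
      rwa [inv_inv] at h2
  intro heq
  rw [← map_mul, proj_eq_iff q.w_sq] at heq
  have hz : Commute (y * (u * y * u⁻¹)) y := by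
    rcases heq with e' | e'
    · rw [e']; exact hee
    · rw [e']; exact hee.mul_left q.comm_w
  apply hu'
  rw [norm_iff h.comm]
  have h2 := (Commute.refl y).mul_left hz
  rwa [← mul_assoc, h.sq, one_mul] at h2

theorem pair_top {T : Set S} {y₁ y₂ : S} (hS : IsPGroup 2 S) [Finite S]
    (hsoft : ∀ y ∈ T, ∃ w, Soft y w) (hconj : ∀ y ∈ T, ∀ g : S, g * y * g⁻¹ ∈ T)
    (huniq : ∀ y ∈ T, ∀ y' ∈ T, ∀ w, Soft y w →
      (∀ e, Commute e y ↔ Commute e y') → y' = y ∨ y' = y * w)
    (h₁ : y₁ ∈ T) (h₂ : y₂ ∈ T) (hout : ¬ Norm y₁ y₂)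
    (hM : ∀ v, Norm y₁ (v * y₁ * v⁻¹)) :
    ∀ y ∈ T, y ∈ Subgroup.closure ({y₁, y₂} : Set S) := by
  obtain ⟨w, hw⟩ := hsoft y₁ h₁
  have q := hw.qpair
  have hc := hw.central hS
  have hsame : ∀ y ∈ T, ∀ w', Soft y w' → w' = w := fun y _ w' h => hw.eq_w hS h
  have hsoftw : ∀ y ∈ T, Soft y w := fun y hy => by
    obtain ⟨w', h⟩ := hsoft y hy
    exact hsame y hy w' h ▸ h
  have hncomm : ¬ Commute y₁ y₂ := fun h => hout (norm_of_commute hw.comm h.symm)
  have hm1 : y₁ ∈ Subgroup.closure ({y₁, y₂} : Set S) := Subgroup.subset_closure (by simp)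
  have hm2 : y₂ ∈ Subgroup.closure ({y₁, y₂} : Set S) := Subgroup.subset_closure (by simp)
  have hwm : w ∈ Subgroup.closure ({y₁, y₂} : Set S) :=
    q.w_mem hS (hsoftw y₂ h₂).sq hncomm
  have huni : ∀ g ∈ T, g ∈ Subgroup.closure ({y₁, y₂} : Set S) →
      ∀ y ∈ T, Commute y g → y ∈ Subgroup.closure ({y₁, y₂} : Set S) := by
    intro g hg hgm y hy hyg
    rcases huniq g hg y hy w (hsoftw g hg)
      ((show AbC g from (hsoftw g hg).comm).eq_cent (hsoftw y hy).comm hyg) with e | e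
    · rw [e]; exact hgm
    · rw [e]; exact mul_mem hgm hwm
  have h2i : y₂⁻¹ = y₂ := inv_of_sq (hsoftw y₂ h₂).sq
  have hn' : Norm y₁ (y₂ * y₁ * y₂⁻¹) := hM y₂
  have hnc : ¬ Commute (y₂ * y₁ * y₂⁻¹) y₁ := fun h => hout ((norm_iff hw.comm).2 h)
  intro y hy
  have hys := hsoftw y hy
  by_cases hyn : Norm y₁ y
  · rcases hw.classify hn' hnc (hsoftw _ (hconj _ h₁ y₂)).sq (hsoftw _ (hconj _ h₁ y₂)).comm hc
      hys.sq hys.comm hyn with e | e
    · exact huni y₁ h₁ hm1 y hy e
    · exact huni _ (hconj _ h₁ y₂) (mul_mem (mul_mem hm2 hm1) (inv_mem hm2)) y hy e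
  have hK : ∀ s k, K0 y₁ (y₂ * y₁ * y₂⁻¹) k → K0 y₁ (y₂ * y₁ * y₂⁻¹) (s * k * s⁻¹) := by
    intro s k hk
    have hgen : ∀ a, Norm y₁ (s⁻¹ * a * s) → Commute (s * k * s⁻¹) a := fun a ha => by
      have h3 := (commute_conj_iff s _ _).2 (q.K0_central hn' hnc hc hk ha)
      rwa [show s * (s⁻¹ * a * s) * s⁻¹ = a by group] at h3
    refine ⟨hgen _ ?_, hgen _ ?_⟩
    · have h3 := hM s⁻¹
      rwa [inv_inv] at h3
    · have h3 := hM (s⁻¹ * y₂)
      rwa [show s⁻¹ * y₂ * y₁ * (s⁻¹ * y₂)⁻¹ = s⁻¹ * (y₂ * y₁ * y₂⁻¹) * s by group] at h3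
  -- a reflection
  have refl' : ∀ g ∈ T, g ∈ Subgroup.closure ({y₁, y₂} : Set S) → ∀ k,
      K0 y₁ (y₂ * y₁ * y₂⁻¹) k → y = g * k →
        y ∈ Subgroup.closure ({y₁, y₂} : Set S) := by
    intro g hg hgm k hk hyk
    have hgs := hsoftw g hg
    have hgi := inv_of_sq hgs.sq
    have hinv : g * k * g⁻¹ = k⁻¹ := by
      rw [hgi]
      have h3 := hys.sq
      rw [hyk, ← mul_assoc] at h3
      exact eq_inv_of_mul_eq_one_left h3
    have hk2 : k * k = 1 := by
      by_contra hne
      obtain ⟨m, hm, hm4⟩ := exists_four hS hne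
      have hmi := conj_pow_eq hinv m
      have hkc : Commute (k ^ m) y₁ := hk.1.pow_left m
      generalize k ^ m = i at hm hm4 hmi hkc
      have hii : i⁻¹ * i⁻¹ = i * i := by rw [← mul_inv_rev]; exact inv_of_sq hm4
      have h3 : i * g * i⁻¹ = g * (i * i) := by
        calc i * g * i⁻¹ = g * (g⁻¹ * i * g) * i⁻¹ := by group
          _ = g * (g * i * g⁻¹) * i⁻¹ := by rw [hgi]
          _ = g * (i * i) := by rw [hmi, mul_assoc, hii]
      have h4 : Commute (i * i) g := by
        refine (commute_of_conj ?_).symm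
        rw [show g * (i * i) * g⁻¹ = (g * i * g⁻¹) * (g * i * g⁻¹) by group, hmi, hii]
      exact hw.no_sq i hkc ((hgs.qpair.d_eq h3 h4).resolve_left hm)
    refine huni g hg hgm y hy ?_
    rw [hyk]
    exact (Commute.refl g).mul_left (commute_of_conj (hinv.trans (inv_of_sq hk2))).symm
  -- a rotation
  have rot : ∀ g k, K0 y₁ (y₂ * y₁ * y₂⁻¹) k → y = g * k → Commute (g * g) y₁ := by
    intro g k hk hyk
    have h4 := hys.sq
    rw [hyk] at h4
    have h3 : g * g = ((g⁻¹ * k * g) * k)⁻¹ := by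
      apply eq_inv_of_mul_eq_one_left
      calc g * g * (g⁻¹ * k * g * k) = g * k * (g * k) := by group
        _ = 1 := h4
    rw [h3]
    have h5 := hK g⁻¹ k hk
    rw [inv_inv] at h5
    exact (h5.1.mul_left hk.1).inv_left
  have hin := q.index_two hS (hM y₂) hout (hM y₂) (hM y) hout hyn
  obtain ⟨k, hk, e⟩ := q.decomp hn' hnc hc hin
  have hy2 : y = y₂ * (y₂⁻¹ * y) := (mul_inv_cancel_left _ _).symm
  have h1i : y₁⁻¹ = y₁ := inv_of_sq hw.sq
  rcases e with e | e | e | e <;> rw [e] at hy2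
  · exact refl' y₂ h₂ hm2 k hk hy2
  · exfalso
    have h3 := rot (y₂ * y₁) k hk (by rw [hy2, mul_assoc])
    apply hnc
    have h4 := h3.mul_left (Commute.refl y₁)
    rwa [show y₂ * y₁ * (y₂ * y₁) * y₁ = y₂ * y₁ * y₂ * (y₁ * y₁) by group, hw.sq, mul_one,
      show y₂ * y₁ * y₂ = y₂ * y₁ * y₂⁻¹ by rw [h2i]] at h4
  · exfalso
    have h5 : y₂ * (y₂ * y₁ * y₂⁻¹ * k) = y₁ * y₂ * k := by
      calc y₂ * (y₂ * y₁ * y₂⁻¹ * k) = y₂ * y₂ * y₁ * y₂⁻¹ * k := by group
        _ = y₁ * y₂ * k := by rw [(hsoftw y₂ h₂).sq, one_mul, h2i]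
    have h3 := rot (y₁ * y₂) k hk (hy2.trans h5)
    apply hnc
    have h4 := (Commute.refl y₁).mul_left h3
    rwa [show y₁ * (y₁ * y₂ * (y₁ * y₂)) = (y₁ * y₁) * (y₂ * y₁ * y₂) by group, hw.sq, one_mul,
      show y₂ * y₁ * y₂ = y₂ * y₁ * y₂⁻¹ by rw [h2i]] at h4
  · refine refl' (y₁ * y₂ * y₁⁻¹) (hconj _ h₂ y₁)
      (mul_mem (mul_mem hm1 hm2) (inv_mem hm1)) k hk (hy2.trans ?_)
    rw [h2i, h1i, show y₂ * (y₂ * y₁ * y₂ * y₁ * k) = y₂ * y₂ * (y₁ * y₂ * y₁ * k) by group,
      (hsoftw y₂ h₂).sq, one_mul]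

theorem exists_pair_aux (n : ℕ) : ∀ {S : Type u} [Group S] [Finite S], Nat.card S = n →
    IsPGroup 2 S → ∀ T : Set S, T.Nonempty → (∀ y ∈ T, ∃ w, Soft y w) →
    (∀ y ∈ T, ∀ g : S, g * y * g⁻¹ ∈ T) →
    (∀ y ∈ T, ∀ y' ∈ T, ∀ w, Soft y w →
      (∀ e, Commute e y ↔ Commute e y') → y' = y ∨ y' = y * w) →
    ∃ a ∈ T, ∃ b ∈ T, ¬ Commute a b ∧ ∀ y ∈ T, y ∈ Subgroup.closure ({a, b} : Set S) := by
  induction n using Nat.strong_induction_on with
  | _ n ih =>
  intro S _ _ hcard hS T hne hsoft hconj huniq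
  obtain ⟨y₀, hy₀⟩ := hne
  obtain ⟨w, hw₀⟩ := hsoft y₀ hy₀
  have hsoftw : ∀ y ∈ T, Soft y w := fun y hy => by
    obtain ⟨w', h⟩ := hsoft y hy
    exact hw₀.eq_w hS h ▸ h
  have hc := hw₀.central hS
  haveI := zpowers_normal hc
  by_cases hall : ∀ y ∈ T, ∃ v, ¬ Norm y (v * y * v⁻¹)
  · -- recursion modulo w
    have hS' : IsPGroup 2 (S ⧸ Subgroup.zpowers w) := hS.to_quotient _
    have hs' : ∀ p ∈ proj w '' T, ∃ w', Soft p w' := by
      rintro _ ⟨y, hy, rfl⟩
      obtain ⟨u, hu, hu'⟩ := grow_norm hS (hsoftw y hy).not_normal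
      exact ⟨_, soft_proj hS (hsoftw y hy) hu hu' (hall y hy)⟩
    have hc' : ∀ p ∈ proj w '' T, ∀ g, g * p * g⁻¹ ∈ proj w '' T := by
      rintro _ ⟨y, hy, rfl⟩ g
      obtain ⟨g, rfl⟩ := QuotientGroup.mk'_surjective _ g
      exact ⟨g * y * g⁻¹, hconj y hy g, by rw [map_mul, map_mul, map_inv]⟩
    have hu' : ∀ p ∈ proj w '' T, ∀ p' ∈ proj w '' T, ∀ w', Soft p w' →
        (∀ e, Commute e p ↔ Commute e p') → p' = p ∨ p' = p * w' := by
      rintro _ ⟨y, hy, rfl⟩ _ ⟨y', hy', rfl⟩ w' hsw heq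
      have hys := hsoftw y hy
      have hys' := hsoftw y' hy'
      obtain ⟨u, hu, hu'⟩ := grow_norm hS hys.not_normal
      have hw' : proj w (y * (u * y * u⁻¹)) = w' :=
        hsw.eq_w hS' (soft_proj hS hys hu hu' (hall y hy))
      have hnn : Norm y y' := hys.qpair.commute_proj_self.1 ((heq _).2 (Commute.refl _))
      have hus := hsoftw _ (hconj y hy u)
      rcases hys.classify (norm_conj_self hys.comm hu)
        (fun h => hu' ((norm_iff hys.comm).2 h)) hus.sq hus.comm hc hys'.sq hys'.comm hnn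
        with e | e
      · left
        rcases huniq y hy y' hy' w hys
          ((show AbC y from hys.comm).eq_cent hys'.comm e) with e' | e' <;>
          exact ((proj_eq_iff hys.qpair.w_sq).2 (by simp [e'])).symm
      · right
        rw [← hw', ← map_mul, ← mul_assoc, hys.sq, one_mul]
        rcases huniq _ (hconj y hy u) y' hy' w hus
          ((show AbC (u * y * u⁻¹) from hus.comm).eq_cent hys'.comm e) with e' | e' <;>
          exact ((proj_eq_iff hys.qpair.w_sq).2 (by simp [e'])).symm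
    obtain ⟨_, ⟨a, ha, rfl⟩, _, ⟨b, hb, rfl⟩, hab, hgen⟩ :=
      ih _ (hcard ▸ card_quot_lt hw₀.ne) rfl hS' (proj w '' T) ⟨_, y₀, hy₀, rfl⟩ hs' hc' hu'
    have hab' : ¬ Commute a b := fun h => hab (h.map (proj w))
    refine ⟨a, ha, b, hb, hab', fun y hy => ?_⟩
    have h1 := hgen _ ⟨y, hy, rfl⟩
    rw [← Set.image_pair, ← MonoidHom.map_closure] at h1
    obtain ⟨g, hg, e⟩ := h1
    rcases (proj_eq_iff hw₀.qpair.w_sq).1 e with e' | e' <;> rw [e']
    · exact hg
    · exact mul_mem hg ((hsoftw a ha).qpair.w_mem hS (hsoftw b hb).sq hab')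
  · obtain ⟨y₁, hy₁⟩ := not_forall.1 hall
    rw [Classical.not_imp, not_exists] at hy₁
    obtain ⟨h₁, hM⟩ := hy₁
    simp only [not_not] at hM
    have hs₁ := hsoftw y₁ h₁
    by_cases hin : ∀ y ∈ T, Norm y₁ y
    · obtain ⟨u, hu, hu'⟩ := grow_norm hS hs₁.not_normal
      have hbT := hconj y₁ h₁ u
      have hbs := hsoftw _ hbT
      have hnc : ¬ Commute (u * y₁ * u⁻¹) y₁ := fun h => hu' ((norm_iff hs₁.comm).2 h)
      refine ⟨y₁, h₁, _, hbT, fun h => hnc h.symm, fun y hy => ?_⟩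
      have hwm : w ∈ Subgroup.closure ({y₁, u * y₁ * u⁻¹} : Set S) :=
        hs₁.qpair.w_mem hS hbs.sq (fun h => hnc h.symm)
      rcases hs₁.classify (hM u) hnc hbs.sq hbs.comm hc (hsoftw y hy).sq (hsoftw y hy).comm
        (hin y hy) with e | e
      · rcases huniq y₁ h₁ y hy w hs₁
          ((show AbC y₁ from hs₁.comm).eq_cent (hsoftw y hy).comm e) with e' | e' <;> rw [e']
        · exact Subgroup.subset_closure (by simp)
        · exact mul_mem (Subgroup.subset_closure (by simp)) hwm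
      · rcases huniq _ hbT y hy w hbs
          ((show AbC (u * y₁ * u⁻¹) from hbs.comm).eq_cent (hsoftw y hy).comm e)
          with e' | e' <;> rw [e']
        · exact Subgroup.subset_closure (by simp)
        · exact mul_mem (Subgroup.subset_closure (by simp)) hwm
    · push Not at hin
      obtain ⟨y₂, h₂, hout⟩ := hin
      exact ⟨y₁, h₁, y₂, h₂, fun h => hout (norm_of_commute hs₁.comm h.symm),
        pair_top hS hsoft hconj huniq h₁ h₂ hout hM⟩

theorem exists_pair [Finite S] (hS : IsPGroup 2 S) (T : Set S) (hne : T.Nonempty)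
    (hsoft : ∀ y ∈ T, ∃ w, Soft y w) (hconj : ∀ y ∈ T, ∀ g : S, g * y * g⁻¹ ∈ T)
    (huniq : ∀ y ∈ T, ∀ y' ∈ T, ∀ w, Soft y w →
      (∀ e, Commute e y ↔ Commute e y') → y' = y ∨ y' = y * w) :
    ∃ a ∈ T, ∃ b ∈ T, ¬ Commute a b ∧ ∀ y ∈ T, y ∈ Subgroup.closure ({a, b} : Set S) :=
  exists_pair_aux _ rfl hS T hne hsoft hconj huniq

theorem cyclic_aux (n : ℕ) : ∀ {S : Type u} [Group S] [Finite S], Nat.card S = n →
    IsPGroup 2 S → ∀ y : S, y * y = 1 → AbC y →
    (∀ g g', Norm y g → Norm y g' → ¬ Commute g y → ¬ Commute g' y → Commute (g⁻¹ * g') y) →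
    ∀ (K : Subgroup S) [K.Normal], (∀ e, Commute e y → e ∈ K) → IsCyclic (S ⧸ K) := by
  induction n using Nat.strong_induction_on with
  | _ n ih =>
  intro S _ _ hcard hS y hy hyab hidx K _ hK
  by_cases hN : ∀ g, Norm y g
  · by_cases hex : ∃ g₀, ¬ Commute g₀ y
    · obtain ⟨g₀, hg₀⟩ := hex
      refine ⟨⟨(g₀ : S ⧸ K), fun x => ?_⟩⟩
      induction x using QuotientGroup.induction_on with
      | _ x =>
        by_cases hx : Commute x y
        · refine ⟨0, ?_⟩
          show (g₀ : S ⧸ K) ^ (0 : ℤ) = _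
          rw [zpow_zero]
          exact ((QuotientGroup.eq_one_iff x).2 (hK x hx)).symm
        · refine ⟨1, ?_⟩
          show (g₀ : S ⧸ K) ^ (1 : ℤ) = _
          rw [zpow_one, QuotientGroup.eq]
          exact hK _ (hidx g₀ x (hN _) (hN _) hg₀ hx)
    · simp only [not_exists, not_not] at hex
      refine ⟨⟨1, fun x => ?_⟩⟩
      induction x using QuotientGroup.induction_on with
      | _ x =>
        refine ⟨0, ?_⟩
        show (1 : S ⧸ K) ^ (0 : ℤ) = _
        rw [zpow_zero]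
        exact ((QuotientGroup.eq_one_iff x).2 (hK x (hex x))).symm
  push Not at hN
  have ht : ∃ t ∈ K, ¬ Commute t y := by
    by_contra hno
    push Not at hno
    obtain ⟨g, hg⟩ := hN
    exact hg ((norm_iff hyab).2
      (hno _ (Subgroup.Normal.conj_mem inferInstance _ (hK y (Commute.refl y)) g)))
  obtain ⟨t, htK, ht⟩ := ht
  have hcK : ∀ a b : K, Commute a b ↔ Commute (a : S) b := fun a b =>
    ⟨fun h => h.map K.subtype, fun h => Subtype.ext h⟩
  have hyK : AbC (⟨y, hK y (Commute.refl y)⟩ : K) := fun a b ha hb =>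
    (hcK a b).2 (hyab _ _ ((hcK _ _).1 ha) ((hcK _ _).1 hb))
  obtain ⟨r, hr, hr'⟩ := exists_norm (hS.to_subgroup K) (y := ⟨y, hK y (Commute.refl y)⟩)
    (t := ⟨t, htK⟩) (fun h => ht ((hcK _ _).1 h))
  have hrS : Norm y (r : S) := (norm_iff hyab).2 (by
    have h2 := (hcK _ _).1 ((norm_iff hyK).1 hr)
    simpa using h2)
  have hrc : ¬ Commute (r : S) y := fun h => hr' ((hcK _ _).2 h)
  have hNK : ∀ g, Norm y g → g ∈ K := fun g hg => by
    by_cases hgc : Commute g y
    · exact hK g hgc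
    · have h2 := mul_mem r.2 (hK _ (hidx r g hrS hg hrc hgc))
      rwa [mul_inv_cancel_left] at h2
  obtain ⟨u, hu, hu'⟩ := grow_norm hS hN
  have q := qpair_of_idx hy hyab hidx hu hu' hrS hrc
  generalize y * ((r : S) * y * (r : S)⁻¹) = w at q
  haveI := zpowers_normal (q.central hS)
  have hun := norm_conj_self hyab hu
  haveI : (K.map (proj w)).Normal :=
    Subgroup.Normal.map inferInstance _ (QuotientGroup.mk'_surjective _)
  have hKw : Subgroup.zpowers w ≤ K := Subgroup.zpowers_le.2 (hK w q.comm_w)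
  have hcyc : IsCyclic ((S ⧸ Subgroup.zpowers w) ⧸ K.map (proj w)) := by
    refine ih _ (hcard ▸ card_quot_lt q.ne) rfl (hS.to_quotient _) (proj w y)
      (by rw [← map_mul, hy, map_one]) q.abC_proj ?_ (K.map (proj w)) ?_
    · intro g g' hg hg' hgc hgc'
      obtain ⟨g, rfl⟩ := QuotientGroup.mk'_surjective _ g
      obtain ⟨g', rfl⟩ := QuotientGroup.mk'_surjective _ g'
      rw [← map_inv, ← map_mul]
      exact q.commute_proj_self.2 (q.index_two hS hun hu' (q.norm_proj.1 hg) (q.norm_proj.1 hg')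
        (fun h' => hgc (q.commute_proj_self.2 h')) (fun h' => hgc' (q.commute_proj_self.2 h')))
    · intro e he
      obtain ⟨e, rfl⟩ := QuotientGroup.mk'_surjective _ e
      exact Subgroup.mem_map_of_mem _ (hNK e (q.commute_proj_self.1 he))
  exact (MulEquiv.isCyclic (QuotientGroup.quotientQuotientEquivQuotient _ K hKw)).1 hcyc

theorem cyclic_quotient [Finite S] (hS : IsPGroup 2 S) {y : S} (hy : y * y = 1) (hy1 : y ≠ 1)
    (hcomm : ∀ a b, Commute a y → Commute b y → Commute a b)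
    (hidx : ∀ g g', Norm y g → Norm y g' → ¬ Commute g y → ¬ Commute g' y →
      Commute (g⁻¹ * g') y)
    (K : Subgroup S) [K.Normal] (hK : ∀ e, Commute e y → e ∈ K) : IsCyclic (S ⧸ K) :=
  cyclic_aux _ rfl hS y hy hcomm hidx K hK

end CfsgLib.AbelianInter
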