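import Cfsg.Agent.Lib.Invol.AbelianInter.Twin
import Cfsg.Agent.Lib.Invol.AbelianInter.Soft
import Mathlib.GroupTheory.SpecificGroups.Cyclic

/-!
# A nonnormal essential subgroup meets its twin in index two

Otherwise no further essential subgroup leaves `N = S ⊓ N(E)`, which then holds all fusion quotients.
-/

set_option autoImplicit false
set_option linter.unusedSectionVars false

namespace CfsgLib.AbelianInter

open Subgroup

universe u

/-- With an elementary abelian `N` of index two, the centralizer of an outside element is normal. -/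
theorem centralizer_normal_of_two {H : Type*} [Group H] {N : Subgroup H} {a : H}
    (hcomm : ∀ m ∈ N, ∀ n ∈ N, Commute m n) (hexp : ∀ n ∈ N, n * n = 1) (hn : ∀ n ∈ N, a * n * a⁻¹ ∈ N)
    (ha : a * a ∈ N) (hall : ∀ h : H, h ∈ N ∨ a⁻¹ * h ∈ N) : (centralizer ({a} : Set H)).Normal := by
  have key : ∀ n ∈ N, ∀ k : H, Commute k a → Commute (n * k * n⁻¹) a := by
    intro n hn' k hk
    rcases hall k with hkN | hkN
    · rwa [(hcomm n hn' k hkN).eq, mul_inv_cancel_right]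
    · have hm : Commute (a⁻¹ * k) a := (Commute.inv_left (Commute.refl a)).mul_left hk
      have hu : Commute (n * (a * n * a⁻¹)) a := by
        refine mul_inv_eq_iff_eq_mul.1 ?_ |>.symm
        have h2 : Commute (a * a) n := hcomm _ ha _ hn'
        rw [show a * (n * (a * n * a⁻¹)) * a⁻¹ = a * n * a⁻¹ * (a * a * n * (a * a)⁻¹) by group, h2.eq,
          mul_inv_cancel_right]
        exact (hcomm _ (hn n hn') _ hn').eq
      have hinv : n⁻¹ = n := inv_eq_of_mul_eq_one_left (hexp n hn')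
      have h3 : n * k * n⁻¹ = n * (a * n * a⁻¹) * a * (a⁻¹ * k) := by
        have h4 : Commute (a⁻¹ * k) n⁻¹ := hcomm _ hkN _ (inv_mem hn')
        calc n * k * n⁻¹ = n * a * (a⁻¹ * k * n⁻¹) := by group
          _ = n * a * (n⁻¹ * (a⁻¹ * k)) := by rw [h4.eq]
          _ = n * a * (n * (a⁻¹ * k)) := by rw [hinv]
          _ = _ := by group
      rw [h3]
      exact (hu.mul_left (Commute.refl a)).mul_left hm
  refine ⟨fun h hh g => ?_⟩
  rw [mem_centralizer_singleton_iff] at hh ⊢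
  rcases hall g with hg | hg
  · exact key g hg h hh
  · have h1 : Commute (a⁻¹ * g * h * (a⁻¹ * g)⁻¹) a := key _ hg h hh
    have h2 : g * h * g⁻¹ = a * (a⁻¹ * g * h * (a⁻¹ * g)⁻¹) * a⁻¹ := by group
    rw [h2, h1.symm.eq, mul_inv_cancel_right]
    exact h1.eq

variable {G : Type u} [Group G] [Finite G] {S : Sylow 2 G} {E : Subgroup G} {x : G}

namespace Twin

variable (hA : InterAb G) (h : Twin S E x)
include hA h

theorem conj_mem' {g : G} (hg : g ∈ (S : Subgroup G) ⊓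
    normalizer (((S : Subgroup G) ⊓ normalizer (E : Set G) : Subgroup G) : Set G)) {z : G}
    (hz : z ∈ E ⊓ twin E x) : g * z * g⁻¹ ∈ E ⊓ twin E x :=
  h.conj_mem hA hg.1 hg.2 hz

/-- The squares of `N` are in `E ⊓ twin E x`. -/
theorem sq_inf {n : G} (hn : n ∈ (S : Subgroup G) ⊓ normalizer (E : Set G)) :
    n * n ∈ E ⊓ twin E x := by
  obtain ⟨D, hD⟩ := h.pair hA
  obtain ⟨f, hf, e, he, rfl⟩ := h.exists_decomp hA hn
  obtain ⟨d₁, hd₁, h₁⟩ := h.sq_mem hA hD (Or.inr hf)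
  obtain ⟨d₂, hd₂, h₂⟩ := h.sq_mem hA hD (Or.inl he)
  have h3 := h.comm_mem hA (h.ess.le_inf he) (h.twin_le hf)
  have h4 : f * e * (f * e) = f * (e * f * e⁻¹ * f⁻¹) * f⁻¹ * (f * f) * (e * e) := by group
  rw [h4, ← (h.central hA h3 (h.twin_le hf)).eq, mul_inv_cancel_right, h₁, h₂]
  exact mul_mem (mul_mem h3 (mul_mem (hD.le hd₁) (hD.le hd₁))) (mul_mem (hD.le hd₂) (hD.le hd₂))

/-- An outside element `p` fixing `F ⊓ N(E)` is not there when the index exceeds two. -/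
theorem false_of_outside {F : Subgroup G} (hF : Ess S F)
    (hFP : F ≤ (S : Subgroup G) ⊓ normalizer (((S : Subgroup G) ⊓ normalizer (E : Set G) : Subgroup G) : Set G))
    (hxF : x ∈ F) {p : G}
    (hp : p ∈ (S : Subgroup G) ⊓ normalizer (((S : Subgroup G) ⊓ normalizer (E : Set G) : Subgroup G) : Set G))
    (hpn : p ∈ normalizer (F : Set G)) (hpF : p ∉ F) (hp2 : p * p ∈ F)
    (hfix : ∀ v ∈ F, v ∈ (S : Subgroup G) ⊓ normalizer (E : Set G) → Commute p v)
    {e₁ e₂ : G} (he₁ : e₁ ∈ E) (he₂ : e₂ ∈ E) (h₁ : e₁ ∉ twin E x) (h₂ : e₂ ∉ twin E x)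
    (h₁₂ : e₁⁻¹ * e₂ ∉ twin E x) : False := by
  set N := (S : Subgroup G) ⊓ normalizer (E : Set G) with hN
  set P₁ := (S : Subgroup G) ⊓ normalizer (N : Set G) with hP₁
  have hpx : p * x * p⁻¹ ∈ F := (mem_normalizer_iff.1 hpn x).1 hxF
  obtain ⟨hidx, y, hy, hy2, hy1, -, hyc⟩ := hF.of_transv hA (w := x⁻¹ * (p * x * p⁻¹)) hp.1 hpn hpF hp2
    fun v hv _ => by
      rcases h.mem_or_mem hA (hFP hv).1 (hFP hv).2 with hvN | hvN
      · exact Or.inl (mul_inv_eq_iff_eq_mul.2 (hfix v hv hvN).eq)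
      · refine Or.inr ?_
        have hn : x⁻¹ * v ∈ F := mul_mem (inv_mem hxF) hv
        have h3 : Commute p (x⁻¹ * v) := hfix _ hn hvN
        calc p * v * p⁻¹ = p * x * p⁻¹ * (p * (x⁻¹ * v) * p⁻¹) := by group
          _ = p * x * p⁻¹ * (x⁻¹ * v) := by rw [h3.eq, mul_inv_cancel_right]
          _ = x⁻¹ * v * (p * x * p⁻¹) := (hF.comm _ hpx _ hn).eq
          _ = x⁻¹ * (v * (p * x * p⁻¹)) := by group
          _ = x⁻¹ * (p * x * p⁻¹) * v := by rw [(hF.comm _ hv _ hpx).eq]; group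
          _ = _ := (hF.comm _ (mul_mem (inv_mem hxF) hpx) _ hv).eq
  -- the centralizer of `y` in `P₁`
  have hcy : ∀ g : P₁, Commute g ⟨y, hFP hy⟩ ↔ (g : G) ∈ F := fun g =>
    ⟨fun hg => hyc g g.2.1 (congrArg Subtype.val hg), fun hg => Subtype.ext (hF.comm g hg y hy)⟩
  have hnorm : ∀ g : P₁, Norm (⟨y, hFP hy⟩ : P₁) g → (g : G) ∈ normalizer (F : Set G) := fun g hg =>
    mem_normalizer_fintype fun z hz => (hcy _).1 ((hg ⟨z, hFP hz⟩).1 ((hcy _).2 hz))
  -- the quotient by `E ⊓ twin E x`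
  set Z := (E ⊓ twin E x).subgroupOf P₁ with hZd
  haveI hZ : Z.Normal := ⟨fun z hz g => mem_subgroupOf.2 (h.conj_mem' hA g.2 (mem_subgroupOf.1 hz))⟩
  set π := QuotientGroup.mk' Z with hπ
  have hxP : x ∈ P₁ := ⟨h.xS, h.xN⟩
  set a := π ⟨x, hxP⟩ with ha
  have hNP : N ≤ P₁ := fun n hn => ⟨hn.1, le_normalizer hn⟩
  haveI : (centralizer ({a} : Set (P₁ ⧸ Z))).Normal := by
    refine centralizer_normal_of_two (N := (N.subgroupOf P₁).map π) ?_ ?_ ?_ ?_ ?_
    · rintro _ ⟨m, hm, rfl⟩ _ ⟨n, hn, rfl⟩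
      refine commutatorElement_eq_one_iff_commute.1 ?_
      rw [commutatorElement_def, ← map_inv, ← map_inv, ← map_mul, ← map_mul, ← map_mul]
      exact (QuotientGroup.eq_one_iff _).2 (mem_subgroupOf.2 (h.comm_mem hA hm hn))
    · rintro _ ⟨n, hn, rfl⟩
      rw [← map_mul]
      exact (QuotientGroup.eq_one_iff _).2 (mem_subgroupOf.2 (h.sq_inf hA hn))
    · rintro _ ⟨n, hn, rfl⟩
      refine ⟨⟨x, hxP⟩ * n * ⟨x, hxP⟩⁻¹, ?_, by rw [map_mul, map_mul, map_inv, ha]⟩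
      exact mem_subgroupOf.2 ((mem_normalizer_iff.1 h.xN n).1 hn)
    · refine ⟨⟨x, hxP⟩ * ⟨x, hxP⟩, ?_, map_mul π _ _⟩
      rcases h.mem_or_mem hA (mul_mem h.xS h.xS) (mul_mem h.xN h.xN) with hm | hm
      · exact mem_subgroupOf.2 hm
      · rw [inv_mul_cancel_left] at hm
        exact absurd hm.2 h.xn
    · intro k
      obtain ⟨k, rfl⟩ := QuotientGroup.mk'_surjective Z k
      rcases h.mem_or_mem hA k.2.1 k.2.2 with hk | hk
      · exact Or.inl ⟨k, hk, rfl⟩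
      · exact Or.inr ⟨⟨x, hxP⟩⁻¹ * k, hk, by rw [map_mul, map_inv, ha]⟩
  set K := (centralizer ({a} : Set (P₁ ⧸ Z))).comap π with hKd
  haveI : K.Normal := inferInstanceAs ((centralizer ({a} : Set (P₁ ⧸ Z))).comap π).Normal
  have hcyc : IsCyclic (P₁ ⧸ K) := by
    refine cyclic_quotient (S.2.to_le inf_le_left) (y := (⟨y, hFP hy⟩ : P₁)) (Subtype.ext hy2)
      (fun e => hy1 (congrArg Subtype.val e)) (fun b c hb hc => Subtype.ext (hF.comm b ((hcy b).1 hb) c
        ((hcy c).1 hc))) (fun g g' hg hg' hgc hgc' => (hcy _).2 ?_) K fun e he => ?_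
    · rcases hidx g g.2.1 (hnorm g hg) with h1 | h1
      · exact absurd ((hcy g).2 h1) hgc
      rcases hidx g' g'.2.1 (hnorm g' hg') with h2 | h2
      · exact absurd ((hcy g').2 h2) hgc'
      have h3 := mul_mem (inv_mem h1) h2
      simpa [mul_assoc] using h3
    · refine mem_comap.2 (mem_centralizer_singleton_iff.2 ?_)
      rw [ha, ← map_mul, ← map_mul]
      exact congrArg π (Subtype.ext (hF.comm _ ((hcy e).1 he) x hxF))
  -- `E` covers a group of exponent two outside `K`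
  have hEP : E ≤ P₁ := h.ess.le_inf.trans hNP
  have hEK : ∀ e (he : e ∈ E), (⟨e, hEP he⟩ : P₁) ∈ K → e ∈ twin E x := fun e he hm => by
    have h3 := mem_centralizer_singleton_iff.1 (mem_comap.1 hm)
    rw [ha, ← map_mul, ← map_mul] at h3
    have h4 : (e * x)⁻¹ * (x * e) ∈ E ⊓ twin E x := mem_subgroupOf.1 (QuotientGroup.eq.1 h3)
    have h5 : x⁻¹ * e⁻¹ * x * e ∈ E := by simpa [mul_assoc] using h4.1
    have h6 : x⁻¹ * e⁻¹ * x ∈ E := by simpa using mul_mem h5 (inv_mem he)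
    have h7 := inv_mem h6
    rw [show (x⁻¹ * e⁻¹ * x)⁻¹ = x⁻¹ * e * x by group] at h7
    exact mem_map_conj.2 h7
  classical
  haveI : Fintype (P₁ ⧸ K) := Fintype.ofFinite _
  have hle := IsCyclic.card_pow_eq_one_le (α := P₁ ⧸ K) (n := 2) two_pos
  set b₁ : P₁ ⧸ K := QuotientGroup.mk ⟨e₁, hEP he₁⟩ with hb₁
  set b₂ : P₁ ⧸ K := QuotientGroup.mk ⟨e₂, hEP he₂⟩ with hb₂
  have hsq : ∀ e (he : e ∈ E), (QuotientGroup.mk ⟨e, hEP he⟩ : P₁ ⧸ K) ^ 2 = 1 := fun e he => by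
    rw [pow_two, ← QuotientGroup.mk_mul, QuotientGroup.eq_one_iff]
    refine mem_comap.2 ?_
    have h0 : π (⟨e, hEP he⟩ * ⟨e, hEP he⟩) = 1 :=
      (QuotientGroup.eq_one_iff _).2 (mem_subgroupOf.2 (h.sq_inf hA (h.ess.le_inf he)))
    rw [h0]
    exact one_mem _
  have hne₁ : b₁ ≠ 1 := fun e => h₁ (hEK e₁ he₁ ((QuotientGroup.eq_one_iff _).1 e))
  have hne₂ : b₂ ≠ 1 := fun e => h₂ (hEK e₂ he₂ ((QuotientGroup.eq_one_iff _).1 e))
  have hne₁₂ : b₁ ≠ b₂ := fun e => h₁₂ (hEK _ (mul_mem (inv_mem he₁) he₂) (QuotientGroup.eq.1 e))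
  have hsub : ({1, b₁, b₂} : Finset (P₁ ⧸ K)) ⊆ Finset.univ.filter (fun z => z ^ 2 = 1) := by
    intro z hz
    simp only [Finset.mem_insert, Finset.mem_singleton] at hz
    refine Finset.mem_filter.2 ⟨Finset.mem_univ _, ?_⟩
    rcases hz with rfl | rfl | rfl
    · exact one_pow 2
    · exact hsq _ he₁
    · exact hsq _ he₂
  have h9 := (Finset.card_le_card hsub).trans hle
  rw [Finset.card_insert_of_notMem (by simp [Ne.symm hne₁, Ne.symm hne₂]), Finset.card_pair hne₁₂] at h9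
  omega

end Twin

end CfsgLib.AbelianInter
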