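import Cfsg.Agent.Lib.Invol.AbelianInter.Big

/-!
# A nonnormal essential subgroup and its twin: the fusion
-/

set_option autoImplicit false
set_option linter.unusedSectionVars false

namespace CfsgLib.AbelianInter

open Subgroup

universe u

variable {G : Type u} [Group G] [Finite G] {S : Sylow 2 G} {E : Subgroup G} {x : G}

theorem exists_sq_mem {F Z : Subgroup G} (k : ℕ) :
    ∀ z ∈ Z, z ∈ normalizer (F : Set G) → z ∉ F → z ^ 2 ^ k = 1 →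
      ∃ p ∈ Z, p ∈ normalizer (F : Set G) ∧ p ∉ F ∧ p * p ∈ F := by
  induction k with
  | zero => intro z _ _ hzF h1; exact absurd (by rw [pow_zero, pow_one] at h1; rw [h1]; exact one_mem F) hzF
  | succ k ih =>
    intro z hz hzn hzF h1
    by_cases h2 : z * z ∈ F
    · exact ⟨z, hz, hzn, hzF, h2⟩
    · exact ih (z * z) (mul_mem hz hz) (mul_mem hzn hzn) h2
        (by rw [← pow_two, ← pow_mul, ← pow_succ']; exact h1)

namespace Twin

variable (hA : InterAb G) (h : Twin S E x)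
include hA h

/-- An essential subgroup in the normalizer of `N` lies in `N`. -/
theorem ess_le {F : Subgroup G} (hF : Ess S F)
    (hFP : F ≤ (S : Subgroup G) ⊓ normalizer (((S : Subgroup G) ⊓ normalizer (E : Set G) : Subgroup G) : Set G))
    {e₁ e₂ : G} (he₁ : e₁ ∈ E) (he₂ : e₂ ∈ E) (h₁ : e₁ ∉ twin E x) (h₂ : e₂ ∉ twin E x)
    (h₁₂ : e₁⁻¹ * e₂ ∉ twin E x) : F ≤ (S : Subgroup G) ⊓ normalizer (E : Set G) := by
  intro ξ hξF
  by_contra hξN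
  have hξ : Twin S E ξ := ⟨h.ess, (hFP hξF).1, fun hm => hξN ⟨(hFP hξF).1, hm⟩, (hFP hξF).2⟩
  rw [← h.twin_eq hA hξ] at h₁ h₂ h₁₂
  clear h
  have h := hξ
  set N := (S : Subgroup G) ⊓ normalizer (E : Set G) with hN
  set P₁ := (S : Subgroup G) ⊓ normalizer (N : Set G) with hP₁
  set Z := E ⊓ twin E ξ with hZ
  have hξP : ξ ∈ P₁ := hFP hξF
  have hZN : Z ≤ N := inf_le_left.trans h.ess.le_inf
  have hNP : N ≤ P₁ := fun n hn => ⟨hn.1, le_normalizer hn⟩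
  by_cases hZF : Z ≤ F
  · -- `p = a * ξ a ξ⁻¹`
    have hξ2 : ξ * ξ ∈ N := by
      rcases h.mem_or_mem hA (mul_mem h.xS h.xS) (mul_mem h.xN h.xN) with hm | hm
      · exact hm
      · rw [inv_mul_cancel_left] at hm
        exact absurd hm hξN
    have hc2 : ∀ c ∈ E, ξ * c * ξ⁻¹ ∈ twin E ξ := fun c hc => conj_mem_map_conj hc
    -- the elements of `F ⊓ N`
    have hdesc : ∀ v ∈ F, v ∈ N → ∃ e ∈ E, ∃ z ∈ Z, v = e * (ξ * e * ξ⁻¹) * z := by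
      intro v hvF hvN
      obtain ⟨f, hf, e, he, rfl⟩ := h.exists_decomp hA hvN
      obtain ⟨c, hc, rfl⟩ : ∃ c ∈ E, ξ * c * ξ⁻¹ = f := ⟨_, mem_map_conj.1 hf, by group⟩
      have hcomm : Commute ξ (ξ * c * ξ⁻¹ * e) := hF.comm ξ hξF _ hvF
      have hz₁ := h.comm_mem hA hξ2 (h.ess.le_inf hc)
      have hec : e⁻¹ * c ∈ Z := by
        have h1 : ξ * (ξ * c * ξ⁻¹ * e) * ξ⁻¹ = ξ * c * ξ⁻¹ * e := by rw [hcomm.eq, mul_inv_cancel_right]
        have h2 : ξ * (ξ * c * ξ⁻¹ * e) * ξ⁻¹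
            = (ξ * ξ * c * (ξ * ξ)⁻¹ * c⁻¹) * (c * (ξ * e * ξ⁻¹)) := by group
        rw [h2] at h1
        have h3 : e⁻¹ * c = (ξ * ξ * c * (ξ * ξ)⁻¹ * c⁻¹)⁻¹ * (e⁻¹ * (ξ * c * ξ⁻¹) * e) * (ξ * e * ξ⁻¹)⁻¹ := by
          have h4 : c = (ξ * ξ * c * (ξ * ξ)⁻¹ * c⁻¹)⁻¹ * (ξ * c * ξ⁻¹ * e) * (ξ * e * ξ⁻¹)⁻¹ := by
            rw [← h1]; group
          generalize ξ * ξ * c * (ξ * ξ)⁻¹ * c⁻¹ = z at h4 hz₁
          have h5 := (h.central hA (inv_mem hz₁) (h.ess.le_inf (inv_mem he))).eq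
          calc e⁻¹ * c = e⁻¹ * (z⁻¹ * (ξ * c * ξ⁻¹ * e) * (ξ * e * ξ⁻¹)⁻¹) := by rw [← h4]
            _ = e⁻¹ * z⁻¹ * (ξ * c * ξ⁻¹ * e) * (ξ * e * ξ⁻¹)⁻¹ := by group
            _ = z⁻¹ * e⁻¹ * (ξ * c * ξ⁻¹ * e) * (ξ * e * ξ⁻¹)⁻¹ := by rw [← h5]
            _ = _ := by group
        refine mem_inf.2 ⟨mul_mem (inv_mem he) hc, ?_⟩
        rw [h3]
        exact mul_mem (mul_mem (inv_mem hz₁.2) ((mem_normalizer_iff''.1
          ((h.inf_normalizer.ge (h.ess.le_inf he)).2) _).1 (hc2 c hc))) (inv_mem (hc2 e he))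
      have hz2 := h.conj_mem hA h.xS h.xN hec
      have h6 := h.comm_mem hA (h.twin_le (hc2 e he)) (h.ess.le_inf he)
      refine ⟨e, he, ξ * e * ξ⁻¹ * e * (ξ * e * ξ⁻¹)⁻¹ * e⁻¹ * (ξ * (e⁻¹ * c) * ξ⁻¹), mul_mem h6 hz2, ?_⟩
      have hN2 : e * (ξ * e * ξ⁻¹) ∈ N := mul_mem (h.ess.le_inf he) (h.twin_le (hc2 e he))
      rw [← mul_assoc (e * (ξ * e * ξ⁻¹)), ← (h.central hA h6 hN2).eq]
      calc ξ * c * ξ⁻¹ * e = ξ * e * ξ⁻¹ * (ξ * (e⁻¹ * c) * ξ⁻¹ * e) := by group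
        _ = ξ * e * ξ⁻¹ * (e * (ξ * (e⁻¹ * c) * ξ⁻¹)) := by rw [(h.central hA hz2 (h.ess.le_inf he)).eq]
        _ = _ := by group
    obtain ⟨r, hr, zr, hzr, hξr⟩ := hdesc _ (mul_mem hξF hξF) hξ2
    obtain ⟨D, hD⟩ := h.pair hA
    have hkey : ∀ c ∈ E, c * (ξ * c * ξ⁻¹) ∈ F → c ∈ twin E ξ ∨ c * r ∈ twin E ξ := by
      intro c hc hcF
      refine or_iff_not_imp_left.2 fun hcT => ?_
      have h1 : ξ * (c * (ξ * c * ξ⁻¹)) * ξ⁻¹ = c * (ξ * c * ξ⁻¹) := by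
        rw [(hF.comm ξ hξF _ hcF).eq, mul_inv_cancel_right]
      have h2 : ξ * ξ * c * (ξ * ξ)⁻¹ = ξ * r * ξ⁻¹ * c * (ξ * r * ξ⁻¹)⁻¹ := by
        have hr' : ξ * r * ξ⁻¹ * c * (ξ * r * ξ⁻¹)⁻¹ ∈ E :=
          (mem_normalizer_iff.1 (h.twin_le (hc2 r hr)).2 c).1 hc
        rw [hξr, show r * (ξ * r * ξ⁻¹) * zr * c * (r * (ξ * r * ξ⁻¹) * zr)⁻¹
          = r * (ξ * r * ξ⁻¹) * (zr * c * zr⁻¹) * (r * (ξ * r * ξ⁻¹))⁻¹ by group,
          (h.central hA hzr (h.ess.le_inf hc)).eq, mul_inv_cancel_right,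
          show r * (ξ * r * ξ⁻¹) * c * (r * (ξ * r * ξ⁻¹))⁻¹
          = r * (ξ * r * ξ⁻¹ * c * (ξ * r * ξ⁻¹)⁻¹) * r⁻¹ by group,
          (h.ess.comm r hr _ hr').eq, mul_inv_cancel_right]
      have h3 : ξ * (c * r) * ξ⁻¹ * c * (ξ * (c * r) * ξ⁻¹)⁻¹ = c := by
        rw [show ξ * (c * r) * ξ⁻¹ * c * (ξ * (c * r) * ξ⁻¹)⁻¹
          = ξ * c * ξ⁻¹ * (ξ * r * ξ⁻¹ * c * (ξ * r * ξ⁻¹)⁻¹) * (ξ * c * ξ⁻¹)⁻¹ by group, ← h2]
        calc ξ * c * ξ⁻¹ * (ξ * ξ * c * (ξ * ξ)⁻¹) * (ξ * c * ξ⁻¹)⁻¹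
            = ξ * (c * (ξ * c * ξ⁻¹)) * ξ⁻¹ * (ξ * c * ξ⁻¹)⁻¹ := by group
          _ = c := by rw [h1, mul_inv_cancel_right]
      have h4 : ξ * (c * r) * ξ⁻¹ ∈ E := by
        by_contra hfE
        refine hD.comm_notMem c hc hcT _ (hc2 _ (mul_mem hc hr)) hfE ?_
        rw [h3, mul_inv_cancel]
        exact one_mem D
      have h5 := h.conj_mem hA (inv_mem h.xS) (inv_mem h.xN) (⟨h4, hc2 _ (mul_mem hc hr)⟩ : _ ∈ Z)
      have h6 : c * r ∈ Z := by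
        rwa [show ξ⁻¹ * (ξ * (c * r) * ξ⁻¹) * ξ⁻¹⁻¹ = c * r by group] at h5
      exact h6.2
    obtain ⟨a, ha, haT, harT⟩ : ∃ a ∈ E, a ∉ twin E ξ ∧ a * r ∉ twin E ξ := by
      by_cases h3 : e₁ * r ∈ twin E ξ
      · refine ⟨e₂, he₂, h₂, fun h4 => h₁₂ ?_⟩
        have h5 := mul_mem (inv_mem h3) h4
        rwa [mul_inv_rev, show r⁻¹ * e₁⁻¹ * (e₂ * r) = r⁻¹ * (e₁⁻¹ * e₂) * r by group,
          ← (h.ess.comm _ (mul_mem (inv_mem he₁) he₂) _ (inv_mem hr)).eq, inv_mul_cancel_right] at h5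
      · exact ⟨e₁, he₁, h₁, h3⟩
    set p := a * (ξ * a * ξ⁻¹) with hp
    have hpN : p ∈ N := mul_mem (h.ess.le_inf ha) (h.twin_le (hc2 a ha))
    have hpF : p ∉ F := fun hm => by
      rcases hkey a ha hm with h3 | h3
      · exact haT h3
      · exact harT h3
    set u := p * ξ * p⁻¹ * ξ⁻¹ with hu
    have huZ : u ∈ Z := by
      have h1 := h.comm_mem hA hξ2 (h.ess.le_inf ha)
      have h2 := h.comm_mem hA (h.twin_le (hc2 a ha)) (h.ess.le_inf ha)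
      have h3 : u⁻¹ = (ξ * a * ξ⁻¹) * (ξ * ξ * a * (ξ * ξ)⁻¹ * a⁻¹) * (ξ * a * ξ⁻¹)⁻¹ *
          (ξ * a * ξ⁻¹ * a * (ξ * a * ξ⁻¹)⁻¹ * a⁻¹) := by
        rw [hu, hp]; group
      rw [← inv_mem_iff, h3, ← (h.central hA h1 (h.twin_le (hc2 a ha))).eq, mul_inv_cancel_right]
      exact mul_mem h1 h2
    have hpp : p * p ∈ F := hZF (h.sq_inf hA hpN)
    have hpu : Commute p u := (h.central hA huZ hpN).symm
    have hu2 : u * u = 1 := by
      have h1 : p * p * ξ * (p * p)⁻¹ = ξ := by rw [(hF.comm _ hpp ξ hξF).eq, mul_inv_cancel_right]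
      have h2 : p * p * ξ * (p * p)⁻¹ = p * u * p⁻¹ * (u * ξ) := by rw [hu]; group
      rw [h2, hpu.eq, mul_inv_cancel_right, ← mul_assoc, mul_eq_right] at h1
      exact h1
    have hpξ : p * ξ * p⁻¹ = u * ξ := by rw [hu]; group
    have hfix : ∀ v ∈ F, v ∈ N → Commute p v := by
      intro v hv hvN
      obtain ⟨e, he, z, hz, rfl⟩ := hdesc v hv hvN
      have he' : e * (ξ * e * ξ⁻¹) ∈ F := (mul_mem_cancel_right (hZF hz)).1 hv
      refine Commute.mul_right ?_ (h.central hA hz hpN).symm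
      rcases hkey e he he' with h3 | h3
      · exact ((h.central hA (⟨he, h3⟩ : e ∈ Z) hpN).symm).mul_right
          (h.central hA (h.conj_mem hA h.xS h.xN (⟨he, h3⟩ : e ∈ Z)) hpN).symm
      · have hz6 : r⁻¹ * e ∈ Z := by
          rw [show r⁻¹ * e = (r * r)⁻¹ * (r * e) by group, (h.ess.comm r hr e he).eq]
          exact mul_mem (inv_mem (h.sq_inf hA (h.ess.le_inf hr))) ⟨mul_mem he hr, h3⟩
        have hz7 := h.conj_mem hA h.xS h.xN hz6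
        have h4 : e * (ξ * e * ξ⁻¹) = ξ * ξ * (zr⁻¹ * (r⁻¹ * e) * (ξ * (r⁻¹ * e) * ξ⁻¹)) := by
          rw [hξr]
          calc e * (ξ * e * ξ⁻¹) = r * ((r⁻¹ * e) * (ξ * r * ξ⁻¹)) * (ξ * (r⁻¹ * e) * ξ⁻¹) := by group
            _ = r * ((ξ * r * ξ⁻¹) * (r⁻¹ * e)) * (ξ * (r⁻¹ * e) * ξ⁻¹) := by
              rw [(h.central hA hz6 (h.twin_le (hc2 r hr))).eq]
            _ = _ := by group
        rw [h4]
        refine Commute.mul_right ?_ ((((h.central hA hzr hpN).inv_left).symm.mul_right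
          (h.central hA hz6 hpN).symm).mul_right (h.central hA hz7 hpN).symm)
        have h5 : p * (ξ * ξ) * p⁻¹ = ξ * ξ := by
          rw [show p * (ξ * ξ) * p⁻¹ = p * ξ * p⁻¹ * (p * ξ * p⁻¹) by group, hpξ,
            (hF.comm ξ hξF u (hZF huZ)).mul_mul_mul_comm, hu2, one_mul]
        exact mul_inv_eq_iff_eq_mul.1 h5
    refine h.false_of_outside hA hF hFP hξF (hNP hpN) (mem_normalizer_fintype fun v hv => ?_) hpF hpp hfix
      he₁ he₂ h₁ h₂ h₁₂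
    rcases h.mem_or_mem hA (hFP hv).1 (hFP hv).2 with hvN | hvN
    · rwa [(hfix v hv hvN).eq, mul_inv_cancel_right]
    · rw [show p * v * p⁻¹ = p * ξ * p⁻¹ * (p * (ξ⁻¹ * v) * p⁻¹) by group, hpξ,
        (hfix _ (mul_mem (inv_mem hξF) hv) hvN).eq, mul_inv_cancel_right]
      exact mul_mem (mul_mem (hZF huZ) hξF) (mul_mem (inv_mem hξF) hv)
  · -- `p` in `Z`
    have hFZ : F ≤ normalizer (Z : Set G) := fun v hv =>
      mem_normalizer_fintype fun z hz => h.conj_mem hA (hFP hv).1 (hFP hv).2 hz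
    obtain ⟨t, ht, htn, htF⟩ := exists_normalizer_notMem S (H := F) (K := F ⊔ Z) le_sup_left
      (sup_le hF.le (hZN.trans inf_le_left)) (fun hle => hZF (le_sup_right.trans hle))
    rw [← SetLike.mem_coe, coe_mul_of_left_le_normalizer_right _ _ hFZ, Set.mem_mul] at ht
    obtain ⟨f, hf, z, hz, rfl⟩ := ht
    have hzn : z ∈ normalizer (F : Set G) := by
      simpa using mul_mem (inv_mem (le_normalizer (H := F) hf)) htn
    obtain ⟨k, hk⟩ := S.2 ⟨z, (hZN hz).1⟩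
    obtain ⟨p, hp, hpn, hpF, hp2⟩ := exists_sq_mem k z hz hzn (fun hm => htF (mul_mem hf hm))
      (congrArg Subtype.val hk)
    exact h.false_of_outside hA hF hFP hξF (hNP (hZN hp)) hpn hpF hp2
      (fun v _ hv => h.central hA hp hv) he₁ he₂ h₁ h₂ h₁₂

/-- The twin meets `E` in index two. -/
theorem small [IsSimpleGroup G] (hG : ¬ IsMulCommutative G) {e₁ e₂ : G} (he₁ : e₁ ∈ E) (he₂ : e₂ ∈ E)
    (h₁ : e₁ ∉ twin E x) (h₂ : e₂ ∉ twin E x) : e₁⁻¹ * e₂ ∈ twin E x := by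
  by_contra h₁₂
  set N := (S : Subgroup G) ⊓ normalizer (E : Set G) with hN
  set P₁ := (S : Subgroup G) ⊓ normalizer (N : Set G) with hP₁
  have hNP : N ≤ P₁ := fun n hn => ⟨hn.1, le_normalizer hn⟩
  -- an element of `N(S)` moving `E` into `P₁` and its twin too normalizes `N`
  have hnorm : ∀ g ∈ normalizer ((S : Subgroup G) : Set G),
      twin E g ≤ P₁ → twin E (g * x) ≤ P₁ → g ∈ normalizer (N : Set G) := by
    intro g hg h₃ h₄
    have hgx : g * x ∈ normalizer ((S : Subgroup G) : Set G) := mul_mem hg h.mem_normalizer_S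
    have h5 := h.ess_le hA (h.ess.conj hg) h₃ he₁ he₂ h₁ h₂ h₁₂
    have h6 := h.ess_le hA (h.ess.conj hgx) h₄ he₁ he₂ h₁ h₂ h₁₂
    refine mem_normalizer_fintype fun n hn => ?_
    obtain ⟨f, hf, e, he, rfl⟩ := h.exists_decomp hA hn
    rw [show g * (f * e) * g⁻¹ = g * x * (x⁻¹ * f * x) * (g * x)⁻¹ * (g * e * g⁻¹) by group]
    exact mul_mem (h6 (conj_mem_map_conj (mem_map_conj.1 hf))) (h5 (conj_mem_map_conj he))
  have hmapP : ∀ g ∈ normalizer (P₁ : Set G), ∀ {H : Subgroup G}, H ≤ P₁ →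
      H.map (MulAut.conj g).toMonoidHom ≤ P₁ := fun g hg H hH =>
    CfsgLib.Fusion.conjBy_le_iff.2 fun z hz => (mem_normalizer_iff.1 hg z).1 (hH hz)
  have hEP : E ≤ P₁ := h.ess.le_inf.trans hNP
  have hS : (S : Subgroup G) ≤ P₁ := by
    by_contra hle
    obtain ⟨g, hg, hgn, hgP⟩ := exists_normalizer_notMem S (H := P₁) inf_le_left le_rfl hle
    refine hgP ⟨hg, hnorm g (le_normalizer hg) (hmapP g hgn hEP) (hmapP (g * x) ?_ hEP)⟩
    exact mul_mem hgn (le_normalizer (⟨h.xS, h.xN⟩ : x ∈ P₁))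
  have hEss : ∀ F, Ess S F → F ≤ N := fun F hF =>
    h.ess_le hA hF (hF.le.trans hS) he₁ he₂ h₁ h₂ h₁₂
  have hNS : ∀ g ∈ normalizer ((S : Subgroup G) : Set G), g ∈ normalizer (N : Set G) := fun g hg =>
    hnorm g hg ((h.ess.conj hg).le.trans hS)
      ((h.ess.conj (mul_mem hg h.mem_normalizer_S)).le.trans hS)
  refine false_of_focal hG S (M := N) (fun hle => h.xn (hle h.xS).2) fun a ha g hga => ?_
  refine hA.fusion S (fun b c => b⁻¹ * c ∈ N) (fun b _ => by simp) (fun b c d hbc hcd => ?_) ?_ ?_ ha hga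
  · simpa [mul_assoc] using mul_mem hbc hcd
  · intro b hb n hn
    have hnN := hNS n hn
    have hb' : n * b * n⁻¹ ∈ (S : Subgroup G) := (mem_normalizer_iff.1 hn b).1 hb
    rcases h.mem_or_mem hA hb (hS hb).2 with hbN | hbN
    · exact mul_mem (inv_mem hbN) ((mem_normalizer_iff.1 hnN b).1 hbN)
    · rcases h.mem_or_mem hA hb' (hS hb').2 with hb'N | hb'N
      · have hbN' := (mem_normalizer_iff.1 hnN b).2 hb'N
        exact mul_mem (inv_mem hbN') hb'N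
      · have h7 := mul_mem (inv_mem hbN) hb'N
        rwa [show (x⁻¹ * b)⁻¹ * (x⁻¹ * (n * b * n⁻¹)) = b⁻¹ * (n * b * n⁻¹) by group] at h7
  · intro F hF b hb g hg
    exact mul_mem (inv_mem (hEss F hF hb)) (hEss F hF ((mem_normalizer_iff.1 hg b).1 hb))

end Twin

end CfsgLib.AbelianInter
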