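import Cfsg.Agent.Lib.Invol.AbelianInter.TI
import Cfsg.Agent.Lib.Bender.Full.Main
import Mathlib.GroupTheory.QuotientGroup.Basic

/-!
# A Sylow group with two involutions is transitive on the other ones

Its normalizer is strongly embedded, so Bender's structure theorem applies modulo the core.
-/

set_option autoImplicit false
set_option linter.unusedSectionVars false

namespace CfsgLib.AbelianInter

open Subgroup CfsgLib.Invol

universe u

variable {E : Type u} [CommGroup E] {X : Type u} [Group X] [Finite X] [MulDistribMulAction X E]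

namespace Act

variable (h : Act E X)
include h

theorem mem_of_normalizes {P : Sylow 2 X} {x : X} (hx : x • P = P) {n : ℕ} (hn : x ^ 2 ^ n = 1) :
    x ∈ P := by
  have hp : IsPGroup 2 (zpowers x) := fun g => ⟨n, by
    obtain ⟨k, hk⟩ := mem_zpowers_iff.1 g.2
    refine Subtype.ext ?_
    rw [SubmonoidClass.coe_pow, ← hk, OneMemClass.coe_one, ← zpow_natCast, ← zpow_mul, mul_comm, zpow_mul,
      zpow_natCast, hn, one_zpow]⟩
  have h2 : x ∈ zpowers x ⊓ normalizer ((P : Subgroup X) : Set X) :=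
    ⟨mem_zpowers x, Sylow.smul_eq_iff_mem_normalizer.1 hx⟩
  have h3 := IsPGroup.inf_normalizer_sylow hp P
  erw [h3] at h2
  exact h2.2

/-- The normalizer of a Sylow group is strongly embedded. -/
theorem strongly_embedded {P : Sylow 2 X} {a : X} (ha : orderOf a = 2) (haP : a ∈ P) :
    Cfsg.IsStronglyEmbedded (normalizer ((P : Subgroup X) : Set X)) := by
  refine ⟨fun e => ?_, even_card_of_invol_mem (le_normalizer haP) ha, fun g hg => ?_⟩
  · obtain ⟨Q, hQ⟩ := h.many P
    obtain ⟨g, hgQ⟩ := MulAction.exists_smul_eq X P Q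
    exact hQ (hgQ ▸ Sylow.smul_eq_iff_mem_normalizer.2 (e ▸ mem_top g))
  · rw [← Nat.not_even_iff_odd]
    intro hev
    obtain ⟨i, ⟨hi1, j, hj, hji⟩, hio⟩ := exists_invol_mem hev
    have hiP : i ∈ P := h.mem_of_normalizes (Sylow.smul_eq_iff_mem_normalizer.2 hi1) (n := 1)
      (by rw [pow_one, ← hio, pow_orderOf_eq_one])
    have hji' : g * j * g⁻¹ = i := by simpa using hji
    have hjo : orderOf j = 2 := by
      rw [← hio, ← hji', ← MulAut.conj_apply, (MulAut.conj g).orderOf_eq]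
    have hjP : j ∈ P := h.mem_of_normalizes (Sylow.smul_eq_iff_mem_normalizer.2 hj) (n := 1)
      (by rw [pow_one, ← hjo, pow_orderOf_eq_one])
    exact hg (Sylow.smul_eq_iff_mem_normalizer.1
      (h.mem_normalizer_of_conj hjP (invol_ne_one hjo) (hji'.symm ▸ hiP)))

/-- With two involutions in `P`, it is transitive on the other Sylow groups. -/
theorem exists_smul_eq {P : Sylow 2 X} {a b : X} (ha : orderOf a = 2) (haP : a ∈ P) (hb : orderOf b = 2)
    (hbP : b ∈ P) (hab : a ≠ b) {P₂ P₃ : Sylow 2 X} (h₂ : P₂ ≠ P) (h₃ : P₃ ≠ P) :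
    ∃ s ∈ P, s • P₂ = P₃ := by
  classical
  set N := normalizer ((P : Subgroup X) : Set X) with hN
  set K := N.normalCore with hK
  have hKN : K ≤ N := N.normalCore_le
  -- `K` has odd order
  have hKodd : Odd (Nat.card K) := by
    rw [← Nat.not_even_iff_odd]
    intro hev
    obtain ⟨i, hiK, hio⟩ := exists_invol_mem hev
    have hi2 : i ^ 2 ^ 1 = 1 := by rw [pow_one, ← hio, pow_orderOf_eq_one]
    have hiP : i ∈ P := h.mem_of_normalizes (Sylow.smul_eq_iff_mem_normalizer.2 (hKN hiK)) hi2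
    obtain ⟨g, hg⟩ := MulAction.exists_smul_eq X P P₂
    refine h₂ (h.ti P₂ P i ?_ hiP (invol_ne_one hio))
    rw [← hg, mem_sylow_smul]
    exact h.mem_of_normalizes (Sylow.smul_eq_iff_mem_normalizer.2
      (hKN (by simpa using (inferInstance : K.Normal).conj_mem i hiK g⁻¹))) (n := 1)
      (by rw [show g⁻¹ * i * g = g⁻¹ * i * g⁻¹⁻¹ by group, conj_pow, hi2]; group)
  set π := QuotientGroup.mk' K with hπ
  set H := N.map π with hH
  have hmemH : ∀ x : X, π x ∈ H ↔ x ∈ N := fun x => by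
    refine ⟨fun ⟨y, hy, he⟩ => ?_, fun hx => mem_map_of_mem π hx⟩
    rw [hπ, QuotientGroup.mk'_eq_mk'] at he
    obtain ⟨z, hz, rfl⟩ := he
    exact mul_mem hy (hKN hz)
  have hne1 : ∀ x : X, orderOf x = 2 → π x ≠ 1 := fun x hx e => by
    have h1 : x ∈ K := (QuotientGroup.eq_one_iff x).1 e
    exact (Nat.not_even_iff_odd.2 hKodd) (even_card_of_invol_mem h1 hx)
  have hmap2 : ∀ x : X, orderOf x = 2 → orderOf (π x) = 2 := fun x hx =>
    invol_iff.2 ⟨by rw [← map_mul, invol_mul_self hx, map_one], hne1 x hx⟩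
  have hse := h.strongly_embedded ha haP
  have hcore : H.normalCore = ⊥ := by
    refine eq_bot_iff.2 fun x hx => ?_
    obtain ⟨x, rfl⟩ := QuotientGroup.mk'_surjective K x
    refine mem_bot.2 ((QuotientGroup.eq_one_iff x).2 fun g => (hmemH _).1 ?_)
    rw [map_mul, map_mul, map_inv]
    exact hx (π g)
  have hseH : Cfsg.IsStronglyEmbedded H := by
    refine ⟨fun e => hse.1 (eq_top_iff.2 fun x _ => (hmemH x).1 (e ▸ mem_top _)),
      even_card_of_invol_mem (mem_map_of_mem π (le_normalizer haP)) (hmap2 a ha), fun g hg => ?_⟩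
    obtain ⟨g, rfl⟩ := QuotientGroup.mk'_surjective K g
    have hle : H ⊓ H.map (MulAut.conj (π g)).toMonoidHom ≤
        (N ⊓ N.map (MulAut.conj g).toMonoidHom).map π := by
      rintro x ⟨hx1, y, hy, hyx⟩
      obtain ⟨x, rfl⟩ := QuotientGroup.mk'_surjective K x
      refine mem_map_of_mem π ⟨(hmemH x).1 hx1, g⁻¹ * x * g, (hmemH _).1 ?_, by simp [mul_assoc]⟩
      have hy' : π g * y * (π g)⁻¹ = π x := hyx
      have : π (g⁻¹ * x * g) = y := by rw [map_mul, map_mul, map_inv, ← hy']; group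
      rwa [this]
    exact ((hse.2.2 g fun hgN => hg ((hmemH g).2 hgN)).of_dvd_nat (card_map_dvd _ π)).of_dvd_nat
      (card_dvd_of_le hle)
  have hpair : CfsgLib.Bender.HasPair (X ⧸ K) := by
    refine ⟨π a, π b, hmap2 a ha, hmap2 b hb, fun e => hne1 (a * b) (invol_iff.2 ⟨?_, fun e1 => hab ?_⟩) ?_,
      (h.commute_invol ha haP hbP).map π⟩
    · have hc := h.commute_invol ha haP hbP
      rw [mul_assoc, ← mul_assoc b, ← hc.eq, mul_assoc a, invol_mul_self hb, mul_one, invol_mul_self ha]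
    · exact ((invol_inv ha).symm.trans (inv_eq_of_mul_eq_one_right e1))
    · rw [map_mul, e, ← map_mul, invol_mul_self hb, map_one]
  obtain ⟨Q, hQH, -, hQ2, hreg⟩ := CfsgLib.Bender.Full.fullStatement (X ⧸ K) H hseH hcore hpair
  obtain ⟨g, hg⟩ := MulAction.exists_smul_eq X P P₂
  obtain ⟨k, hk⟩ := MulAction.exists_smul_eq X P P₃
  have hout : ∀ {x : X} {R : Sylow 2 X}, x • P = R → R ≠ P → π x ∉ H := fun hx hR hm =>
    hR (hx.symm.trans (Sylow.smul_eq_iff_mem_normalizer.2 ((hmemH _).1 hm)))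
  obtain ⟨x, ⟨hxQ, hxH⟩, -⟩ := hreg (π g) (π k) (hout hg h₂) (hout hk h₃)
  obtain ⟨x, rfl⟩ := QuotientGroup.mk'_surjective K x
  obtain ⟨n, hn⟩ := hQ2 ⟨π x, hxQ⟩
  have hn' : π x ^ 2 ^ n = 1 := congrArg Subtype.val hn
  -- lift `x` to an element of `P`
  obtain ⟨j, -, hj⟩ : ∃ j : ℕ, j ≤ n ∧ orderOf (π x) = 2 ^ j :=
    (Nat.dvd_prime_pow Nat.prime_two).1 (orderOf_dvd_of_pow_eq_one hn')
  obtain ⟨i, hi⟩ := exists_pow_eq_self_of_coprime (x := π x) (n := Nat.card K)
    (hj ▸ (Nat.coprime_two_right.2 hKodd).pow_right j)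
  set s := (x ^ Nat.card K) ^ i with hs
  have hπs : π s = π x := by rw [hs, map_pow, map_pow, hi]
  have hsP : s ∈ P := by
    refine h.mem_of_normalizes (n := n) (Sylow.smul_eq_iff_mem_normalizer.2
      (pow_mem (pow_mem ((hmemH x).1 (hQH hxQ)) _) _)) ?_
    have hxK : x ^ 2 ^ n ∈ K := (QuotientGroup.eq_one_iff _).1 ((map_pow π x (2 ^ n)).trans hn')
    have h1 : (x ^ 2 ^ n) ^ Nat.card K = 1 := by
      exact congrArg Subtype.val (pow_card_eq_one' (x := (⟨_, hxK⟩ : K)))
    rw [hs, ← pow_mul, ← pow_mul, show Nat.card K * (i * 2 ^ n) = 2 ^ n * Nat.card K * i by ring, pow_mul,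
      pow_mul, h1, one_pow]
  refine ⟨s, hsP, ?_⟩
  have h1 : k⁻¹ * (s * g) ∈ N := (hmemH _).1 (by rw [map_mul, map_mul, map_inv, hπs]; exact hxH)
  rw [← hg, ← hk, smul_smul]
  conv_lhs => rw [← mul_inv_cancel_left k (s * g), ← smul_smul,
    Sylow.smul_eq_iff_mem_normalizer.2 h1]

/-- With two involutions in `P`, what a second Sylow group and a nontrivial element of `P` fix, all fix. -/
theorem fix_all {P Q : Sylow 2 X} (hne : P ≠ Q) {a b : X} (ha : orderOf a = 2) (haP : a ∈ P)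
    (hb : orderOf b = 2) (hbP : b ∈ P) (hab : a ≠ b) {v : E} (hQ : ∀ q ∈ Q, q • v = v) {s : X}
    (hs : s ∈ P) (hs1 : s ≠ 1) (hsv : s • v = v) (R : Sylow 2 X) {r : X} (hr : r ∈ R) : r • v = v := by
  have hPle : (P : Subgroup X) ≤ MulAction.stabilizer X v :=
    h.le_of_mem (Q := Q) (fun q hq => hQ q hq) hs hsv hs1
  by_cases hRP : R = P
  · exact hPle (hRP ▸ hr)
  · obtain ⟨t, ht, htQ⟩ := h.exists_smul_eq ha haP hb hbP hab (Ne.symm hne) hRP
    rw [← htQ, mem_sylow_smul] at hr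
    have h1 := hQ _ hr
    have h2 : t⁻¹ • v = v := hPle (inv_mem ht)
    rw [mul_smul, mul_smul, show t • v = v from hPle ht, inv_smul_eq_iff, show t • v = v from hPle ht] at h1
    exact h1

end Act

end CfsgLib.AbelianInter
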