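import Cfsg.Agent.Lib.Invol.AbelianInter.Transvection
import Cfsg.Agent.Lib.Invol.AbelianInter.Transitive

/-!
# An elementary subgroup with a small commutator in the abelian group it acts on

If an elementary `Q` in a Sylow group `P` fixes a subgroup of index at most `|Q|` that holds all commutators
with `P`, then `P = Q`, and the fixed subgroup meets a conjugate in a part carrying all the squares.
-/

set_option autoImplicit false
set_option linter.unusedSectionVars false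

namespace CfsgLib.AbelianInter

open Subgroup CfsgLib.Invol

universe u

variable {E : Type u} [CommGroup E] {X : Type u} [Group X] [Finite X] [MulDistribMulAction X E]

variable (E) in
/-- The elements of `E` fixed by `S`. -/
def fixE (S : Set X) : Subgroup E where
  carrier := {v | ∀ q ∈ S, q • v = v}
  mul_mem' ha hb q hq := by rw [smul_mul', ha q hq, hb q hq]
  one_mem' q _ := smul_one q
  inv_mem' ha q hq := by rw [smul_inv', ha q hq]

theorem mem_fixE {S : Set X} {v : E} : v ∈ fixE E S ↔ ∀ q ∈ S, q • v = v := Iff.rfl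

/-- The conclusion on a pair. -/
structure PairOut (P : Sylow 2 X) (Q : Subgroup X) (D : Subgroup E) : Prop where
  top : ∀ s ∈ P, s ∈ Q
  witness : ∃ y : E, y * y = 1 ∧ ∀ s ∈ P, s • y = y → s = 1
  le : D ≤ fixE E (Q : Set X)
  sq : ∀ e : E, ∃ d ∈ D, e * e = d * d
  comm_notMem : ∀ v : E, v ∉ fixE E (Q : Set X) → ∀ q ∈ Q, q ≠ 1 → q • v / v ∉ D

namespace Act

variable (h : Act E X)
include h

theorem pair_core [Finite E] {P P₂ : Sylow 2 X} (hne : P ≠ P₂) {Q : Subgroup X}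
    (hQP : Q ≤ (P : Subgroup X)) (hQe : ∀ q ∈ Q, q * q = 1) (hidx : (fixE E (Q : Set X)).index ≤ Nat.card Q)
    {t q₀ b : X} (ht : orderOf t = 2) (htP : t • P = P₂) (hq₀ : q₀ ∈ Q) (hb : orderOf b = 2) (hbP : b ∈ P₂)
    (htb : t * q₀ * t⁻¹ = b)
    (hC : ∀ v : E, ∀ s ∈ P, ∀ a ∈ P, orderOf a = 2 → a • (s • v / v) = s • v / v)
    {y : E} (hy : ∀ c ∈ P₂, orderOf c = 2 → c • y = y) (hmove : ∀ a ∈ P, orderOf a = 2 → a • y ≠ y) :
    (∀ a ∈ P, a * a = 1 → a ∈ Q) ∧
      (∀ v : E, ∃ a ∈ Q, ∃ v', t • v' ∈ fixE E (Q : Set X) ∧ v = a • y / y * v') ∧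
      (∀ e : E, ∃ d ∈ fixE E (Q : Set X), t • d ∈ fixE E (Q : Set X) ∧ e * e = d * d) := by
  classical
  set Z := fixE E (Q : Set X) with hZ
  set Z' := Z.comap (MulDistribMulAction.toMonoidHom E t) with hZ'
  have hmemZ' : ∀ v : E, v ∈ Z' ↔ t • v ∈ Z := fun v => Iff.rfl
  have hidx' : Z'.index = Z.index := index_comap_of_surjective Z fun v => ⟨t⁻¹ • v, smul_inv_smul t v⟩
  let Ω := {a : X // a ∈ P ∧ a * a = 1}
  have hcomm : ∀ a b : Ω, Commute a.1 b.1 := fun a b => by
    by_cases ha : a.1 = 1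
    · rw [ha]; exact Commute.one_left _
    · exact h.commute_invol (invol_iff.2 ⟨a.2.2, ha⟩) a.2.1 b.2.1
  have hfixU : ∀ a b : Ω, b.1 • (a.1 • y / y) = a.1 • y / y := fun a b => by
    by_cases hb1 : b.1 = 1
    · rw [hb1, one_smul]
    · exact hC y a.1 a.2.1 b.1 b.2.1 (invol_iff.2 ⟨b.2.2, hb1⟩)
  have husq : ∀ a : Ω, a.1 • y / y * (a.1 • y / y) = 1 := fun a => by
    by_cases ha : a.1 = 1
    · rw [ha, one_smul, div_self', mul_one]
    · have h1 := smul_div_invol (invol_iff.2 ⟨a.2.2, ha⟩) y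
      rw [hfixU a a] at h1
      exact mul_eq_one_iff_eq_inv.2 h1
  let f : Ω → E ⧸ Z' := fun a => QuotientGroup.mk (a.1 • y / y)
  have hfinj : Function.Injective f := by
    intro a c hac
    have h1 : a.1 • y / y * (c.1 • y / y) ∈ Z' := by
      have h2 := QuotientGroup.eq.1 hac
      rwa [inv_eq_of_mul_eq_one_right (husq a)] at h2
    have hm : a.1 * c.1 ∈ P ∧ a.1 * c.1 * (a.1 * c.1) = 1 := by
      refine ⟨mul_mem a.2.1 c.2.1, ?_⟩
      rw [mul_assoc, ← mul_assoc c.1, ← (hcomm a c).eq, mul_assoc a.1, c.2.2, mul_one, a.2.2]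
    have h3 : (a.1 * c.1) • y / y = a.1 • y / y * (c.1 • y / y) := by
      conv_rhs => rw [← hfixU c a, smul_div' a.1, mul_comm, div_mul_div_cancel]
      rw [mul_smul]
    by_contra hacne
    have hac1 : a.1 * c.1 ≠ 1 := fun e => hacne (Subtype.ext
      ((eq_inv_of_mul_eq_one_left e).trans (inv_eq_of_mul_eq_one_left c.2.2)))
    have hao : orderOf (a.1 * c.1) = 2 := invol_iff.2 ⟨hm.2, hac1⟩
    refine hmove _ hm.1 hao (h.smul_eq_self hne hao hm.1 hb hbP (hy b hbP hb) ?_)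
    rw [h3]
    rw [hmemZ'] at h1
    rw [← htb, mul_smul, mul_smul, ← invol_inv ht, inv_inv, invol_inv ht, h1 q₀ hq₀, smul_smul_invol ht]
  let ι : Q → Ω := fun q => ⟨q.1, hQP q.2, hQe _ q.2⟩
  have hι : Function.Injective ι := fun q r e => by
    have := congrArg (fun z : Ω => z.1) e
    exact Subtype.ext this
  have hc1 : Nat.card Ω ≤ Z.index := by
    rw [← hidx', index_eq_card]
    exact Nat.card_le_card_of_injective f hfinj
  have hc2 : Nat.card Q ≤ Nat.card Ω := Nat.card_le_card_of_injective ι hι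
  have hΩQ : ∀ a ∈ P, a * a = 1 → a ∈ Q := fun a ha ha2 => by
    obtain ⟨q, hq⟩ := ((Nat.bijective_iff_injective_and_card ι).2 ⟨hι, by omega⟩).2 ⟨a, ha, ha2⟩
    have h1 : (q : X) = a := congrArg Subtype.val hq
    exact h1 ▸ q.2
  have hsurj : ∀ v : E, ∃ a ∈ Q, ∃ v', t • v' ∈ Z ∧ v = a • y / y * v' := by
    intro v
    obtain ⟨a, ha⟩ := ((Nat.bijective_iff_injective_and_card f).2
      ⟨hfinj, by rw [← index_eq_card]; omega⟩).2 (QuotientGroup.mk v)
    exact ⟨a.1, hΩQ _ a.2.1 a.2.2, (a.1 • y / y)⁻¹ * v, QuotientGroup.eq.1 ha,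
      (mul_inv_cancel_left _ _).symm⟩
  refine ⟨hΩQ, hsurj, fun e => ?_⟩
  obtain ⟨a, ha, v', hv', rfl⟩ := hsurj e
  obtain ⟨a', ha', d, hd, he⟩ := hsurj (t • v')
  have hUZ : ∀ a ∈ Q, a • y / y ∈ Z := fun a ha q hq =>
    hfixU ⟨a, hQP ha, hQe a ha⟩ ⟨q, hQP hq, hQe q hq⟩
  have hdZ : d ∈ Z := by
    rw [he] at hv'
    exact (mul_mem_cancel_left (hUZ a' ha')).1 hv'
  refine ⟨t • d, hd, by rwa [smul_smul_invol ht], ?_⟩
  have h1 : t • v' * (t • v') = d * d := by
    rw [he, mul_mul_mul_comm, husq ⟨a', hQP ha', hQe a' ha'⟩, one_mul]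
  rw [mul_mul_mul_comm, husq ⟨a, hQP ha, hQe a ha⟩, one_mul, ← smul_mul', ← h1, ← smul_mul',
    smul_smul_invol ht]

/-- The pair lemma. -/
theorem pair [Finite E] {P : Sylow 2 X} {Q : Subgroup X} (hQP : Q ≤ (P : Subgroup X)) (hQ1 : Q ≠ ⊥)
    (hQe : ∀ q ∈ Q, q * q = 1) (hidx : (fixE E (Q : Set X)).index ≤ Nat.card Q)
    (hc : ∀ v : E, ∀ s ∈ P, s • v / v ∈ fixE E (Q : Set X)) :
    ∃ D : Subgroup E, PairOut P Q D := by
  classical
  obtain ⟨q₀, hq₀, hq1⟩ : ∃ q ∈ Q, q ≠ 1 := by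
    rcases Q.bot_or_exists_ne_one with e | e
    · exact absurd e hQ1
    · exact e
  have hqo : orderOf q₀ = 2 := invol_iff.2 ⟨hQe _ hq₀, hq1⟩
  have hqP := hQP hq₀
  obtain ⟨P₂, g, hne, hbP⟩ := h.exists_other hqo hqP
  have hbo := invol_conj hqo g
  obtain ⟨t, hto, htb, htP, htP2⟩ := h.exists_swap hne hqo hqP hbo hbP
  -- commutators with `P` are fixed by its involutions
  have hC : ∀ v : E, ∀ s ∈ P, ∀ a ∈ P, orderOf a = 2 → a • (s • v / v) = s • v / v := by
    intro v s hs a ha hao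
    obtain ⟨n, hnP, hn⟩ := h.exists_normalizer_conj hqo hqP hao ha
    have hs' : n⁻¹ * s * n ∈ P := mem_sylow_smul.1 (hnP.symm ▸ hs)
    have h1 := hc (n⁻¹ • v) _ hs' q₀ hq₀
    have h2 : (n⁻¹ * s * n) • n⁻¹ • v / n⁻¹ • v = n⁻¹ • (s • v / v) := by
      rw [smul_div', mul_smul, mul_smul, smul_inv_smul]
    rw [h2] at h1
    rw [← hn, mul_smul, mul_smul, h1, smul_inv_smul]
  have hYmem : ∀ {y : E}, (∀ c ∈ P₂, orderOf c = 2 → c • y = y) → (∀ a ∈ P, orderOf a = 2 → a • y ≠ y) →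
      (∀ s ∈ P, s ∈ Q) → ∀ s ∈ P, s • y = y → s = 1 := fun hy hmove htop s hs hsy => by
    by_contra hs1
    exact hmove s hs (invol_iff.2 ⟨hQe s (htop s hs), hs1⟩) hsy
  by_cases huniq : ∀ a ∈ P, orderOf a = 2 → a = q₀
  · -- one involution: a transvection
    have hQ2 : ∀ q ∈ Q, q = 1 ∨ q = q₀ := fun q hq => or_iff_not_imp_left.2 fun hq1 =>
      huniq q (hQP hq) (invol_iff.2 ⟨hQe q hq, hq1⟩)
    have hcard : Nat.card Q ≤ 2 := by
      have hle : Q ≤ zpowers q₀ := fun q hq => by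
        rcases hQ2 q hq with rfl | rfl
        · exact one_mem _
        · exact mem_zpowers _
      exact (card_le_of_le hle).trans (by rw [Nat.card_zpowers, hqo])
    obtain ⟨e₀, he₀, hme⟩ := h.exists_moved hqo
    have he₀Z : e₀ ∉ fixE E (Q : Set X) := fun hm => hme (hm q₀ hq₀)
    have hidx2 : (fixE E (Q : Set X)).index = 2 := by
      have h0 : (fixE E (Q : Set X)).index ≠ 0 := index_ne_zero_of_finite
      have h1 : (fixE E (Q : Set X)).index ≠ 1 := fun e => he₀Z (index_eq_one.1 e ▸ mem_top _)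
      omega
    set w := q₀ • e₀ / e₀ with hw
    have htv : ∀ v : E, q₀ • v = v ∨ q₀ • v = v * w := fun v => by
      by_cases hv : v ∈ fixE E (Q : Set X)
      · exact Or.inl (hv q₀ hq₀)
      · right
        have h1 : e₀⁻¹ * v ∈ fixE E (Q : Set X) :=
          (mul_mem_iff_of_index_two hidx2).2 (iff_of_false (fun hm => he₀Z (inv_mem_iff.1 hm)) hv)
        have h2 := h1 q₀ hq₀
        rw [smul_mul', smul_inv', inv_mul_eq_iff_eq_mul] at h2
        rw [h2, hw, mul_div_assoc', mul_comm v, mul_div_assoc, div_eq_mul_inv v, mul_comm v]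
    have htr : Transv q₀ w := fun v _ => htv v
    have hP2 : ∀ s ∈ P, s ∈ Q := fun s hs => by
      rcases h.eq_or_eq_of_transv hqo hqP htr hs with rfl | rfl
      · exact one_mem _
      · exact hq₀
    set x := g • w with hx
    have hxb : Transv (g * q₀ * g⁻¹) x := htr.conj g
    obtain ⟨hx2, hbx, -⟩ := h.transv_facts hbo hxb
    have hmove : ∀ a ∈ P, orderOf a = 2 → a • x ≠ x := fun a ha hao e => by
      rw [huniq a ha hao, h.cross hne hqo hqP hbo hbP htr hxb, mul_eq_left] at e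
      exact (h.transv_facts hqo htr).2.2 e
    have hy : ∀ c ∈ P₂, orderOf c = 2 → c • x = x := fun c hc hco => by
      rw [h.invol_eq hbo hbP hxb hco hc, hbx]
    obtain ⟨-, hdec, hsq⟩ := h.pair_core hne hQP hQe hidx hto htP hq₀ hbo hbP htb hC hy hmove
    refine ⟨fixE E (Q : Set X) ⊓ (fixE E (Q : Set X)).comap (MulDistribMulAction.toMonoidHom E t), hP2,
      ⟨x, hx2, hYmem hy hmove hP2⟩, inf_le_left,
      fun e => (hsq e).imp fun d hd => ⟨⟨hd.1, hd.2.1⟩, hd.2.2⟩, fun v hv q hq hq1 hD => ?_⟩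
    have hqq : q = q₀ := (hQ2 q hq).resolve_left hq1
    obtain ⟨a, ha, v', hv', rfl⟩ := hdec v
    have hu : a • x / x ∈ fixE E (Q : Set X) := fun r hr => by
      rcases hQ2 r hr with rfl | rfl
      · exact one_smul _ _
      · exact hC x a (hQP ha) _ hqP hqo
    have h1 : q • (a • x / x * v') / (a • x / x * v') = q • v' / v' := by
      rw [smul_mul', hu q hq, mul_div_mul_left_eq_div]
    rw [h1, hqq] at hD
    have hbfix : ∀ z : E, t • z ∈ fixE E (Q : Set X) → (g * q₀ * g⁻¹) • z = z := fun z hz => by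
      rw [← htb, invol_inv hto, mul_smul, mul_smul, hz q₀ hq₀, smul_smul_invol hto]
    have h2 := h.smul_eq_self hne hqo hqP hbo hbP (hbfix v' hv') (hbfix _ hD.2)
    exact hv (mul_mem hu fun r hr => by
      rcases hQ2 r hr with rfl | rfl
      · exact one_smul _ _
      · exact h2)
  · -- several involutions
    push Not at huniq
    obtain ⟨q₁, hq₁P, hq₁o, hq₁ne⟩ := huniq
    have hfixP : ∀ v : E, ∀ a ∈ P, orderOf a = 2 → ∀ s ∈ P, s • (a • v / v) = a • v / v := by
      intro v a ha hao s hs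
      have h1 : s • a • v = a • s • v := by rw [← mul_smul, ← (h.commute_invol hao ha hs).eq, mul_smul]
      rw [smul_div', h1, div_eq_div_iff_mul_eq_mul]
      have h2 := hC v s hs a ha hao
      rw [smul_div', div_eq_div_iff_mul_eq_mul] at h2
      rw [h2, mul_comm]
    obtain ⟨y, hy2, hyfix, hymove⟩ : ∃ y : E, y * y = 1 ∧ (∀ c ∈ P₂, c • y = y) ∧
        ∀ s ∈ P, s ≠ 1 → s • y ≠ y := by
      by_cases hall : ∀ v : E, ∀ a ∈ P, orderOf a = 2 → ∀ R : Sylow 2 X, ∀ r ∈ R, r • (a • v / v) = a • v / v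
      · exfalso
        have hfixed : ∀ v : E, ∀ a : X, a = q₀ ∨ a = g * q₀ * g⁻¹ →
            ∃ α : E, α * α = 1 ∧ a • v = v * α ∧ q₀ • α = α ∧ (g * q₀ * g⁻¹) • α = α := by
          intro v a ha
          rcases ha with ha | ha <;> rw [ha]
          · have h1 := smul_div_invol hqo v
            rw [hall v _ hqP hqo P _ hqP] at h1
            exact ⟨q₀ • v / v, mul_eq_one_iff_eq_inv.2 h1, (mul_div_cancel _ _).symm,
              hall v _ hqP hqo P _ hqP, hall v _ hqP hqo P₂ _ hbP⟩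
          · set α := q₀ • g⁻¹ • v / g⁻¹ • v with hα
            have h1 := smul_div_invol hqo (g⁻¹ • v)
            rw [hall _ _ hqP hqo P _ hqP] at h1
            have key : ∀ (R : Sylow 2 X) (r : X), r ∈ R → r • g • α = g • α := fun R r hr => by
              have h2 := hall (g⁻¹ • v) _ hqP hqo (g⁻¹ • R) (g⁻¹ * r * g⁻¹⁻¹) (conj_mem_sylow_smul hr)
              rw [mul_smul, mul_smul, inv_inv, inv_smul_eq_iff] at h2
              exact h2
            refine ⟨g • α, by rw [← smul_mul', mul_eq_one_iff_eq_inv.2 h1, smul_one], ?_,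
              key P _ hqP, key P₂ _ hbP⟩
            rw [mul_smul, mul_smul, hα, smul_div', smul_inv_smul, mul_div_cancel]
        have hodd := h.odd_mul hne hqo hqP hbo hbP
        have h1 : q₀ * (g * q₀ * g⁻¹) * (q₀ * (g * q₀ * g⁻¹)) = 1 := h.faith _ fun v => by
          obtain ⟨γ, hγ2, hγ, hγa, hγb⟩ := hfixed v _ (Or.inr rfl)
          obtain ⟨α, hα2, hα, hαa, hαb⟩ := hfixed v q₀ (Or.inl rfl)
          have h2 : (q₀ * (g * q₀ * g⁻¹)) • v = v * (α * γ) := by
            rw [mul_smul, hγ, smul_mul', hα, hγa, mul_assoc]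
          rw [mul_smul, h2, smul_mul', h2, mul_smul, smul_mul' (g * q₀ * g⁻¹) α γ, hαb, hγb, smul_mul',
            hαa, hγa, mul_assoc, mul_mul_mul_comm α, hα2, hγ2, one_mul, mul_one]
        have h2 : q₀ * (g * q₀ * g⁻¹) = 1 := mem_bot.1 (mem_of_sq_mem hodd (mem_bot.2 h1))
        exact hne (h.ti P P₂ q₀ hqP (by rwa [← inv_eq_of_mul_eq_one_right h2, invol_inv hqo] at hbP)
          (invol_ne_one hqo))
      · push Not at hall
        obtain ⟨v, a, ha, hao, R, r, hr, hmv⟩ := hall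
        obtain ⟨k, hk⟩ := MulAction.exists_smul_eq X P P₂
        set c := a • v / v with hc'
        have hc2 : c * c = 1 := by
          have h1 := smul_div_invol hao v
          rw [hfixP v a ha hao a ha] at h1
          exact mul_eq_one_iff_eq_inv.2 h1
        have hkc : ∀ z ∈ P₂, z • k • c = k • c := fun z hz => by
          rw [← hk, mem_sylow_smul] at hz
          have h1 := hfixP v a ha hao _ hz
          rwa [mul_smul, mul_smul, inv_smul_eq_iff] at h1
        refine ⟨k • c, by rw [← smul_mul', hc2, smul_one], hkc, fun s hs hs1 hsy => hmv ?_⟩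
        have h1 := h.fix_all hne hqo hqP hq₁o hq₁P (Ne.symm hq₁ne) hkc hs hs1 hsy (k • R)
          (conj_mem_sylow_smul (g := k) hr)
        rwa [mul_smul, mul_smul, inv_smul_smul, smul_left_cancel_iff] at h1
    have hy : ∀ c ∈ P₂, orderOf c = 2 → c • y = y := fun c hc _ => hyfix c hc
    have hmove : ∀ a ∈ P, orderOf a = 2 → a • y ≠ y := fun a ha hao => hymove a ha (invol_ne_one hao)
    obtain ⟨hΩQ, hdec, hsq⟩ := h.pair_core hne hQP hQe hidx hto htP hq₀ hbo hbP htb hC hy hmove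
    have hfixP₂ : ∀ z : E, t • z ∈ fixE E (Q : Set X) → ∀ c ∈ P₂, c * c = 1 → c • z = z := fun z hz c hc hc2 => by
      have h1 : t * c * t⁻¹ ∈ P := htP2 ▸ conj_mem_sylow_smul hc
      have h2 := hz _ (hΩQ _ h1 (by rw [show t * c * t⁻¹ * (t * c * t⁻¹) = t * (c * c) * t⁻¹ by group, hc2,
        mul_one, mul_inv_cancel]))
      rwa [mul_smul, mul_smul, inv_smul_smul, smul_left_cancel_iff] at h2
    have htop : ∀ s ∈ P, s ∈ Q := by
      intro s hs
      by_cases hs1 : s = 1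
      · rw [hs1]; exact one_mem _
      obtain ⟨a, ha, d, hd, hdec'⟩ := hdec (s • y / y)
      have hUZ : a • y / y ∈ fixE E (Q : Set X) := fun r hr => by
        by_cases hr1 : r = 1
        · rw [hr1, one_smul]
        · exact hC y a (hQP ha) r (hQP hr) (invol_iff.2 ⟨hQe r hr, hr1⟩)
      have hdZ : d ∈ fixE E (Q : Set X) :=
        (mul_mem_cancel_left hUZ).1 (hdec' ▸ hc y s hs)
      have hsy : s • y = a • y * d := by
        rw [div_eq_iff_eq_mul, mul_assoc, mul_comm d, ← mul_assoc, div_mul_cancel] at hdec'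
        exact hdec'
      by_cases hsa : s • P₂ = a • P₂
      · have h1 : a⁻¹ * s = 1 := h.eq_one_of_normalizes hne (mul_mem (inv_mem (hQP ha)) hs)
          (by rw [← smul_smul, hsa, inv_smul_smul])
        exact (inv_mul_eq_one.1 h1) ▸ ha
      · exfalso
        have had : ∀ z : X, z ∈ Q → z • d = d := fun z hz => hdZ z hz
        have h1 : (a * (g * q₀ * g⁻¹) * a⁻¹) • (s • y) = s • y := by
          rw [hsy, mul_smul, mul_smul, smul_mul', inv_smul_smul, had _ (inv_mem ha), smul_mul',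
            hy _ hbP hbo, hfixP₂ d hd _ hbP (invol_mul_self hbo), smul_mul', had _ ha]
        have h2 : ∀ z ∈ s • P₂, z • (s • y) = s • y := fun z hz => by
          have h3 := hyfix _ (mem_sylow_smul.1 hz)
          rwa [mul_smul, mul_smul, inv_smul_eq_iff] at h3
        have hq₀' : a * q₀ * a⁻¹ ∈ a • P := conj_mem_sylow_smul hqP
        obtain ⟨g₁, hg₁⟩ := MulAction.exists_smul_eq X P (a • P₂)
        have h4 := h.fix_all (P := a • P₂) (Q := s • P₂) (Ne.symm hsa) (invol_conj hqo g₁)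
          (hg₁ ▸ conj_mem_sylow_smul hqP) (invol_conj hq₁o g₁) (hg₁ ▸ conj_mem_sylow_smul hq₁P)
          (fun e => hq₁ne (mul_left_cancel (mul_right_cancel e)).symm) h2 (conj_mem_sylow_smul hbP)
          (invol_ne_one (invol_conj hbo a)) h1 P hs
        exact hymove s hs hs1 (smul_left_cancel s h4)
    refine ⟨fixE E (Q : Set X) ⊓ (fixE E (Q : Set X)).comap (MulDistribMulAction.toMonoidHom E t), htop,
      ⟨y, hy2, hYmem hy hmove htop⟩, inf_le_left,
      fun e => (hsq e).imp fun d hd => ⟨⟨hd.1, hd.2.1⟩, hd.2.2⟩, fun v hv q hq hq1 hD => ?_⟩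
    have hqo' : orderOf q = 2 := invol_iff.2 ⟨hQe q hq, hq1⟩
    obtain ⟨a, ha, v', hv', rfl⟩ := hdec v
    have hu : a • y / y ∈ fixE E (Q : Set X) := hc y a (hQP ha)
    have h1 : q • (a • y / y * v') / (a • y / y * v') = q • v' / v' := by
      rw [smul_mul', hu q hq, mul_div_mul_left_eq_div]
    rw [h1] at hD
    have h2 := h.smul_eq_self hne hqo' (hQP hq) hbo hbP (hfixP₂ v' hv' _ hbP (invol_mul_self hbo))
      (hfixP₂ _ hD.2 _ hbP (invol_mul_self hbo))
    have hall2 : ∀ z ∈ P₂, z • v' = v' := fun z hz => hfixP₂ v' hv' z hz (by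
      have h3 := hQe _ (htop _ (htP2 ▸ conj_mem_sylow_smul (g := t) hz))
      rw [show t * z * t⁻¹ * (t * z * t⁻¹) = t * (z * z) * t⁻¹ by group] at h3
      simpa using h3)
    exact hv (mul_mem hu fun r hr =>
      h.fix_all hne hqo hqP hq₁o hq₁P (Ne.symm hq₁ne) hall2 (hQP hq) hq1 h2 P (hQP hr))

end Act

end CfsgLib.AbelianInter
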