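import Cfsg.Agent.Lib.Invol.AbelianInter.Setting
import Cfsg.Agent.Lib.Invol.AbelianInter.Pair

/-!
# From an essential subgroup to its automizer
-/

set_option autoImplicit false
set_option linter.unusedSectionVars false

namespace CfsgLib.AbelianInter

open Subgroup CfsgLib.Invol
open scoped IsMulCommutative

universe u

variable {G : Type u} [Group G] [Finite G]

/-- The automizer of `E`. -/
abbrev Aut (E : Subgroup G) : Subgroup (MulAut ↥E) := E.normalizerMonoidHom.range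

/-- The element of the automizer induced by an element of the normalizer. -/
abbrev toAut (E : Subgroup G) : ↥(normalizer (E : Set G)) →* ↥(Aut E) :=
  E.normalizerMonoidHom.rangeRestrict

theorem coe_toAut_smul {E : Subgroup G} [IsMulCommutative E] (g : ↥(normalizer (E : Set G))) (e : E) :
    ((toAut E g • e : E) : G) = (g : G) * (e : G) * (g : G)⁻¹ := rfl

theorem toAut_eq_one_iff {E : Subgroup G} {g : ↥(normalizer (E : Set G))} :
    toAut E g = 1 ↔ (g : G) ∈ centralizer (E : Set G) := by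
  rw [← MonoidHom.mem_ker, MonoidHom.ker_rangeRestrict, normalizerMonoidHom_ker, mem_subgroupOf]

theorem isMulCommutative_of {E : Subgroup G} (h : ∀ a ∈ E, ∀ b ∈ E, Commute a b) : IsMulCommutative E :=
  ⟨⟨fun a b => Subtype.ext (h a.1 a.2 b.1 b.2)⟩⟩

variable {S : Sylow 2 G} {E F : Subgroup G}

theorem Ess.isMulCommutative (h : Ess S E) : IsMulCommutative E := isMulCommutative_of h.comm

theorem Ess.le_inf (h : Ess S E) : E ≤ (S : Subgroup G) ⊓ normalizer (E : Set G) :=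
  _root_.le_inf h.le le_normalizer

theorem isNilpotent_sylow (S : Sylow 2 G) : Group.IsNilpotent (S : Subgroup G) := S.2.isNilpotent

/-- A proper subgroup of `S` grows in its normalizer. -/
theorem exists_normalizer_notMem (S : Sylow 2 G) {H K : Subgroup G} (hHK : H ≤ K) (hK : K ≤ (S : Subgroup G))
    (hne : ¬ K ≤ H) : ∃ r ∈ K, r ∈ normalizer (H : Set G) ∧ r ∉ H := by
  haveI : Group.IsNilpotent K := (S.2.to_le hK).isNilpotent
  have h1 : H.subgroupOf K < ⊤ := lt_top_iff_ne_top.2 fun e => hne (subgroupOf_eq_top.1 e)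
  obtain ⟨r, hr, hr'⟩ := SetLike.exists_of_lt (Group.normalizerCondition_of_isNilpotent (G := K) _ h1)
  refine ⟨r, r.2, mem_normalizer_iff.2 fun x => ⟨fun hx => ?_, fun hx => ?_⟩, fun hm => hr' hm⟩
  · exact mem_subgroupOf.1 ((mem_normalizer_iff.1 hr ⟨x, hHK hx⟩).1 (mem_subgroupOf.2 hx))
  · have hxK : x ∈ K := by simpa [mul_assoc] using mul_mem (mul_mem (inv_mem r.2) (hHK hx)) r.2
    exact mem_subgroupOf.1 ((mem_normalizer_iff.1 hr ⟨x, hxK⟩).2 (mem_subgroupOf.2 hx))

/-- If every element of `S` normalizing `E` and commuting with `y` is in `E`, so is every element of `S`. -/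
theorem Ess.cent_of_inf (h : Ess S E) {y : G} (hy : ∀ e ∈ E, Commute e y)
    (hN : ∀ s ∈ (S : Subgroup G), s ∈ normalizer (E : Set G) → Commute s y → s ∈ E) :
    ∀ s ∈ (S : Subgroup G), Commute s y → s ∈ E := by
  intro s hs hsy
  by_contra hsE
  obtain ⟨r, hr, hrn, hrE⟩ := exists_normalizer_notMem S (H := E)
    (K := (S : Subgroup G) ⊓ centralizer {y})
    (_root_.le_inf h.le fun e he => mem_centralizer_singleton_iff.2 (hy e he).eq) inf_le_left
    (fun hle => hsE (hle ⟨hs, mem_centralizer_singleton_iff.2 hsy.eq⟩))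
  exact hrE (hN r hr.1 hrn (mem_centralizer_singleton_iff.1 hr.2))

/-- Some element of `S` normalizes `E` outside it. -/
theorem Ess.exists_outside (h : Ess S E) :
    ∃ s ∈ (S : Subgroup G), s ∈ normalizer (E : Set G) ∧ s ∉ E := by
  refine exists_normalizer_notMem S h.le le_rfl fun hle => ?_
  obtain ⟨g, hg, hgn⟩ := h.moves
  have hES : E = (S : Subgroup G) := le_antisymm h.le hle
  exact hgn 1 (one_mem _) (by rw [one_mul, ← hES]; exact hg)

variable (hA : InterAb G)
include hA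

/-- An element of `N(E)` fusing elements acting nontrivially is, up to `C(E)`, in `N(S)`. -/
theorem Ess.exists_mem_normalizer (h : Ess S E) {g : G} (hg : g ∈ normalizer (E : Set G)) {s s' c₀ : G}
    (hs : s ∈ (S : Subgroup G)) (hsn : s ∈ normalizer (E : Set G)) (hsE : s ∉ E)
    (hs' : s' ∈ (S : Subgroup G)) (hs'n : s' ∈ normalizer (E : Set G)) (hc₀ : c₀ ∈ centralizer (E : Set G))
    (heq : g * s * g⁻¹ = c₀ * s') :
    ∃ c ∈ centralizer (E : Set G), c * g ∈ normalizer ((S : Subgroup G) : Set G) := by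
  set N := (S : Subgroup G) ⊓ normalizer (E : Set G) with hN
  have hCn : centralizer (E : Set G) ≤ normalizer (E : Set G) := centralizer_le_normalizer _
  have hCnorm : normalizer (E : Set G) ≤ normalizer ((centralizer (E : Set G) : Subgroup G) : Set G) := by
    intro n hn
    refine CfsgLib.Fusion.conjBy_eq_iff.1 ?_
    rw [CfsgLib.Fusion.conjBy_centralizer, CfsgLib.Fusion.conjBy_eq_iff.2 hn]
  set H := N ⊔ centralizer (E : Set G) with hH
  have hHn : H ≤ normalizer (E : Set G) := sup_le inf_le_right hCn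
  have hi : ¬ 2 ∣ N.relIndex H := fun hd => h.sylow (hd.trans
    (relIndex_mul_relIndex N H _ le_sup_left hHn ▸ dvd_mul_right _ _))
  set T := (E ⊔ zpowers s).map (MulAut.conj g).toMonoidHom with hT
  have hEs : E ⊔ zpowers s ≤ (S : Subgroup G) := sup_le h.le (zpowers_le.2 hs)
  have hTp : IsPGroup 2 T := (S.2.to_le hEs).map _
  have hTH : T ≤ H := by
    rw [hT, map_le_iff_le_comap, sup_le_iff, zpowers_le]
    refine ⟨fun e he => mem_sup_left (h.le_inf ((mem_normalizer_iff.1 hg e).1 he)), ?_⟩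
    show g * s * g⁻¹ ∈ H
    rw [heq]
    exact mul_mem (mem_sup_right hc₀) (mem_sup_left ⟨hs', hs'n⟩)
  obtain ⟨x, hx, hle⟩ := CfsgLib.Fusion.exists_conj_le_of_not_dvd_relIndex
    (S.2.to_le inf_le_left) le_sup_left hi hTp hTH
  rw [← SetLike.mem_coe, coe_mul_of_left_le_normalizer_right _ _ (inf_le_right.trans hCnorm),
    Set.mem_mul] at hx
  obtain ⟨n, hn, c, hc, rfl⟩ := hx
  refine ⟨c, hc, ?_⟩
  have hmem : ∀ a ∈ E ⊔ zpowers s, c * g * a * (c * g)⁻¹ ∈ (S : Subgroup G) := fun a ha => by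
    have h1 := CfsgLib.Fusion.conjBy_le_iff.1 hle _ (mem_map_of_mem (MulAut.conj g).toMonoidHom ha)
    have h2 : n⁻¹ * (n * c * (g * a * g⁻¹) * (n * c)⁻¹) * n ∈ (S : Subgroup G) :=
      (mul_mem (mul_mem (inv_mem hn) h1) hn).1
    rwa [show n⁻¹ * (n * c * (g * a * g⁻¹) * (n * c)⁻¹) * n = c * g * a * (c * g)⁻¹ by group] at h2
  obtain ⟨e, he, hne⟩ : ∃ e ∈ E, ¬ Commute s e := by
    by_contra hall
    push Not at hall
    exact hsE (h.cent s hs hall)
  exact hA.mem_normalizer hs (h.le he) hne (hmem s (mem_sup_right (mem_zpowers s)))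
    (hmem e (mem_sup_left he))

omit hA in
theorem Ess.exists_sylow (h : Ess S E) [IsMulCommutative E] :
    ∃ P : Sylow 2 (Aut E), ∀ x, x ∈ P ↔ ∃ s : normalizer (E : Set G), (s : G) ∈ (S : Subgroup G) ∧
      toAut E s = x := by
  have hp : IsPGroup 2 ((S : Subgroup G).subgroupOf (normalizer (E : Set G))) := by
    rw [← inf_subgroupOf_right]
    exact (S.2.to_le inf_le_left).of_equiv (subgroupOfEquivOfLe inf_le_right).symm
  have hi : ¬ 2 ∣ ((S : Subgroup G).subgroupOf (normalizer (E : Set G))).index := by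
    rw [← inf_subgroupOf_right]
    exact h.sylow
  refine ⟨(hp.toSylow hi).mapSurjective E.normalizerMonoidHom.rangeRestrict_surjective, fun x => ?_⟩
  show x ∈ (Sylow.mapSurjective _ (hp.toSylow hi) : Sylow 2 (Aut E)).toSubgroup ↔ _
  rw [Sylow.coe_mapSurjective]
  rfl

/-- The automizer of an essential subgroup. -/
theorem Ess.act (h : Ess S E) [IsMulCommutative E] : Act ↥E ↥(Aut E) := by
  obtain ⟨P₀, hP₀⟩ := h.exists_sylow
  have key : ∀ g : normalizer (E : Set G), ∀ a ∈ P₀, a ≠ 1 → toAut E g * a * (toAut E g)⁻¹ ∈ P₀ →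
      toAut E g • P₀ = P₀ ∧ ∃ c ∈ centralizer (E : Set G), c * (g : G) ∈ normalizer ((S : Subgroup G) : Set G) := by
    intro g a ha ha1 hga
    obtain ⟨s, hs, rfl⟩ := (hP₀ a).1 ha
    obtain ⟨s', hs', he⟩ := (hP₀ _).1 hga
    have hsE : (s : G) ∉ E := fun hm => ha1 (toAut_eq_one_iff.2
      (mem_centralizer_iff.2 fun e he => h.comm e he s hm))
    have hc₀ : (g : G) * s * (g : G)⁻¹ * (s' : G)⁻¹ ∈ centralizer (E : Set G) := by
      have h1 : toAut E (g * s * g⁻¹ * s'⁻¹) = 1 := by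
        rw [map_mul, map_mul, map_mul, map_inv, map_inv, he, mul_inv_cancel]
      exact toAut_eq_one_iff.1 h1
    obtain ⟨c, hc, hn⟩ := h.exists_mem_normalizer hA g.2 hs s.2 hsE hs' s'.2 hc₀
      (inv_mul_cancel_right _ _).symm
    refine ⟨Sylow.smul_eq_iff_mem_normalizer.2 (mem_normalizer_fintype ?_), c, hc, hn⟩
    intro x hx
    obtain ⟨t, ht, rfl⟩ := (hP₀ x).1 hx
    have hcg : c * (g : G) ∈ normalizer (E : Set G) := mul_mem (centralizer_le_normalizer _ hc) g.2
    refine (hP₀ _).2 ⟨⟨c * g, hcg⟩ * t * ⟨c * g, hcg⟩⁻¹, (mem_normalizer_iff.1 hn t).1 ht, ?_⟩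
    have h2 : toAut E ⟨c * g, hcg⟩ = toAut E g := by
      rw [show (⟨c * g, hcg⟩ : normalizer (E : Set G)) = ⟨c, centralizer_le_normalizer _ hc⟩ * g from rfl,
        map_mul, toAut_eq_one_iff.2 hc, one_mul]
    rw [map_mul, map_mul, map_inv, h2]
  refine ⟨S.2.to_le h.le, fun x hx => Subtype.ext (MulEquiv.ext hx), fun P Q a haP haQ ha1 => ?_,
    fun P => ?_⟩
  · obtain ⟨g, rfl⟩ := MulAction.exists_smul_eq (Aut E) P₀ P
    obtain ⟨k, rfl⟩ := MulAction.exists_smul_eq (Aut E) P₀ Q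
    obtain ⟨g', hg'⟩ := E.normalizerMonoidHom.rangeRestrict_surjective (k⁻¹ * g)
    rw [mem_sylow_smul] at haP haQ
    have h1 : toAut E g' * (g⁻¹ * a * g) * (toAut E g')⁻¹ ∈ P₀ := by
      rw [show toAut E g' = k⁻¹ * g from hg', show k⁻¹ * g * (g⁻¹ * a * g) * (k⁻¹ * g)⁻¹ = k⁻¹ * a * k by group]
      exact haQ
    have h2 := (key g' _ haP (fun e => ha1 (by
      simpa using conj_eq_one_iff.1 (show g⁻¹ * a * g⁻¹⁻¹ = 1 by rwa [inv_inv]))) h1).1
    rw [show toAut E g' = k⁻¹ * g from hg', ← smul_smul, inv_smul_eq_iff] at h2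
    exact h2
  · have hex : ∃ Q : Sylow 2 (Aut E), Q ≠ P₀ := by
      obtain ⟨g, hg, hgn⟩ := h.moves
      obtain ⟨s, hs, hsn, hsE⟩ := h.exists_outside
      refine ⟨toAut E ⟨g, hg⟩ • P₀, fun e => ?_⟩
      have ha : toAut E ⟨s, hsn⟩ ∈ P₀ := (hP₀ _).2 ⟨⟨s, hsn⟩, hs, rfl⟩
      have ha1 : toAut E ⟨s, hsn⟩ ≠ 1 := fun e1 => hsE (h.cent s hs fun x hx =>
        (mem_centralizer_iff.1 (toAut_eq_one_iff.1 e1) x hx).symm)
      have h1 := conj_mem_sylow_smul (g := toAut E ⟨g, hg⟩) ha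
      rw [e] at h1
      obtain ⟨c, hc, hn⟩ := (key _ _ ha ha1 h1).2
      exact hgn c hc hn
    obtain ⟨Q, hQ⟩ := hex
    by_cases hP : P = P₀
    · exact ⟨Q, hP.symm ▸ hQ⟩
    · exact ⟨P₀, Ne.symm hP⟩

/-- An abelian subgroup of `S` and an essential one normalizing each other: squares land inside. -/
theorem Ess.sq_mem (h : Ess S E) {F : Subgroup G} (hF : F ≤ (S : Subgroup G))
    (hFc : ∀ a ∈ F, ∀ b ∈ F, Commute a b) (hFn : F ≤ normalizer (E : Set G))
    (hEn : E ≤ normalizer (F : Set G)) {f : G} (hf : f ∈ F) : f * f ∈ E := by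
  have := h.isMulCommutative
  by_contra hff
  have hact := h.act hA
  set x := toAut E ⟨f * f, hFn (mul_mem hf hf)⟩ with hx
  have hx1 : x ≠ 1 := fun e => hff (h.cent _ (hF (mul_mem hf hf)) fun v hv =>
    (mem_centralizer_iff.1 (toAut_eq_one_iff.1 e) v hv).symm)
  have hfix : ∀ v : E, v * v = 1 → x • v = v := by
    intro v hv
    refine Subtype.ext ?_
    rw [hx, coe_toAut_smul]
    have hv' : (v : G) * v = 1 := congrArg Subtype.val hv
    set c := f * (v : G) * f⁻¹ * (v : G)⁻¹ with hc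
    have hcE : c ∈ E := mul_mem ((mem_normalizer_iff.1 (hFn hf) _).1 v.2) (inv_mem v.2)
    have hcF : c ∈ F := by
      rw [hc, mul_assoc f, mul_assoc f]
      exact mul_mem hf ((mem_normalizer_iff.1 (hEn v.2) _).1 (inv_mem hf))
    have hcv : Commute c (v : G) := h.comm c hcE v v.2
    have h1 : f * (v : G) * f⁻¹ = c * v := (inv_mul_cancel_right _ _).symm
    have h2 : c * c = 1 := by
      have h3 : f * (v : G) * f⁻¹ * (f * (v : G) * f⁻¹) = 1 := by
        rw [show f * (v : G) * f⁻¹ * (f * (v : G) * f⁻¹) = f * ((v : G) * v) * f⁻¹ by group, hv']; group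
      rwa [h1, hcv.symm.mul_mul_mul_comm, hv', mul_one] at h3
    show f * f * (v : G) * (f * f)⁻¹ = v
    rw [show f * f * (v : G) * (f * f)⁻¹ = f * (f * (v : G) * f⁻¹) * f⁻¹ by group, h1,
      show f * (c * v) * f⁻¹ = f * c * f⁻¹ * (f * (v : G) * f⁻¹) by group, h1,
      (hFc f hf c hcF).eq, mul_inv_cancel_right, ← mul_assoc, h2, one_mul]
  obtain ⟨k, hk⟩ : ∃ k, orderOf x = 2 ^ k := by
    obtain ⟨k, hk⟩ := S.2 ⟨f * f, hF (mul_mem hf hf)⟩
    have h1 : x ^ 2 ^ k = 1 := by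
      rw [hx, ← map_pow, show (⟨f * f, hFn (mul_mem hf hf)⟩ : normalizer (E : Set G)) ^ 2 ^ k = 1 from
        Subtype.ext (by simpa using congrArg Subtype.val hk), map_one]
    obtain ⟨j, -, hj⟩ := (Nat.dvd_prime_pow Nat.prime_two).1 (orderOf_dvd_of_pow_eq_one h1)
    exact ⟨j, hj⟩
  rcases k with - | k
  · exact hx1 (orderOf_eq_one_iff.1 (by rw [hk, pow_zero]))
  obtain ⟨v, hv, hne⟩ := hact.exists_moved (orderOf_pow_half (a := x) (by rw [hk]; simp [Nat.even_pow]))
  exact hne (MulAction.mem_stabilizer_iff.1 (pow_mem (MulAction.mem_stabilizer_iff.2 (hfix v hv)) _))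

end CfsgLib.AbelianInter
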