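import Cfsg.Agent.Lib.Invol.AbelianInter.Bridge

/-!
# Two essential subgroups normalizing each other
-/

set_option autoImplicit false
set_option linter.unusedSectionVars false

namespace CfsgLib.AbelianInter

open Subgroup CfsgLib.Invol
open scoped IsMulCommutative

universe u

variable {G : Type u} [Group G] [Finite G]

/-- The pair lemma in `G`. -/
structure GPair (S : Sylow 2 G) (E F D : Subgroup G) : Prop where
  top : ∀ s ∈ (S : Subgroup G), s ∈ normalizer (E : Set G) → ∃ f ∈ F, ∃ e ∈ E, s = f * e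
  witness : ∃ y ∈ E, y * y = 1 ∧ ∀ s ∈ (S : Subgroup G), Commute s y → s ∈ E
  le : D ≤ E ⊓ F
  sq : ∀ e ∈ E, ∃ d ∈ D, e * e = d * d
  comm_notMem : ∀ v ∈ E, v ∉ F → ∀ f ∈ F, f ∉ E → f * v * f⁻¹ * v⁻¹ ∉ D
  quad : ∀ v ∈ E, ∀ s ∈ (S : Subgroup G), s ∈ normalizer (E : Set G) → s * v * s⁻¹ * v⁻¹ ∈ F

variable {S : Sylow 2 G} {E F : Subgroup G}

/-- The pair lemma, in `G`. -/
theorem gpair (hA : InterAb G) (hE : Ess S E) (hF : Ess S F) (hFn : F ≤ normalizer (E : Set G))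
    (hN : (S : Subgroup G) ⊓ normalizer (E : Set G) ≤ normalizer (F : Set G)) (hne : ¬ F ≤ E)
    (hidx : (E ⊓ F).relIndex E ≤ (E ⊓ F).relIndex F) : ∃ D, GPair S E F D := by
  classical
  have := hE.isMulCommutative
  have := hF.isMulCommutative
  have hact := hE.act hA
  have hEn : E ≤ normalizer (F : Set G) := fun e he => hN (hE.le_inf he)
  have hsq : ∀ f ∈ F, f * f ∈ E := fun f hf => hE.sq_mem hA hF.le hF.comm hFn hEn hf
  have hsqE : ∀ e ∈ E, e * e ∈ F := fun e he => hF.sq_mem hA hE.le hE.comm hEn hFn he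
  -- commutators with `S ⊓ N(E)` lie in `F`
  have hquad : ∀ v ∈ E, ∀ s ∈ (S : Subgroup G), s ∈ normalizer (E : Set G) → s * v * s⁻¹ * v⁻¹ ∈ F := by
    intro v hv s hs hsn
    have hactF := hF.act hA
    obtain ⟨P, hP⟩ := hF.exists_sylow
    have hsF : s ∈ normalizer (F : Set G) := hN ⟨hs, hsn⟩
    have hc : Commute (toAut F ⟨v, hEn hv⟩) (toAut F ⟨s, hsF⟩) := by
      by_cases h1 : toAut F ⟨v, hEn hv⟩ = 1
      · rw [h1]; exact Commute.one_left _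
      · refine hactF.commute_invol (invol_iff.2 ⟨?_, h1⟩) ((hP _).2 ⟨⟨v, hEn hv⟩, hE.le hv, rfl⟩)
          ((hP _).2 ⟨⟨s, hsF⟩, hs, rfl⟩)
        rw [← map_mul]
        exact toAut_eq_one_iff.2 (mem_centralizer_iff.2 fun f hf => hF.comm f hf _ (hsqE v hv))
    have h2 : toAut F (⟨s, hsF⟩ * ⟨v, hEn hv⟩ * ⟨s, hsF⟩⁻¹ * ⟨v, hEn hv⟩⁻¹) = 1 := by
      rw [map_mul, map_mul, map_mul, map_inv, map_inv, ← hc.eq, mul_inv_cancel_right, mul_inv_cancel]
    exact hF.cent _ (mul_mem (mul_mem (mul_mem hs (hE.le hv)) (inv_mem hs)) (inv_mem (hE.le hv)))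
      fun f hf => (mem_centralizer_iff.1 (toAut_eq_one_iff.1 h2) f hf).symm
  obtain ⟨P, hP⟩ := hE.exists_sylow
  set φ : ↥F →* ↥(Aut E) := (toAut E).comp (inclusion hFn) with hφ
  set Q : Subgroup (Aut E) := φ.range with hQ
  have hfix : fixE ↥E (Q : Set (Aut E)) = (E ⊓ F).subgroupOf E := by
    ext v
    rw [mem_fixE, mem_subgroupOf]
    constructor
    · intro hv
      refine ⟨v.2, hF.cent _ (hE.le v.2) fun f hf => ?_⟩
      have h1 := congrArg Subtype.val (hv _ ⟨⟨f, hf⟩, rfl⟩)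
      rw [hφ, MonoidHom.comp_apply, coe_toAut_smul] at h1
      exact (mul_inv_eq_iff_eq_mul.1 h1).symm
    · rintro hv _ ⟨f, rfl⟩
      refine Subtype.ext ?_
      rw [hφ, MonoidHom.comp_apply, coe_toAut_smul]
      exact mul_inv_eq_iff_eq_mul.2 (hF.comm f f.2 v hv.2)
  have hker : φ.ker = (E ⊓ F).subgroupOf F := by
    ext f
    rw [MonoidHom.mem_ker, hφ, MonoidHom.comp_apply, toAut_eq_one_iff, mem_subgroupOf, mem_centralizer_iff]
    exact ⟨fun h => ⟨hE.cent _ (hF.le f.2) fun e he => (h e he).symm, f.2⟩,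
      fun h e he => hE.comm e he _ h.1⟩
  have hQP : Q ≤ (P : Subgroup (Aut E)) := by
    rintro _ ⟨f, rfl⟩
    exact (hP _).2 ⟨inclusion hFn f, hF.le f.2, rfl⟩
  have hQ1 : Q ≠ ⊥ := by
    intro e
    refine hne fun f hf => hE.cent f (hF.le hf) fun v hv => ?_
    have h1 : φ ⟨f, hf⟩ = 1 := mem_bot.1 (e ▸ MonoidHom.mem_range.2 ⟨_, rfl⟩)
    exact (mem_centralizer_iff.1 (toAut_eq_one_iff.1 h1) v hv).symm
  have hQe : ∀ q ∈ Q, q * q = 1 := by
    rintro _ ⟨f, rfl⟩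
    rw [← map_mul, ← MonoidHom.mem_ker, hker, mem_subgroupOf]
    exact ⟨hsq f f.2, mul_mem f.2 f.2⟩
  have hcard : (fixE ↥E (Q : Set (Aut E))).index ≤ Nat.card Q := by
    rw [hfix, hQ, ← index_ker, hker]
    exact hidx
  have hc : ∀ v : E, ∀ x ∈ P, x • v / v ∈ fixE ↥E (Q : Set (Aut E)) := by
    intro v x hx
    obtain ⟨s, hs, rfl⟩ := (hP x).1 hx
    rw [hfix, mem_subgroupOf, div_eq_mul_inv, coe_mul, coe_inv, coe_toAut_smul]
    exact mem_inf.2 ⟨mul_mem ((mem_normalizer_iff.1 s.2 _).1 v.2) (inv_mem v.2), hquad v v.2 s hs s.2⟩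
  obtain ⟨D, hD⟩ := hact.pair hQP hQ1 hQe hcard hc
  refine ⟨D.map E.subtype, fun s hs hsn => ?_, ?_, ?_, ?_, ?_, hquad⟩
  · obtain ⟨f, hf⟩ := MonoidHom.mem_range.1 (hD.top _ ((hP _).2 ⟨⟨s, hsn⟩, hs, rfl⟩))
    refine ⟨f, f.2, (f : G)⁻¹ * s, hE.cent _ (mul_mem (inv_mem (hF.le f.2)) hs) fun v hv => ?_, by group⟩
    have h1 : toAut E ((inclusion hFn f)⁻¹ * ⟨s, hsn⟩) = 1 := by
      rw [map_mul, map_inv, ← MonoidHom.comp_apply, ← hφ, hf, inv_mul_cancel]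
    exact (mem_centralizer_iff.1 (toAut_eq_one_iff.1 h1) v hv).symm
  · obtain ⟨y, hy2, hy⟩ := hD.witness
    refine ⟨y, y.2, congrArg Subtype.val hy2, hE.cent_of_inf (fun e he => hE.comm e he y y.2)
      fun s hs hsn hsy => ?_⟩
    have h1 := hy _ ((hP _).2 ⟨⟨s, hsn⟩, hs, rfl⟩) (Subtype.ext (by
      rw [coe_toAut_smul]
      exact mul_inv_eq_iff_eq_mul.2 hsy.eq))
    exact hE.cent s hs fun v hv => (mem_centralizer_iff.1 (toAut_eq_one_iff.1 h1) v hv).symm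
  · rintro _ ⟨d, hd, rfl⟩
    have := hD.le hd
    rw [hfix, mem_subgroupOf] at this
    exact this
  · intro e he
    obtain ⟨d, hd, hde⟩ := hD.sq ⟨e, he⟩
    exact ⟨d, mem_map_of_mem _ hd, congrArg Subtype.val hde⟩
  · intro v hv hvF f hf hfE hmem
    obtain ⟨d, hd, hde⟩ := hmem
    refine hD.comm_notMem ⟨v, hv⟩ (fun hm => hvF ?_) (φ ⟨f, hf⟩) ⟨_, rfl⟩ (fun e1 => hfE ?_) ?_
    · rw [hfix, mem_subgroupOf] at hm
      exact hm.2
    · rw [← MonoidHom.mem_ker, hker, mem_subgroupOf] at e1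
      exact e1.1
    · rwa [show φ ⟨f, hf⟩ • (⟨v, hv⟩ : E) / ⟨v, hv⟩ = d from Subtype.ext (by
        rw [div_eq_mul_inv, coe_mul, coe_inv, hφ, MonoidHom.comp_apply, coe_toAut_smul]
        exact hde.symm)]

end CfsgLib.AbelianInter
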