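import Cfsg.Agent.Lib.Invol.AbelianInter.Setting

/-!
# The data of a nonnormal essential subgroup with automizer generated by three transvections
-/

set_option autoImplicit false
set_option linter.unusedSectionVars false

namespace CfsgLib.AbelianInter

open Subgroup

universe u

variable {G : Type u} [Group G]

/-- Fixed by the elements of `N(E)` inducing involutions on `E`. -/
def Fixed (E : Subgroup G) (d : G) : Prop :=
  ∀ g ∈ normalizer (E : Set G), g * g ∈ centralizer (E : Set G) → Commute g d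

/-- `w` is the commutator with `S`, and `w`, `y`, `y * w` are the three centres. -/
structure TwoData (S : Sylow 2 G) (E : Subgroup G) (w y : G) : Prop where
  ess : Ess S E
  not_normal : ∃ s ∈ (S : Subgroup G), s ∉ normalizer (E : Set G)
  w_mem : w ∈ E
  y_mem : y ∈ E
  w_ne : w ≠ 1
  w_sq : w * w = 1
  y_sq : y * y = 1
  cy : ∀ s ∈ (S : Subgroup G), Commute s y → s ∈ E
  move : ∃ r ∈ (S : Subgroup G), r ∈ normalizer (E : Set G) ∧ r * y * r⁻¹ = y * w
  quad : ∀ s ∈ (S : Subgroup G), s ∈ normalizer (E : Set G) → ∀ e ∈ E,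
    s * e * s⁻¹ = e ∨ s * e * s⁻¹ = e * w
  no_sq : ∀ e ∈ E, e * e ≠ w
  perm : ∀ g ∈ normalizer (E : Set G), ∀ x : G, (x = w ∨ x = y ∨ x = y * w) →
    g * x * g⁻¹ = w ∨ g * x * g⁻¹ = y ∨ g * x * g⁻¹ = y * w
  conj_y : ∃ g ∈ normalizer (E : Set G), g * w * g⁻¹ = y
  decomp : ∀ e ∈ E, ∃ d ∈ E, Fixed E d ∧ (e = d ∨ e = d * w ∨ e = d * y ∨ e = d * (y * w))
  fix_conj : ∀ g ∈ normalizer (E : Set G), ∀ d ∈ E, Fixed E d →
    ∃ n ∈ normalizer ((S : Subgroup G) : Set G), n ∈ normalizer (E : Set G) ∧ g * d * g⁻¹ = n * d * n⁻¹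

/-- All essential subgroups are of this sort. -/
structure TwoSys (S : Sylow 2 G) : Prop where
  ess : ∃ E, Ess S E
  data : ∀ E, Ess S E → ∃ w y, TwoData S E w y
  uniq : ∀ E w y w' y', TwoData S E w y → TwoData S E w' y' → w' = w ∧ (y' = y ∨ y' = y * w)
  conj : ∀ E w y, ∀ n ∈ normalizer ((S : Subgroup G) : Set G), TwoData S E w y →
    TwoData S (E.map (MulAut.conj n).toMonoidHom) (n * w * n⁻¹) (n * y * n⁻¹)

end CfsgLib.AbelianInter
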