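import Cfsg.Agent.Lib.Invol.AbelianInter.GPair
import Cfsg.Agent.Lib.Invol.AbelianInter.TwoData

/-!
# Conjugates and transvections of essential subgroups
-/

set_option autoImplicit false
set_option linter.unusedSectionVars false

namespace CfsgLib.AbelianInter

open Subgroup CfsgLib.Invol
open scoped IsMulCommutative

universe u

variable {G : Type u} [Group G] [Finite G] {S : Sylow 2 G} {E : Subgroup G}

theorem mem_map_conj {H : Subgroup G} {g x : G} :
    x ∈ H.map (MulAut.conj g).toMonoidHom ↔ g⁻¹ * x * g ∈ H :=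
  CfsgLib.Fusion.mem_conjBy

theorem conj_mem_map_conj {H : Subgroup G} {g x : G} (hx : x ∈ H) :
    g * x * g⁻¹ ∈ H.map (MulAut.conj g).toMonoidHom := ⟨x, hx, rfl⟩

theorem mem_normalizer_map_conj {H : Subgroup G} {g s : G} :
    s ∈ normalizer ((H.map (MulAut.conj g).toMonoidHom : Subgroup G) : Set G) ↔
      g⁻¹ * s * g ∈ normalizer (H : Set G) := by
  simp only [mem_normalizer_iff, mem_map_conj]
  constructor
  · intro h x
    have := h (g * x * g⁻¹)
    simpa [mul_assoc] using this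
  · intro h x
    simpa [mul_assoc] using h (g⁻¹ * x * g)

theorem mem_sylow_conj_iff {n s : G} (hn : n ∈ normalizer ((S : Subgroup G) : Set G)) :
    n⁻¹ * s * n ∈ (S : Subgroup G) ↔ s ∈ (S : Subgroup G) :=
  (mem_normalizer_iff''.1 hn s).symm

theorem Ess.conj (h : Ess S E) {n : G} (hn : n ∈ normalizer ((S : Subgroup G) : Set G)) :
    Ess S (E.map (MulAut.conj n).toMonoidHom) := by
  refine ⟨?_, ?_, fun s hs hc => ?_, ?_, ?_⟩
  · rintro x hx
    exact (mem_sylow_conj_iff hn).1 (h.le (mem_map_conj.1 hx))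
  · rintro _ ⟨a, ha, rfl⟩ _ ⟨b, hb, rfl⟩
    exact (h.comm a ha b hb).map _
  · refine mem_map_conj.2 (h.cent _ ((mem_sylow_conj_iff hn).2 hs) fun e he => ?_)
    have := (hc _ (conj_mem_map_conj he)).map (MulAut.conj n⁻¹).toMonoidHom
    simpa [mul_assoc] using this
  · have h1 : normalizer ((E.map (MulAut.conj n).toMonoidHom : Subgroup G) : Set G) =
        (normalizer (E : Set G)).map (MulAut.conj n).toMonoidHom := by
      ext x; rw [mem_normalizer_map_conj, mem_map_conj]
    have h2 : (S : Subgroup G) ⊓ normalizer ((E.map (MulAut.conj n).toMonoidHom : Subgroup G) : Set G) =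
        ((S : Subgroup G) ⊓ normalizer (E : Set G)).map (MulAut.conj n).toMonoidHom := by
      ext x; rw [mem_inf, mem_normalizer_map_conj, mem_map_conj, mem_inf, mem_sylow_conj_iff hn]
    rw [h2, h1, relIndex_map_map_of_injective _ _ (MulAut.conj n).injective]
    exact h.sylow
  · obtain ⟨g, hg, hgn⟩ := h.moves
    refine ⟨n * g * n⁻¹, mem_normalizer_map_conj.2 (by simpa [mul_assoc] using hg), fun c hc hcg => ?_⟩
    refine hgn (n⁻¹ * c * n) (mem_centralizer_iff.2 fun e he => ?_) ?_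
    · have h2 := mem_centralizer_iff.1 hc _ (conj_mem_map_conj (g := n) he)
      calc e * (n⁻¹ * c * n) = n⁻¹ * (n * e * n⁻¹ * c) * n := by group
        _ = n⁻¹ * c * n * e := by rw [h2]; group
    · have h2 := mul_mem (mul_mem (inv_mem hn) hcg) hn
      simpa [mul_assoc] using h2

variable (hA : InterAb G)
include hA

/-- An element moving the involutions of `E` only by `w`: `S` normalizes `E` only up to index two. -/
theorem Ess.of_transv (h : Ess S E) {p w : G} (hp : p ∈ (S : Subgroup G))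
    (hpn : p ∈ normalizer (E : Set G)) (hpE : p ∉ E) (hp2 : p * p ∈ E)
    (hw : ∀ v ∈ E, v * v = 1 → p * v * p⁻¹ = v ∨ p * v * p⁻¹ = v * w) :
    (∀ s ∈ (S : Subgroup G), s ∈ normalizer (E : Set G) → s ∈ E ∨ p⁻¹ * s ∈ E) ∧
      ∃ y ∈ E, y * y = 1 ∧ y ≠ 1 ∧ p * y * p⁻¹ ≠ y ∧
        ∀ s ∈ (S : Subgroup G), Commute s y → s ∈ E := by
  have := h.isMulCommutative
  have hact := h.act hA
  obtain ⟨P, hP⟩ := h.exists_sylow
  set a := toAut E ⟨p, hpn⟩ with ha
  have hmemE : ∀ {s : G} (hs : s ∈ (S : Subgroup G)) (hsn : s ∈ normalizer (E : Set G)),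
      toAut E ⟨s, hsn⟩ = 1 → s ∈ E := fun hs _ h1 => h.cent _ hs fun v hv =>
    (mem_centralizer_iff.1 (toAut_eq_one_iff.1 h1) v hv).symm
  have hao : orderOf a = 2 := invol_iff.2 ⟨by
    rw [ha, ← map_mul]
    exact toAut_eq_one_iff.2 (mem_centralizer_iff.2 fun v hv => h.comm v hv _ hp2),
    fun e => hpE (hmemE hp hpn e)⟩
  have haP : a ∈ P := (hP _).2 ⟨_, hp, rfl⟩
  obtain ⟨v₀, hv₀, hm₀⟩ := hact.exists_moved hao
  set w' : E := a • v₀ / v₀ with hw'
  have hTr : Transv a w' := by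
    intro v hv
    have key : ∀ v : E, v * v = 1 → a • v = v ∨ ((a • v : E) : G) = (v : G) * w := fun v hv => by
      rcases hw v v.2 (congrArg Subtype.val hv) with e | e
      · exact Or.inl (Subtype.ext e)
      · exact Or.inr e
    refine (key v hv).imp_right fun e => Subtype.ext ?_
    have h0 := (key v₀ hv₀).resolve_left hm₀
    have hw'' : (w' : G) = w := by
      rw [hw', div_eq_mul_inv, coe_mul, coe_inv, h0]
      have hwE : w ∈ E := inv_mul_cancel_left (v₀ : G) w ▸ mul_mem (inv_mem v₀.2) (h0 ▸ (a • v₀).2)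
      rw [(h.comm _ v₀.2 w hwE).eq, mul_inv_cancel_right]
    rw [e, coe_mul, hw'']
  refine ⟨fun s hs hsn => ?_, ?_⟩
  · rcases hact.eq_or_eq_of_transv hao haP hTr ((hP _).2 ⟨⟨s, hsn⟩, hs, rfl⟩) with e | e
    · exact Or.inl (hmemE hs hsn e)
    · refine Or.inr (hmemE (mul_mem (inv_mem hp) hs) (mul_mem (inv_mem hpn) hsn) ?_)
      rw [show (⟨p⁻¹ * s, _⟩ : normalizer (E : Set G)) = ⟨p, hpn⟩⁻¹ * ⟨s, hsn⟩ from rfl, map_mul, map_inv,
        e, inv_mul_cancel]
  · obtain ⟨Q, g, hne, hcQ⟩ := hact.exists_other hao haP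
    obtain ⟨hx2, -, hx1⟩ := hact.transv_facts (invol_conj hao g) (hTr.conj g)
    have hcr := hact.cross hne hao haP (invol_conj hao g) hcQ hTr (hTr.conj g)
    have hmv : a • g • w' ≠ g • w' := fun e => by
      rw [hcr, mul_eq_left] at e
      exact (hact.transv_facts hao hTr).2.2 e
    refine ⟨(g • w' : E), (g • w' : E).2, congrArg Subtype.val hx2, fun e => hx1 (Subtype.ext e),
      fun e => hmv (Subtype.ext e), h.cent_of_inf (fun e he => h.comm e he _ (g • w' : E).2)
        fun s hs hsn hc => ?_⟩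
    rcases hact.eq_or_eq_of_transv hao haP hTr ((hP _).2 ⟨⟨s, hsn⟩, hs, rfl⟩) with e | e
    · exact hmemE hs hsn e
    · exfalso
      refine hmv (Subtype.ext ?_)
      rw [← e, coe_toAut_smul]
      exact mul_inv_eq_iff_eq_mul.2 hc.eq

end CfsgLib.AbelianInter
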