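import Cfsg.Agent.Lib.Invol.AbelianInter.Soft
import Cfsg.Agent.Lib.Invol.AbelianInter.TwoData
import Cfsg.Agent.Lib.Invol.Basic
import Cfsg.Agent.Lib.Coprime.PGroupFrattini
import Cfsg.Agent.Lib.Coprime.Solvable

/-!
# Three transvection automizers force a dihedral Sylow group

All centres of a `TwoSys` are soft, so they generate a dihedral normal subgroup `D` of `S`.
The normalizer of `S` then acts on `S` by inner automorphisms, so all fusion quotients lie in
`D ⁅S, S⁆` and `S = D`.
-/

set_option autoImplicit false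
set_option linter.unusedVariables false
set_option linter.unusedSectionVars false

namespace CfsgLib.AbelianInter

open Subgroup
open scoped commutatorElement

universe u

variable {G : Type u} [Group G]

theorem TwoData.mem_iff {S : Sylow 2 G} {E : Subgroup G} {w y : G} (d : TwoData S E w y) (x : G) :
    x ∈ E ↔ x ∈ (S : Subgroup G) ∧ Commute x y :=
  ⟨fun h => ⟨d.ess.le h, d.ess.comm x h y d.y_mem⟩, fun h => d.cy x h.1 h.2⟩

theorem TwoData.norm_iff_mem {S : Sylow 2 G} {E : Subgroup G} {w y : G} (d : TwoData S E w y)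
    (g : ↥(S : Subgroup G)) :
    Norm (⟨y, d.ess.le d.y_mem⟩ : ↥(S : Subgroup G)) g ↔ (g : G) ∈ normalizer (E : Set G) := by
  have hval : ∀ e : ↥(S : Subgroup G),
      Commute e (⟨y, d.ess.le d.y_mem⟩ : ↥(S : Subgroup G)) ↔ (e : G) ∈ E := fun e =>
    ⟨fun h => d.cy _ e.2 (congrArg Subtype.val h),
      fun h => Subtype.ext ((d.mem_iff _).1 h).2.eq⟩
  rw [mem_normalizer_iff]
  constructor
  · intro h e
    constructor
    · intro he
      exact (hval _).1 ((h ⟨e, d.ess.le he⟩).1 ((hval _).2 he))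
    · intro he
      have hes : e ∈ (S : Subgroup G) := by
        have := mul_mem (mul_mem (inv_mem g.2) (d.ess.le he)) g.2
        simpa [mul_assoc] using this
      exact (hval _).1 ((h ⟨e, hes⟩).2 ((hval _).2 he))
  · intro h e
    rw [hval, hval]
    exact h e

theorem TwoData.soft {S : Sylow 2 G} {E : Subgroup G} {w y : G} (d : TwoData S E w y) :
    Soft (⟨y, d.ess.le d.y_mem⟩ : ↥(S : Subgroup G)) ⟨w, d.ess.le d.w_mem⟩ where
  sq := Subtype.ext d.y_sq
  comm a b ha hb :=
    Subtype.ext (d.ess.comm a (d.cy _ a.2 (congrArg Subtype.val ha)) b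
      (d.cy _ b.2 (congrArg Subtype.val hb))).eq
  move := by
    obtain ⟨r, hr, hrn, he⟩ := d.move
    exact ⟨⟨r, hr⟩, (d.norm_iff_mem _).2 hrn, Subtype.ext he⟩
  ne h := d.w_ne (congrArg Subtype.val h)
  quad g hg e he := by
    rcases d.quad g g.2 ((d.norm_iff_mem _).1 hg) e (d.cy _ e.2 (congrArg Subtype.val he)) with
      h | h
    exacts [Or.inl (Subtype.ext h), Or.inr (Subtype.ext h)]
  no_sq e he h := d.no_sq e (d.cy _ e.2 (congrArg Subtype.val he)) (congrArg Subtype.val h)
  not_normal := by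
    obtain ⟨s, hs, hsn⟩ := d.not_normal
    exact ⟨⟨s, hs⟩, fun h => hsn ((d.norm_iff_mem _).1 h)⟩

theorem normalizer_self_mem {H : Subgroup G} {g : G} (h : g ∈ H) :
    g ∈ normalizer (H : Set G) := le_normalizer h

theorem normalizer_conj_mem {H : Subgroup G} {g x : G} (hg : g ∈ normalizer (H : Set G))
    (hx : x ∈ H) : g * x * g⁻¹ ∈ H := (mem_normalizer_iff.1 hg x).1 hx

theorem fixed_transport {E E' : Subgroup G} {m z : G} (h : ∀ x, x ∈ E' ↔ m * x * m⁻¹ ∈ E)
    (hF : Fixed E' z) : Fixed E (m * z * m⁻¹) := by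
  intro g hg hg2
  have e : g = m * (m⁻¹ * g * m) * m⁻¹ := by group
  rw [e, commute_conj_iff]
  refine hF _ (mem_normalizer_iff.2 fun x => ?_) (mem_centralizer_iff.2 fun x hx => ?_)
  · rw [h x, h (m⁻¹ * g * m * x * (m⁻¹ * g * m)⁻¹),
      show m * (m⁻¹ * g * m * x * (m⁻¹ * g * m)⁻¹) * m⁻¹ = g * (m * x * m⁻¹) * g⁻¹ by group]
    exact mem_normalizer_iff.1 hg _
  · have h1 := mem_centralizer_iff.1 hg2 _ ((h x).1 hx)
    calc x * (m⁻¹ * g * m * (m⁻¹ * g * m)) = m⁻¹ * (m * x * m⁻¹ * (g * g)) * m := by group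
      _ = m⁻¹ * (g * g * (m * x * m⁻¹)) * m := by rw [h1]
      _ = m⁻¹ * g * m * (m⁻¹ * g * m) * x := by group

theorem Fixed.mul {E : Subgroup G} {a b : G} (ha : Fixed E a) (hb : Fixed E b) : Fixed E (a * b) :=
  fun g hg hg2 => (ha g hg hg2).mul_right (hb g hg hg2)

/-- An element of odd order moves nothing by a fixed two-element. -/
theorem drift {n x d : G} {t k : ℕ} (ht : Odd t) (hn : n ^ t = 1) (h : n * x * n⁻¹ = x * d)
    (hd : Commute n d) (hk : d ^ 2 ^ k = 1) : d = 1 := by
  have hi : ∀ i : ℕ, n ^ i * x * (n ^ i)⁻¹ = x * d ^ i := by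
    intro i
    induction i with
    | zero => simp
    | succ i ih =>
      calc n ^ (i + 1) * x * (n ^ (i + 1))⁻¹
          = n ^ i * (n * x * n⁻¹) * (n ^ i)⁻¹ := by rw [pow_succ]; group
        _ = n ^ i * x * (n ^ i)⁻¹ * (n ^ i * d * (n ^ i)⁻¹) := by rw [h]; group
        _ = x * d ^ (i + 1) := by
          rw [ih, conj_of_commute (hd.pow_left i), pow_succ, mul_assoc]
  have h1 : d ^ t = 1 := by
    have := hi t
    rw [hn] at this
    simpa using this
  have h2 := Nat.dvd_gcd (orderOf_dvd_of_pow_eq_one h1) (orderOf_dvd_of_pow_eq_one hk)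
  rw [Nat.Coprime.gcd_eq_one ((Nat.coprime_two_right.2 ht).pow_right k)] at h2
  exact orderOf_eq_one_iff.1 (Nat.dvd_one.1 h2)

/-- An element of odd order normalizing a cyclic two-group centralizes it. -/
theorem fix_cyclic {n : G} {t : ℕ} (ht : Odd t) (hn : n ^ t = 1) :
    ∀ (k : ℕ) (c : G) (l : ℤ), c ^ 2 ^ k = 1 → n * c * n⁻¹ = c ^ l → Commute n c := by
  intro k
  induction k with
  | zero => intro c l hc _; rw [pow_zero, pow_one] at hc; rw [hc]; exact Commute.one_right n
  | succ k ih =>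
    intro c l hc he
    have he2 : n * (c * c) * n⁻¹ = (c * c) ^ l := by
      rw [(Commute.refl c).mul_zpow, ← he]; group
    have h2 := conj_of_commute
      (ih (c * c) l (by rwa [← pow_two, ← pow_mul, ← pow_succ']) he2)
    have hd : n * c * n⁻¹ = c * (c⁻¹ * c ^ l) := by rw [he, mul_inv_cancel_left]
    generalize hdd : c⁻¹ * c ^ l = d at hd
    have hc1 : Commute c⁻¹ (c ^ l) := ((Commute.refl c).zpow_right l).inv_left
    have hdsq : d * d = 1 := by
      have h3 : c ^ l * c ^ l = c * c := by rw [← (Commute.refl c).mul_zpow, ← he2, h2]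
      rw [← hdd, hc1.symm.mul_mul_mul_comm, h3]; group
    have hnd : n * d * n⁻¹ = d ^ l := by
      calc n * d * n⁻¹ = (n * c * n⁻¹)⁻¹ * (n * c * n⁻¹) ^ l := by
            rw [← hdd, conj_zpow]; group
        _ = (c⁻¹) ^ l * (c ^ l) ^ l := by rw [he, inv_zpow]
        _ = d ^ l := by rw [← hc1.mul_zpow, hdd]
    have hcd : Commute n d := by
      rcases (mem_zpowers_iff_of_sq hdsq).1 (zpow_mem_zpowers d l) with e | e
      · rw [e] at hnd
        have : d = 1 := by
          have h4 := congrArg (fun x => n⁻¹ * x * n) hnd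
          simpa [mul_assoc] using h4
        rw [this]; exact Commute.one_right n
      · exact commute_of_conj (hnd.trans e)
    have := drift (k := 1) ht hn hd hcd (by rw [pow_one, pow_two, hdsq])
    rw [this, mul_one] at hd
    exact commute_of_conj hd

/-- The setting extracted from the soft centres. -/
structure Dih (S : Sylow 2 G) (Ea Eb : Subgroup G) (a b w : G) : Prop where
  a_data : TwoData S Ea w a
  b_data : TwoData S Eb w b
  ncomm : ¬ Commute a b
  centres : ∀ E w' y, TwoData S E w' y → w' = w ∧ y ∈ closure ({a, b} : Set G)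
  w_central : ∀ s ∈ (S : Subgroup G), Commute s w
  w_mem : w ∈ closure ({a, b} : Set G)

theorem TwoSys.exists_dih [Finite G] {S : Sylow 2 G} (h : TwoSys S) :
    ∃ Ea Eb a b w, Dih S Ea Eb a b w := by
  have hP : IsPGroup 2 ↥(S : Subgroup G) := S.2
  obtain ⟨E₀, hE₀⟩ := h.ess
  obtain ⟨w₀, y₀, d₀⟩ := h.data E₀ hE₀
  have hw : ∀ E w y, TwoData S E w y → w = w₀ := fun E w y d =>
    congrArg Subtype.val (d₀.soft.eq_w hP d.soft)
  let T : Set ↥(S : Subgroup G) := {x | ∃ E w, TwoData S E w (x : G)}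
  obtain ⟨a, ha, b, hb, hab, hgen⟩ := exists_pair hP T ⟨⟨y₀, d₀.ess.le d₀.y_mem⟩, E₀, w₀, d₀⟩
    (by rintro ⟨x, hx⟩ ⟨E, w, d⟩; exact ⟨_, d.soft⟩)
    (by
      rintro x ⟨E, w, d⟩ g
      exact ⟨_, _, h.conj E w x g (le_normalizer g.2) d⟩)
    (by
      rintro ⟨y, hy⟩ ⟨E, w, d⟩ ⟨y', hy'⟩ ⟨E', w', d'⟩ ww hs heq
      have hEE : E = E' := by
        ext x
        rw [d.mem_iff, d'.mem_iff]
        refine and_congr_right fun hx => ?_
        exact ⟨fun hc => congrArg Subtype.val ((heq ⟨x, hx⟩).1 (Subtype.ext hc.eq)),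
          fun hc => congrArg Subtype.val ((heq ⟨x, hx⟩).2 (Subtype.ext hc.eq))⟩
      subst hEE
      have hww : (ww : G) = w := congrArg Subtype.val (d.soft.eq_w hP hs)
      rcases (h.uniq E w y w' y' d d').2 with e | e
      · exact Or.inl (Subtype.ext e)
      · exact Or.inr (Subtype.ext (by rw [Subgroup.coe_mul, hww]; exact e)))
  obtain ⟨Ea, wa, da⟩ := ha
  obtain ⟨Eb, wb, db⟩ := hb
  obtain rfl := hw Ea wa _ da
  obtain rfl := hw Eb wb _ db
  have hmap : ∀ x : ↥(S : Subgroup G), x ∈ closure ({a, b} : Set ↥(S : Subgroup G)) →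
      (x : G) ∈ closure ({(a : G), (b : G)} : Set G) := fun x hx => by
    have h1 := Subgroup.mem_map_of_mem (S : Subgroup G).subtype hx
    rwa [MonoidHom.map_closure, Set.image_pair] at h1
  refine ⟨Ea, Eb, a, b, _, da, db, fun hc => hab (Subtype.ext hc.eq), ?_, ?_, ?_⟩
  · intro E w' y d
    exact ⟨hw E w' y d, hmap ⟨y, d.ess.le d.y_mem⟩ (hgen _ ⟨E, w', d⟩)⟩
  · intro s hs
    exact congrArg Subtype.val (da.soft.central hP ⟨s, hs⟩)
  · exact hmap _ (da.soft.qpair.w_mem hP db.soft.sq hab)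

variable {S : Sylow 2 G} {Ea Eb : Subgroup G} {a b w : G}

theorem Dih.closure_le (h : Dih S Ea Eb a b w) : closure ({a, b} : Set G) ≤ (S : Subgroup G) := by
  rw [Subgroup.closure_le]
  rintro x (rfl | rfl)
  · exact h.a_data.ess.le h.a_data.y_mem
  · exact h.b_data.ess.le h.b_data.y_mem

theorem Dih.orderA (h : Dih S Ea Eb a b w) : orderOf a = 2 :=
  CfsgLib.Invol.invol_iff.2 ⟨h.a_data.y_sq, fun e => h.ncomm (e ▸ Commute.one_left b)⟩

theorem Dih.orderB (h : Dih S Ea Eb a b w) : orderOf b = 2 :=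
  CfsgLib.Invol.invol_iff.2 ⟨h.b_data.y_sq, fun e => h.ncomm (e ▸ Commute.one_right a)⟩

theorem Dih.pow_two_card [Finite G] (h : Dih S Ea Eb a b w) {x : G} (hx : x ∈ (S : Subgroup G)) :
    ∃ k : ℕ, x ^ 2 ^ k = 1 := by
  obtain ⟨k, hk⟩ := S.2 ⟨x, hx⟩
  exact ⟨k, congrArg Subtype.val hk⟩

/-- A centre is a reflection of `⟨a, b⟩`. -/
theorem Dih.refl_form (h : Dih S Ea Eb a b w) {E : Subgroup G} {w' y : G}
    (d : TwoData S E w' y) : ∃ k : ℤ, y = a * (a * b) ^ k := by
  obtain ⟨k, e | e⟩ := CfsgLib.Invol.mem_closure_pair h.orderA h.orderB (h.centres E w' y d).2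
  · exfalso
    have hconj := CfsgLib.Invol.conj_zpow_of_inverts
      (CfsgLib.Invol.invol_conj_mul h.orderA h.orderB) k
    rw [← e, zpow_neg, ← e, inv_of_sq d.y_sq] at hconj
    have hca : Commute a y := commute_of_conj hconj
    have hconj' := CfsgLib.Invol.conj_zpow_of_inverts
      (CfsgLib.Invol.invol_conj_mul' h.orderA h.orderB) k
    rw [← e, zpow_neg, ← e, inv_of_sq d.y_sq] at hconj'
    have hcb : Commute b y := commute_of_conj hconj'
    exact h.ncomm (d.ess.comm a (d.cy a (h.closure_le (subset_closure (by simp))) hca) b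
      (d.cy b (h.closure_le (subset_closure (by simp))) hcb))
  · exact ⟨k, e⟩

theorem mem_conjMap {E : Subgroup G} {n x : G} :
    x ∈ E.map (MulAut.conj n).toMonoidHom ↔ n⁻¹ * x * n ∈ E := by
  constructor
  · rintro ⟨e, he, rfl⟩
    simpa [mul_assoc] using he
  · exact fun hx => ⟨_, hx, by simp [mul_assoc]⟩

/-- An element fixed on both classes is fixed by every essential subgroup. -/
theorem Dih.fixed_all (h : Dih S Ea Eb a b w) {z : G} (hz : ∀ p ∈ (S : Subgroup G), Commute z p)
    (ha : Fixed Ea z) (hb : Fixed Eb z) {E : Subgroup G} {w' y : G} (d : TwoData S E w' y) :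
    Fixed E z := by
  obtain ⟨k, hk⟩ := h.refl_form d
  have hc : a * b ∈ (S : Subgroup G) :=
    h.closure_le (CfsgLib.Invol.mul_mem_closure_pair a b)
  have move : ∀ (E₀ : Subgroup G) (w₀ y₀ : G), TwoData S E₀ w₀ y₀ → Fixed E₀ z →
      ∀ s ∈ (S : Subgroup G), s * y₀ * s⁻¹ = y → Fixed E z := by
    intro E₀ w₀ y₀ d₀ hF s hs hsy
    have hm : ∀ x, x ∈ E₀ ↔ s * x * s⁻¹ ∈ E := by
      intro x
      rw [d₀.mem_iff, d.mem_iff, ← hsy, commute_conj_iff]
      refine and_congr_left' ?_
      exact mem_normalizer_iff.1 (le_normalizer hs) x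
    have h1 := fixed_transport hm hF
    rwa [conj_of_commute (hz s hs).symm] at h1
  have hia := CfsgLib.Invol.zpow_conj_invol h.orderA h.orderB
  rcases Int.even_or_odd' k with ⟨j, rfl | rfl⟩
  · refine move Ea w a h.a_data ha ((a * b) ^ (-j)) (zpow_mem hc _) ?_
    rw [hk, hia (-j)]
    congr 2
    ring
  · refine move Eb w b h.b_data hb ((a * b) ^ (-j)) (zpow_mem hc _) ?_
    have hb' : b = a * (a * b) := by
      rw [← mul_assoc, CfsgLib.Invol.invol_mul_self h.orderA, one_mul]
    calc (a * b) ^ (-j) * b * ((a * b) ^ (-j))⁻¹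
        = (a * b) ^ (-j) * a * ((a * b) ^ (-j))⁻¹ *
          ((a * b) ^ (-j) * (a * b) * ((a * b) ^ (-j))⁻¹) := by
            conv_rhs => rw [show ∀ p q r : G, p * q * p⁻¹ * (p * r * p⁻¹) = p * (q * r) * p⁻¹ from
              fun p q r => by group, ← hb']
      _ = a * (a * b) ^ (-(2 * -j)) * (a * b) := by
            rw [hia (-j), conj_of_commute ((Commute.refl (a * b)).zpow_left (-j))]
      _ = y := by
            rw [hk, mul_assoc, ← zpow_add_one]
            congr 2
            ring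

variable [Finite G]

/-- Odd elements of the normalizer centralize `⟨a, b⟩`. -/
theorem Dih.odd_fix (hsys : TwoSys S) (h : Dih S Ea Eb a b w) {n : G}
    (hn : n ∈ normalizer ((S : Subgroup G) : Set G)) {t : ℕ} (ht : Odd t) (hnt : n ^ t = 1) :
    Commute n a ∧ Commute n b := by
  have hcen : ∀ i, i = a ∨ i = b → ∃ k : ℤ, n * i * n⁻¹ = a * (a * b) ^ k := by
    rintro i (rfl | rfl)
    · exact h.refl_form (hsys.conj _ _ _ n hn h.a_data)
    · exact h.refl_form (hsys.conj _ _ _ n hn h.b_data)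
  obtain ⟨i, hi⟩ := hcen a (Or.inl rfl)
  obtain ⟨j, hj⟩ := hcen b (Or.inr rfl)
  have hinv := CfsgLib.Invol.invol_conj_mul h.orderA h.orderB
  have hab : n * (a * b) * n⁻¹ = (a * b) ^ (-i + j) := by
    rw [show n * (a * b) * n⁻¹ = (n * a * n⁻¹) * (n * b * n⁻¹) by group, hi, hj, mul_assoc a,
      ← mul_assoc _ a, CfsgLib.Invol.zpow_mul_invol h.orderA hinv, mul_assoc a, ← zpow_add,
      ← mul_assoc, CfsgLib.Invol.invol_mul_self h.orderA, one_mul]
  obtain ⟨k, hk⟩ := h.pow_two_card (h.closure_le (CfsgLib.Invol.mul_mem_closure_pair a b))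
  have hcc : Commute n (a * b) := fix_cyclic ht hnt k _ _ hk hab
  have hd : (a * b) ^ i = 1 := by
    refine drift ht hnt hi (hcc.zpow_right i) (k := k) ?_
    rw [← zpow_natCast, zpow_comm, zpow_natCast, hk, one_zpow]
  rw [hd, mul_one] at hi
  have hca : Commute n a := commute_of_conj hi
  refine ⟨hca, ?_⟩
  have := hca.mul_right hcc
  rwa [← mul_assoc, CfsgLib.Invol.invol_mul_self h.orderA, one_mul] at this

theorem TwoData.fixed_or {E : Subgroup G} {y z w : G} (d : TwoData S E w y)
    (hw : ∀ s ∈ (S : Subgroup G), Commute s w) (hz : ∀ p ∈ (S : Subgroup G), Commute z p)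
    (hzS : z ∈ (S : Subgroup G)) : Fixed E z ∨ Fixed E (z * w) := by
  have hzE : z ∈ E := d.cy z hzS (hz y (d.ess.le d.y_mem))
  obtain ⟨r, hr, hrn, hry⟩ := d.move
  have hr2 : r * r ∈ centralizer (E : Set G) := by
    have hE : r * r ∈ E := by
      refine d.cy _ (mul_mem hr hr) (commute_of_conj ?_)
      rw [show r * r * y * (r * r)⁻¹ = r * (r * y * r⁻¹) * r⁻¹ by group, hry,
        show r * (y * w) * r⁻¹ = r * y * r⁻¹ * (r * w * r⁻¹) by group, hry,
        conj_of_commute (hw r hr), mul_assoc, d.w_sq, mul_one]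
    exact mem_centralizer_iff.2 fun e he => d.ess.comm e he _ hE
  obtain ⟨e, he, hF, h1 | h1 | h1 | h1⟩ := d.decomp z hzE
  · exact Or.inl (h1 ▸ hF)
  · right
    rw [h1, mul_assoc, d.w_sq, mul_one]
    exact hF
  all_goals
    exfalso
    have hre : Commute r e := hF r hrn hr2
    have hrz : Commute r z := (hz r hr).symm
    have hx : Commute r (e⁻¹ * z) := hre.inv_right.mul_right hrz
    rw [h1, inv_mul_cancel_left] at hx
    have hry' : Commute r y := by
      first
        | exact hx
        | (have h2 := hx.mul_right (hw r hr)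
           rwa [mul_assoc, d.w_sq, mul_one] at h2)
    rw [conj_of_commute hry'] at hry
    exact d.w_ne (by simpa using hry)

/-- The two-automizer case. -/
theorem TwoSys.goal [IsSimpleGroup G] (hG : ¬ IsMulCommutative G) (hA : InterAb G) {S : Sylow 2 G}
    (h : TwoSys S) : Goal S := by
  classical
  obtain ⟨Ea, Eb, a, b, w, hd⟩ := h.exists_dih
  -- the strongly closed subgroup
  let A : Subgroup G :=
    { carrier := {z | z ∈ (S : Subgroup G) ∧ z * z = 1 ∧ (∀ p ∈ (S : Subgroup G), Commute z p) ∧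
        ∀ E, Ess S E → Fixed E z}
      one_mem' := ⟨one_mem _, one_mul 1, fun p _ => Commute.one_left p,
        fun E _ g _ _ => Commute.one_right g⟩
      mul_mem' := by
        rintro x z ⟨hx, hx2, hxc, hxF⟩ ⟨hz, hz2, hzc, hzF⟩
        refine ⟨mul_mem hx hz, ?_, fun p hp => (hxc p hp).mul_left (hzc p hp),
          fun E hE => (hxF E hE).mul (hzF E hE)⟩
        rw [(hzc x hx).mul_mul_mul_comm, hx2, hz2, one_mul]
      inv_mem' := by
        rintro x ⟨hx, hx2, hxc, hxF⟩
        rw [inv_of_sq hx2]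
        exact ⟨hx, hx2, hxc, hxF⟩ }
  by_cases hA1 : A = ⊥
  swap
  · refine goal_of_closed S hA1 (fun x hx z hz => hx.2.2.1 z hz.1)
      ⟨fun x hx => hx.1, fun x hx g hg => ?_⟩
    refine hA.fusion S (fun x z => x ∈ A → z ∈ A) (fun _ _ => id)
      (fun _ _ _ h1 h2 hx => h2 (h1 hx)) ?_ ?_ hx.1 hg hx
    · rintro x - n hn ⟨hx, hx2, hxc, hxF⟩
      refine ⟨normalizer_conj_mem hn hx, ?_, fun p hp => ?_, fun E hE => ?_⟩
      · rw [show n * x * n⁻¹ * (n * x * n⁻¹) = n * (x * x) * n⁻¹ by group, hx2, mul_one,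
          mul_inv_cancel]
      · have h1 := hxc _ (normalizer_conj_mem (inv_mem hn) hp)
        rw [← commute_conj_iff n] at h1
        rwa [inv_inv, show n * (n⁻¹ * p * n) * n⁻¹ = p by group] at h1
      · obtain ⟨w', y, d⟩ := h.data E hE
        refine fixed_transport (fun z => ?_) (hxF _ (h.conj E w' y n⁻¹ (inv_mem hn) d).ess)
        rw [mem_conjMap, inv_inv]
    · intro E hE x hxE g hg hxA
      obtain ⟨w', y, d⟩ := h.data E hE
      obtain ⟨n, hn, -, e⟩ := d.fix_conj g hg x hxE (hxA.2.2.2 E hE)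
      rw [e]
      obtain ⟨hx, hx2, hxc, hxF⟩ := hxA
      refine ⟨normalizer_conj_mem hn hx, ?_, fun p hp => ?_, fun F hF => ?_⟩
      · rw [show n * x * n⁻¹ * (n * x * n⁻¹) = n * (x * x) * n⁻¹ by group, hx2, mul_one,
          mul_inv_cancel]
      · have h1 := hxc _ (normalizer_conj_mem (inv_mem hn) hp)
        rw [← commute_conj_iff n] at h1
        rwa [inv_inv, show n * (n⁻¹ * p * n) * n⁻¹ = p by group] at h1
      · obtain ⟨w'', y', d'⟩ := h.data F hF
        refine fixed_transport (fun z => ?_) (hxF _ (h.conj F w'' y' n⁻¹ (inv_mem hn) d').ess)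
        rw [mem_conjMap, inv_inv]
  -- odd elements of the normalizer centralize `S`
  have hodd : ∀ n ∈ normalizer ((S : Subgroup G) : Set G), ∀ t : ℕ, Odd t → n ^ t = 1 →
      ∀ s ∈ (S : Subgroup G), Commute n s := by
    intro n hn t ht hnt
    obtain ⟨hna, hnb⟩ := hd.odd_fix h hn ht hnt
    have hnD : ∀ x ∈ closure ({a, b} : Set G), Commute n x := by
      intro x hx
      induction hx using Subgroup.closure_induction with
      | mem z hz => rcases hz with rfl | rfl <;> assumption
      | one => exact Commute.one_right n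
      | mul _ _ _ _ h1 h2 => exact h1.mul_right h2
      | inv _ _ h1 => exact h1.inv_right
    have hnw : Commute n w := hnD w hd.w_mem
    -- the central involutions
    have hcen : ∀ z ∈ (S : Subgroup G), z * z = 1 → (∀ p ∈ (S : Subgroup G), Commute z p) →
        Commute n z := by
      intro z hz hz2 hzc
      have hz'c : ∀ p ∈ (S : Subgroup G), Commute (n * z * n⁻¹) p := fun p hp => by
        have h1 := hzc _ (normalizer_conj_mem (inv_mem hn) hp)
        rw [← commute_conj_iff n] at h1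
        rwa [inv_inv, show n * (n⁻¹ * p * n) * n⁻¹ = p by group] at h1
      have side : ∀ (E : Subgroup G) (y : G), TwoData S E w y → Commute n y →
          Fixed E (z * (n * z * n⁻¹)) := by
        intro E y d hny
        have hm : ∀ x, x ∈ E ↔ n * x * n⁻¹ ∈ E := by
          intro x
          rw [d.mem_iff, d.mem_iff]
          refine and_congr (mem_normalizer_iff.1 hn x) ?_
          conv_rhs => rw [← conj_of_commute hny]
          exact (commute_conj_iff n x y).symm
        rcases d.fixed_or hd.w_central hzc hz with h1 | h1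
        · exact h1.mul (fixed_transport hm h1)
        · have h2 := fixed_transport hm h1
          rw [show n * (z * w) * n⁻¹ = n * z * n⁻¹ * (n * w * n⁻¹) by group,
            conj_of_commute hnw] at h2
          have h3 := h1.mul h2
          rwa [((hd.w_central _ (normalizer_conj_mem hn hz)).symm).mul_mul_mul_comm, d.w_sq,
            mul_one] at h3
      have hmem : z * (n * z * n⁻¹) ∈ A := by
        have hc : ∀ p ∈ (S : Subgroup G), Commute (z * (n * z * n⁻¹)) p := fun p hp =>
          (hzc p hp).mul_left (hz'c p hp)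
        refine ⟨mul_mem hz (normalizer_conj_mem hn hz), ?_, hc, fun E hE => ?_⟩
        · rw [(hz'c z hz).mul_mul_mul_comm, hz2, one_mul,
            show n * z * n⁻¹ * (n * z * n⁻¹) = n * (z * z) * n⁻¹ by group, hz2, mul_one,
            mul_inv_cancel]
        · obtain ⟨w', y, d⟩ := h.data E hE
          exact hd.fixed_all hc (side Ea a hd.a_data hna) (side Eb b hd.b_data hnb) d
      rw [hA1, mem_bot] at hmem
      refine commute_of_conj ?_
      rw [eq_inv_of_mul_eq_one_right hmem, inv_of_sq hz2]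
    -- `B`, the centralizer of the dihedral group in `S`
    have hB : ∀ x ∈ (S : Subgroup G), Commute x a → Commute x b → Commute n x := by
      have key : ∀ x ∈ (S : Subgroup G), Commute x a → Commute x b →
          ∀ s ∈ (S : Subgroup G), n * s * n⁻¹ * x * (n * s * n⁻¹)⁻¹ = s * x * s⁻¹ := by
        intro x hx hxa hxb s hs
        have hns := normalizer_conj_mem hn hs
        have hc : ∀ i, Commute n i → i ∈ closure ({a, b} : Set G) →
            (∃ E w', TwoData S E w' i) → Commute (s⁻¹ * (n * s * n⁻¹)) i := by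
          rintro i hni hi ⟨E, w', d⟩
          have h1 : Commute n (s * i * s⁻¹) :=
            hnD _ (hd.centres _ _ _ (h.conj E w' i s (le_normalizer hs) d)).2
          apply commute_of_conj
          calc s⁻¹ * (n * s * n⁻¹) * i * (s⁻¹ * (n * s * n⁻¹))⁻¹
              = s⁻¹ * (n * (s * (n⁻¹ * i * n) * s⁻¹) * n⁻¹) * s := by group
            _ = s⁻¹ * (n * (s * i * s⁻¹) * n⁻¹) * s := by
              rw [show n⁻¹ * i * n = i by rw [mul_assoc, ← hni.eq, inv_mul_cancel_left]]
            _ = i := by rw [conj_of_commute h1]; group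
        have hca := hc a hna (subset_closure (by simp)) ⟨_, _, hd.a_data⟩
        have hcE := hd.a_data.cy _ (mul_mem (inv_mem hs) hns) hca
        have h2 := hd.a_data.ess.comm _ hcE x (hd.a_data.cy x hx hxa)
        calc n * s * n⁻¹ * x * (n * s * n⁻¹)⁻¹
            = s * (s⁻¹ * (n * s * n⁻¹) * x * (s⁻¹ * (n * s * n⁻¹))⁻¹) * s⁻¹ := by group
          _ = s * x * s⁻¹ := by rw [conj_of_commute h2]
      intro x hx hxa hxb
      -- the image of `x ↦ [n, x]` is normal in `S`
      let K : Subgroup ↥(S : Subgroup G) :=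
        { carrier := {p | ∃ x ∈ (S : Subgroup G), Commute x a ∧ Commute x b ∧
            (p : G) = x⁻¹ * (n * x * n⁻¹)}
          one_mem' := ⟨1, one_mem _, Commute.one_left a, Commute.one_left b, by simp⟩
          mul_mem' := by
            rintro p q ⟨x, hx, hxa, hxb, hp⟩ ⟨z, hz, hza, hzb, hq⟩
            refine ⟨x * z, mul_mem hx hz, hxa.mul_left hza, hxb.mul_left hzb, ?_⟩
            have hxE := hd.a_data.cy x hx hxa
            have hzE := hd.a_data.cy z hz hza
            have hnx : n * x * n⁻¹ ∈ Ea := by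
              refine hd.a_data.cy _ (normalizer_conj_mem hn hx) ?_
              rw [← conj_of_commute hna, commute_conj_iff]
              exact hxa
            have hcm : Commute (x⁻¹ * (n * x * n⁻¹)) z⁻¹ :=
              hd.a_data.ess.comm _ (mul_mem (inv_mem hxE) hnx) _ (inv_mem hzE)
            rw [Subgroup.coe_mul, hp, hq]
            calc x⁻¹ * (n * x * n⁻¹) * (z⁻¹ * (n * z * n⁻¹))
                = (x⁻¹ * (n * x * n⁻¹) * z⁻¹) * (n * z * n⁻¹) := by group
              _ = z⁻¹ * x⁻¹ * (n * x * n⁻¹) * (n * z * n⁻¹) := by rw [hcm.eq]; group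
              _ = (x * z)⁻¹ * (n * (x * z) * n⁻¹) := by group
          inv_mem' := by
            rintro p ⟨x, hx, hxa, hxb, hp⟩
            refine ⟨x⁻¹, inv_mem hx, hxa.inv_left, hxb.inv_left, ?_⟩
            have hxE := hd.a_data.cy x hx hxa
            have hnx : n * x * n⁻¹ ∈ Ea := by
              refine hd.a_data.cy _ (normalizer_conj_mem hn hx) ?_
              rw [← conj_of_commute hna, commute_conj_iff]
              exact hxa
            have hcm : Commute x (n * x * n⁻¹)⁻¹ :=
              hd.a_data.ess.comm _ hxE _ (inv_mem hnx)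
            rw [Subgroup.coe_inv, hp, mul_inv_rev, inv_inv, ← hcm.eq]
            group }
      haveI : K.Normal := ⟨by
        rintro p ⟨x, hx, hxa, hxb, hp⟩ s
        have hs := s.2
        have hmem : ∀ i, (∃ E w', TwoData S E w' i) → ∀ x, Commute x a → Commute x b →
            Commute ((s : G) * x * (s : G)⁻¹) i := by
          rintro i ⟨E, w', d⟩ x hxa hxb
          have h1 := (hd.centres _ _ _ (h.conj E w' i (s : G)⁻¹
            (inv_mem (le_normalizer hs)) d)).2
          have h2 : Commute x ((s : G)⁻¹ * i * (s : G)⁻¹⁻¹) := by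
            generalize (s : G)⁻¹ * i * (s : G)⁻¹⁻¹ = j at h1 ⊢
            induction h1 using Subgroup.closure_induction with
            | mem z hz => rcases hz with rfl | rfl <;> assumption
            | one => exact Commute.one_right x
            | mul _ _ _ _ h1 h2 => exact h1.mul_right h2
            | inv _ _ h1 => exact h1.inv_right
          rw [← commute_conj_iff (s : G)] at h2
          rwa [inv_inv, show (s : G) * ((s : G)⁻¹ * i * s) * (s : G)⁻¹ = i by group] at h2
        refine ⟨s * x * (s : G)⁻¹, mul_mem (mul_mem hs hx) (inv_mem hs),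
          hmem a ⟨_, _, hd.a_data⟩ x hxa hxb, hmem b ⟨_, _, hd.b_data⟩ x hxa hxb, ?_⟩
        have hk := key _ (normalizer_conj_mem hn hx)
          (by rw [← conj_of_commute hna, commute_conj_iff]; exact hxa)
          (by rw [← conj_of_commute hnb, commute_conj_iff]; exact hxb) s hs
        rw [show n * (s * x * (s : G)⁻¹) * n⁻¹ = n * s * n⁻¹ * (n * x * n⁻¹) * (n * s * n⁻¹)⁻¹ by
          group, hk]
        simp only [Subgroup.coe_mul, Subgroup.coe_inv, hp]
        group⟩
      have hK : K = ⊥ := by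
        by_contra hK
        obtain ⟨z, hzc, hzK, hz1, hz2⟩ : ∃ z : ↥(S : Subgroup G),
            z ∈ Subgroup.center ↥(S : Subgroup G) ∧ z ∈ K ∧ z ≠ 1 ∧ z * z = 1 := by
          haveI : Fact (Nat.Prime 2) := ⟨Nat.prime_two⟩
          haveI : Nontrivial ↥K := (Subgroup.nontrivial_iff_ne_bot K).2 hK
          have hp : IsPGroup 2 ↥(S : Subgroup G) := S.2
          haveI := hp.isNilpotent
          have hne : K ⊓ Subgroup.center ↥(S : Subgroup G) ≠ ⊥ := CfsgLib.Coprime.nilpotent_inf_center_ne_bot K hK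
          have h2 : 2 ∣ Nat.card ↥(K ⊓ Subgroup.center ↥(S : Subgroup G)) := by
            haveI := (Subgroup.nontrivial_iff_ne_bot _).2 hne
            obtain ⟨k, hk, hk'⟩ :=
              (hp.to_subgroup (K ⊓ Subgroup.center ↥(S : Subgroup G))).nontrivial_iff_card.1 inferInstance
            exact hk' ▸ dvd_pow_self 2 hk.ne'
          obtain ⟨z, hz⟩ := exists_prime_orderOf_dvd_card' 2 h2
          have h3 := (CfsgLib.Invol.invol_iff).1 hz
          exact ⟨z, z.2.2, z.2.1, fun e => h3.2 (Subtype.ext e), congrArg Subtype.val h3.1⟩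
        obtain ⟨v, hv, hva, hvb, hvz⟩ := hzK
        have hnz : Commute n (z : G) := hcen z z.2 (congrArg Subtype.val hz2)
          fun p hp => congrArg Subtype.val (Subgroup.mem_center_iff.1 hzc ⟨p, hp⟩).symm
        refine hz1 (Subtype.ext (drift ht hnt (x := v) (by rw [hvz]; group) hnz (k := 1) ?_))
        rw [pow_one, pow_two]
        exact congrArg Subtype.val hz2
      have hxE : x⁻¹ * (n * x * n⁻¹) ∈ (S : Subgroup G) :=
        mul_mem (inv_mem hx) (normalizer_conj_mem hn hx)
      have h1 : (⟨_, hxE⟩ : ↥(S : Subgroup G)) ∈ K := ⟨x, hx, hxa, hxb, rfl⟩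
      rw [hK, mem_bot] at h1
      exact commute_of_conj (inv_mul_eq_one.1 (congrArg Subtype.val h1)).symm
    intro s hs
    have hns := normalizer_conj_mem hn hs
    have hc : ∀ i, Commute n i → (∃ E w', TwoData S E w' i) →
        Commute (s⁻¹ * (n * s * n⁻¹)) i := by
      rintro i hni ⟨E, w', d⟩
      have h1 : Commute n (s * i * s⁻¹) :=
        hnD _ (hd.centres _ _ _ (h.conj E w' i s (le_normalizer hs) d)).2
      apply commute_of_conj
      calc s⁻¹ * (n * s * n⁻¹) * i * (s⁻¹ * (n * s * n⁻¹))⁻¹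
          = s⁻¹ * (n * (s * (n⁻¹ * i * n) * s⁻¹) * n⁻¹) * s := by group
        _ = s⁻¹ * (n * (s * i * s⁻¹) * n⁻¹) * s := by
          rw [show n⁻¹ * i * n = i by rw [mul_assoc, ← hni.eq, inv_mul_cancel_left]]
        _ = i := by rw [conj_of_commute h1]; group
    have hnc := hB _ (mul_mem (inv_mem hs) hns) (hc a hna ⟨_, _, hd.a_data⟩)
      (hc b hnb ⟨_, _, hd.b_data⟩)
    obtain ⟨k, hk⟩ := hd.pow_two_card (mul_mem (inv_mem hs) hns)
    have h2 := drift ht hnt (x := s) (mul_inv_cancel_left _ _).symm hnc hk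
    exact commute_of_conj (inv_mul_eq_one.1 h2).symm
  -- every element of the normalizer acts as an inner automorphism
  have hinner : ∀ n ∈ normalizer ((S : Subgroup G) : Set G),
      ∃ s ∈ (S : Subgroup G), ∀ x ∈ (S : Subgroup G), n * x * n⁻¹ = s * x * s⁻¹ := by
    intro n hn
    obtain ⟨k, t, ht, hkt⟩ :=
      Nat.exists_eq_two_pow_mul_odd (orderOf_pos n).ne'
    have hu : n ^ t ∈ (S : Subgroup G) := by
      have hp : IsPGroup 2 ↥(Subgroup.zpowers (n ^ t)) := by
        haveI : Fact (Nat.Prime 2) := ⟨Nat.prime_two⟩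
        refine IsPGroup.iff_card.2 ⟨k, ?_⟩
        rw [Nat.card_zpowers, orderOf_pow' n ht.pos.ne', hkt, Nat.gcd_mul_left_left,
          Nat.mul_div_assoc _ dvd_rfl, Nat.div_self ht.pos, mul_one]
      exact ((hp.inf_normalizer_sylow S).le ⟨Subgroup.mem_zpowers _, pow_mem hn t⟩).2
    have hv : ∀ x ∈ (S : Subgroup G), Commute (n ^ 2 ^ k) x :=
      hodd _ (pow_mem hn _) t ht (by rw [← pow_mul, ← hkt, pow_orderOf_eq_one])
    have hbez := Nat.gcd_eq_gcd_ab t (2 ^ k)
    rw [Nat.Coprime.gcd_eq_one ((Nat.coprime_two_right.2 ht).pow_right k)] at hbez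
    have hn1 : n = (n ^ t) ^ Nat.gcdA t (2 ^ k) * (n ^ 2 ^ k) ^ Nat.gcdB t (2 ^ k) := by
      rw [← zpow_natCast, ← zpow_natCast, ← zpow_mul, ← zpow_mul, ← zpow_add, ← hbez,
        Nat.cast_one, zpow_one]
    refine ⟨_, zpow_mem hu (Nat.gcdA t (2 ^ k)), fun x hx => ?_⟩
    conv_lhs => rw [hn1]
    rw [show ∀ p q : G, p * q * x * (p * q)⁻¹ = p * (q * x * q⁻¹) * p⁻¹ from
      fun p q => by group, conj_of_commute ((hv x hx).zpow_left _)]
  -- focal argument
  set D := closure ({a, b} : Set G) with hD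
  set M := D ⊔ ⁅(S : Subgroup G), (S : Subgroup G)⁆ with hM
  have hcom : ∀ x ∈ (S : Subgroup G), ∀ n ∈ normalizer ((S : Subgroup G) : Set G),
      x⁻¹ * (n * x * n⁻¹) ∈ M := by
    intro x hx n hn
    obtain ⟨s, hs, e⟩ := hinner n hn
    rw [e x hx]
    have h1 := Subgroup.commutator_mem_commutator (inv_mem hx) hs
    rw [commutatorElement_def, inv_inv] at h1
    refine Subgroup.mem_sup_right ?_
    rwa [show x⁻¹ * (s * x * s⁻¹) = x⁻¹ * s * x * s⁻¹ by group]
  by_cases hlt : (S : Subgroup G) ≤ M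
  swap
  · refine (false_of_focal hG S hlt fun x hx g hg => ?_).elim
    refine hA.fusion S (fun x z => x⁻¹ * z ∈ M) (fun x _ => by simp)
      (fun x y z h1 h2 => by simpa [mul_assoc] using mul_mem h1 h2)
      (fun x hx n hn => hcom x hx n hn) ?_ hx hg
    intro E hE e he g hg
    obtain ⟨w', y, d⟩ := h.data E hE
    obtain ⟨hww, hyD⟩ := hd.centres E w' y d
    subst hww
    have hthree : ∀ x, x = w' ∨ x = y ∨ x = y * w' → x ∈ M := by
      rintro x (rfl | rfl | rfl)
      exacts [mem_sup_left hd.w_mem, mem_sup_left hyD,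
        mul_mem (mem_sup_left hyD) (mem_sup_left hd.w_mem)]
    obtain ⟨f, hf, hF, hcases⟩ := d.decomp e he
    obtain ⟨n, hn, -, hconj⟩ := d.fix_conj g hg f hf hF
    have hfM : f⁻¹ * (g * f * g⁻¹) ∈ M := hconj ▸ hcom f (d.ess.le hf) n hn
    have fin : ∀ x, x = w' ∨ x = y ∨ x = y * w' → e = f * x → e⁻¹ * (g * e * g⁻¹) ∈ M := by
      intro x hx ex
      rw [ex, show (f * x)⁻¹ * (g * (f * x) * g⁻¹) = x⁻¹ * (f⁻¹ * (g * f * g⁻¹)) *
        (g * x * g⁻¹) by group]
      exact mul_mem (mul_mem (inv_mem (hthree x hx)) hfM) (hthree _ (d.perm g hg x hx))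
    rcases hcases with e' | e' | e' | e'
    · rw [e']; exact hfM
    · exact fin w' (Or.inl rfl) e'
    · exact fin y (Or.inr (Or.inl rfl)) e'
    · exact fin _ (Or.inr (Or.inr (by rw [(d.ess.comm y d.y_mem w' d.w_mem).eq]))) (by
        rw [e', (d.ess.comm y d.y_mem w' d.w_mem).eq])
  left
  have hDS : (S : Subgroup G) = D := by
    refine le_antisymm ?_ hd.closure_le
    have h1 : D.subgroupOf (S : Subgroup G) ⊔ frattini ↥(S : Subgroup G) = ⊤ := by
      refine top_le_iff.1 ((?_ : ⊤ ≤ D.subgroupOf (S : Subgroup G) ⊔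
        commutator ↥(S : Subgroup G)).trans (sup_le_sup_left
          (CfsgLib.Coprime.commutator_le_frattini S.2) _))
      rw [← map_le_map_iff_of_injective (subtype_injective (S : Subgroup G)), ← MonoidHom.range_eq_map,
        range_subtype, Subgroup.map_sup, map_subgroupOf_eq_of_le hd.closure_le, _root_.commutator_def,
        map_commutator, ← MonoidHom.range_eq_map, range_subtype]
      exact hlt
    exact subgroupOf_eq_top.1 (frattini_nongenerating h1)
  refine ⟨orderOf (a * b), ?_, ⟨(MulEquiv.subgroupCongr hDS).trans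
    (CfsgLib.Invol.dihedralEquiv hd.orderA hd.orderB)⟩⟩
  have h1 : a * b ≠ 1 := fun e => hd.ncomm
    ((eq_inv_of_mul_eq_one_left e).trans (inv_of_sq hd.b_data.y_sq) ▸ Commute.refl b)
  have h2 := orderOf_pos (a * b)
  have h3 : orderOf (a * b) ≠ 1 := fun e => h1 (orderOf_eq_one_iff.1 e)
  omega

end CfsgLib.AbelianInter
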