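import Cfsg.Agent.Lib.Invol.AbelianInter.Mixed
import Cfsg.Agent.Lib.Invol.AbelianInter.Two

/-!
# Simple groups whose Sylow two-subgroups meet in abelian groups
-/

set_option autoImplicit false
set_option linter.unusedSectionVars false

namespace CfsgLib.AbelianInter

open Subgroup
open scoped commutatorElement

universe u

variable {G : Type u} [Group G] [Finite G] [IsSimpleGroup G]

/-- A simple nonabelian group has a nontrivial Sylow 2-subgroup, or there is nothing to prove. -/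
theorem goal_of_bot {S : Sylow 2 G} (h : (S : Subgroup G) = ⊥) : Goal S := by
  right
  rw [commutator_def, commutator_le]
  intro x _ y _
  have hx : x = 1 := Subtype.ext (mem_bot.1 (h.le x.2))
  rw [hx, commutatorElement_one_left]
  exact one_mem _

theorem goal_of_no_ess (hA : InterAb G) (S : Sylow 2 G) (h : ∀ E, ¬ Ess S E) : Goal S := by
  by_cases hS : (S : Subgroup G) = ⊥
  · exact goal_of_bot hS
  haveI : Nontrivial (S : Subgroup G) := (nontrivial_iff_ne_bot _).2 hS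
  haveI := S.2.center_nontrivial
  set A := (center (S : Subgroup G)).map (S : Subgroup G).subtype with hAd
  refine goal_of_closed S (A := A) ?_ ?_ ⟨map_subtype_le _, fun a ha g hga => ?_⟩
  · intro e
    exact (nontrivial_iff_ne_bot _).1 inferInstance
      ((map_eq_bot_iff_of_injective _ (subtype_injective _)).1 e)
  · rintro _ ⟨a, ha, rfl⟩ _ ⟨b, hb, rfl⟩
    exact ((mem_center_iff.1 hb a) : a * b = b * a) |> congrArg (S : Subgroup G).subtype
  refine hA.fusion S (fun b c => b ∈ A → c ∈ A) (fun _ _ hb => hb) (fun _ _ _ h₁ h₂ hb => h₂ (h₁ hb))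
    (fun b _ n hn hb => ?_) (fun E hE => absurd hE (h E)) (map_subtype_le _ ha) hga ha
  obtain ⟨z, hz, rfl⟩ := hb
  refine ⟨⟨n * z * n⁻¹, (mem_normalizer_iff.1 hn z).1 z.2⟩, mem_center_iff.2 fun t => Subtype.ext ?_, rfl⟩
  have h1 := congrArg Subtype.val (mem_center_iff.1 hz ⟨n⁻¹ * t * n, (mem_normalizer_iff''.1 hn t).1 t.2⟩)
  simp only [coe_mul] at h1 ⊢
  calc (t : G) * (n * z * n⁻¹) = n * (n⁻¹ * t * n * z) * n⁻¹ := by group
    _ = n * (z * (n⁻¹ * t * n)) * n⁻¹ := by rw [h1]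
    _ = _ := by group

theorem goal_of_unique (hA : InterAb G) {S : Sylow 2 G} {E : Subgroup G} (hE : Ess S E)
    (huniq : ∀ F, Ess S F → F = E) : Goal S := by
  by_cases hS : (S : Subgroup G) = ⊥
  · exact goal_of_bot hS
  refine goal_of_closed S (A := E) (fun e => ?_) hE.comm ⟨hE.le, fun a ha g hga => ?_⟩
  · obtain ⟨s, hs, hs1⟩ := ((S : Subgroup G).bot_or_exists_ne_one).resolve_left hS
    exact hs1 (mem_bot.1 (e ▸ hE.cent s hs fun x hx => by
      rw [e, mem_bot] at hx; rw [hx]; exact Commute.one_right s))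
  refine hA.fusion S (fun b c => b ∈ E → c ∈ E) (fun _ _ hb => hb) (fun _ _ _ h₁ h₂ hb => h₂ (h₁ hb))
    (fun b _ n hn hb => ?_) (fun F hF b _ g hg hb => ?_) (hE.le ha) hga ha
  · exact (huniq _ (hE.conj hn)) ▸ conj_mem_map_conj hb
  · rw [huniq F hF] at hg
    exact (mem_normalizer_iff.1 hg b).1 hb

/-- Two normal essential subgroups: `S` has class at most two. -/
theorem goal_of_two (hA : InterAb G) {S : Sylow 2 G} {E F : Subgroup G} (hE : Ess S E) (hF : Ess S F)
    (hne : F ≠ E) (hn : ∀ K, Ess S K → (S : Subgroup G) ≤ normalizer (K : Set G)) : Goal S := by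
  wlog hle : (E ⊓ F).relIndex E ≤ (E ⊓ F).relIndex F generalizing E F
  · exact this hF hE hne.symm (by rw [inf_comm]; exact (not_le.1 hle).le)
  have hnle : ¬ F ≤ E := fun hle' => by
    have h2 : E ≤ F := fun e he => hF.cent e (hE.le he) fun f hf => hE.comm e he f (hle' hf)
    exact hne (le_antisymm hle' h2)
  obtain ⟨D, hD⟩ := gpair hA hE hF (hF.le.trans (hn E hE)) (inf_le_left.trans (hn F hF)) hnle hle
  have hcent : ∀ z ∈ E ⊓ F, ∀ s ∈ (S : Subgroup G), Commute z s := by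
    intro z hz s hs
    obtain ⟨f, hf, e, he, rfl⟩ := hD.top s hs (hn E hE hs)
    exact (hF.comm z hz.2 f hf).mul_right (hE.comm z hz.1 e he)
  right
  rw [commutator_def, commutator_le]
  intro x _ t _
  rw [mem_center_iff]
  intro s
  refine Subtype.ext ((hcent _ ?_ s s.2).eq).symm
  simp only [commutatorElement_def, coe_mul, coe_inv]
  obtain ⟨f, hf, e, he, hxe⟩ := hD.top x x.2 (hn E hE x.2)
  obtain ⟨f', hf', e', he', hte⟩ := hD.top t t.2 (hn E hE t.2)
  have hEF : ∀ b ∈ E, ∀ s ∈ (S : Subgroup G), s * b * s⁻¹ * b⁻¹ ∈ E ⊓ F := fun b hb s hs =>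
    mem_inf.2 ⟨mul_mem ((mem_normalizer_iff.1 (hn E hE hs) b).1 hb) (inv_mem hb),
      hD.quad b hb s hs (hn E hE hs)⟩
  have h1 := hEF e' he' f (hF.le hf)
  have h2 := inv_mem (hEF e he f' (hF.le hf'))
  rw [hxe, hte]
  have key : f * e * (f' * e') * (f * e)⁻¹ * (f' * e')⁻¹
      = f * (f' * e * f'⁻¹ * e⁻¹)⁻¹ * f⁻¹ * (f' * (f * e' * f⁻¹ * e'⁻¹) * f'⁻¹) := by
    have c1 : f' * f = f * f' := hF.comm f' hf' f hf
    have c2 : e * e' = e' * e := hE.comm e he e' he'
    calc f * e * (f' * e') * (f * e)⁻¹ * (f' * e')⁻¹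
        = f * e * f' * (e' * e⁻¹) * f⁻¹ * e'⁻¹ * f'⁻¹ := by group
      _ = f * e * f' * (e⁻¹ * e') * f⁻¹ * e'⁻¹ * f'⁻¹ := by
        rw [show e' * e⁻¹ = e⁻¹ * e' from ((show Commute e e' from c2).inv_left).eq.symm]
      _ = f * e * f' * e⁻¹ * f'⁻¹ * f⁻¹ * (f * f') * e' * f⁻¹ * e'⁻¹ * f'⁻¹ := by group
      _ = f * e * f' * e⁻¹ * f'⁻¹ * f⁻¹ * (f' * f) * e' * f⁻¹ * e'⁻¹ * f'⁻¹ := by rw [c1]
      _ = _ := by group
  rw [key, ← (hcent _ h2 f (hF.le hf)).eq, mul_inv_cancel_right, ← (hcent _ h1 f' (hF.le hf')).eq,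
    mul_inv_cancel_right]
  exact mul_mem h2 h1

/-- The theorem. -/
theorem goal (hG : ¬ IsMulCommutative G) (hA : InterAb G) (S : Sylow 2 G) : Goal S := by
  by_cases hall : ∀ E, Ess S E → (S : Subgroup G) ≤ normalizer (E : Set G)
  · by_cases hex : ∃ E, Ess S E
    · obtain ⟨E, hE⟩ := hex
      by_cases huniq : ∀ F, Ess S F → F = E
      · exact goal_of_unique hA hE huniq
      · push Not at huniq
        obtain ⟨F, hF, hne⟩ := huniq
        exact goal_of_two hA hE hF hne hall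
    · exact goal_of_no_ess hA S fun E hE => hex ⟨E, hE⟩
  push Not at hall
  obtain ⟨E, hE, hnn⟩ := hall
  obtain ⟨w, y, h⟩ := exists_twoData_of_not_normal hG hA hE (SetLike.not_le_iff_exists.1 hnn)
  have hsys : TwoSys S := by
    refine ⟨⟨E, hE⟩, fun F hF => exists_twoData_of_not_normal hG hA hF ?_,
      fun _ _ _ _ _ d d' => d.uniq d', fun _ _ _ n hn d => d.conj hn⟩
    by_contra hno
    push Not at hno
    exact h.false_of_normal hA hF hno
  exact hsys.goal hG hA

end CfsgLib.AbelianInter
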