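import Cfsg.Agent.Lib.Invol.AbelianInter.TI

/-!
# Transvections in a group with trivially meeting Sylow two-subgroups

If an involution moves the elements of order two only by one element, its Sylow group has order two and
there are just three involutions.
-/

set_option autoImplicit false
set_option linter.unusedSectionVars false

namespace CfsgLib.AbelianInter

open Subgroup CfsgLib.Invol

universe u

variable {E : Type u} [CommGroup E] {X : Type u} [Group X] [Finite X] [MulDistribMulAction X E]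

/-- On the elements squaring to one, `a` moves only by `w`. -/
def Transv (a : X) (w : E) : Prop := ∀ v : E, v * v = 1 → a • v = v ∨ a • v = v * w

theorem Transv.conj {a : X} {w : E} (hw : Transv a w) (g : X) : Transv (g * a * g⁻¹) (g • w) := by
  intro v hv
  have hgv : g⁻¹ • v * (g⁻¹ • v) = 1 := by rw [← smul_mul', hv, smul_one]
  rcases hw _ hgv with e | e
  · left; rw [mul_smul, mul_smul, e, smul_inv_smul]
  · right; rw [mul_smul, mul_smul, e, smul_mul', smul_inv_smul]

namespace Act

variable (h : Act E X)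
include h

theorem transv_facts {a : X} (ha : orderOf a = 2) {w : E} (hw : Transv a w) :
    w * w = 1 ∧ a • w = w ∧ w ≠ 1 := by
  obtain ⟨v, hv, hne⟩ := h.exists_moved ha
  have e := (hw v hv).resolve_left hne
  have h1 : w * w = 1 := by
    have h2 : v * w * (v * w) = 1 := by rw [← e, ← smul_mul', hv, smul_one]
    rwa [mul_mul_mul_comm, hv, one_mul] at h2
  refine ⟨h1, ?_, fun e1 => hne (by rw [e, e1, mul_one])⟩
  have h3 := smul_smul_invol ha v
  rw [e, smul_mul', e, mul_assoc, mul_eq_left] at h3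
  rw [eq_inv_of_mul_eq_one_right h3, ← eq_inv_of_mul_eq_one_left h1]

/-- Transvections in distinct Sylow groups move each other's centres. -/
theorem cross {P Q : Sylow 2 X} (hne : P ≠ Q) {a b : X} (ha : orderOf a = 2) (haP : a ∈ P)
    (hb : orderOf b = 2) (hbQ : b ∈ Q) {w x : E} (hw : Transv a w) (hx : Transv b x) :
    a • x = x * w := by
  obtain ⟨hw2, haw, -⟩ := h.transv_facts ha hw
  obtain ⟨hx2, hbx, -⟩ := h.transv_facts hb hx
  refine (hw x hx2).resolve_left fun hax => hne ?_
  have hbw : b • w = w := by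
    refine h.smul_eq_self hne.symm hb hbQ ha haP haw ?_
    rcases hx w hw2 with e | e <;> rw [e]
    · rw [div_self', smul_one]
    · rw [mul_div_cancel_left, hax]
  have hodd := h.odd_mul hne ha haP hb hbQ
  set d := a * b with hd
  have hdw : d • w = w := by rw [mul_smul, hbw, haw]
  have hdx : d • x = x := by rw [mul_smul, hbx, hax]
  have hd2 : Odd (orderOf (d * d)) := by
    rw [← pow_two, orderOf_pow]
    exact hodd.of_dvd_nat (Nat.div_dvd_of_dvd (Nat.gcd_dvd_left _ _))
  have h1 : d * d = 1 := h.eq_one_of_fix_omega hd2 fun v hv => by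
    have key : ∃ u : E, u * u = 1 ∧ d • u = u ∧ d • v = v * u := by
      rcases hx v hv with e | e <;> rcases hw v hv with e' | e'
      · exact ⟨1, one_mul 1, smul_one d, by rw [mul_smul, e, e', mul_one]⟩
      · exact ⟨w, hw2, hdw, by rw [mul_smul, e, e']⟩
      · exact ⟨x, hx2, hdx, by rw [mul_smul, e, smul_mul', e', hax]⟩
      · exact ⟨w * x, by rw [mul_mul_mul_comm, hw2, hx2, one_mul],
          by rw [smul_mul', hdw, hdx], by rw [mul_smul, e, smul_mul', e', hax, mul_assoc]⟩
    obtain ⟨u, hu2, hdu, hdv⟩ := key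
    rw [mul_smul, hdv, smul_mul', hdv, hdu, mul_assoc, hu2, mul_one]
  have h2 : d = 1 := mem_bot.1 (mem_of_sq_mem hodd (mem_bot.2 h1))
  exact h.ti P Q a haP (by rwa [← inv_eq_of_mul_eq_one_right h2, invol_inv ha] at hbQ) (invol_ne_one ha)

theorem exists_other {P : Sylow 2 X} {a : X} (ha : orderOf a = 2) (haP : a ∈ P) :
    ∃ (Q : Sylow 2 X) (g : X), P ≠ Q ∧ g * a * g⁻¹ ∈ Q := by
  obtain ⟨Q, hQ⟩ := h.many P
  obtain ⟨g, hg⟩ := MulAction.exists_smul_eq X P Q
  exact ⟨Q, g, Ne.symm hQ, hg ▸ conj_mem_sylow_smul haP⟩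

/-- A Sylow group with a transvection has only one involution. -/
theorem invol_eq {P : Sylow 2 X} {a b : X} (ha : orderOf a = 2) (haP : a ∈ P) {w : E} (hw : Transv a w)
    (hb : orderOf b = 2) (hbP : b ∈ P) : b = a := by
  by_contra hba
  obtain ⟨g, hg⟩ := isConj_iff.1 (h.isConj_of_invol ha hb)
  have hwb : Transv b (g • w) := hg ▸ hw.conj g
  set z := g • w
  obtain ⟨Q, k, hne, hcQ⟩ := h.exists_other ha haP
  have hc := invol_conj ha k
  have hwc := hw.conj k
  set c := k * a * k⁻¹
  set x := k • w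
  obtain ⟨hw2, haw, -⟩ := h.transv_facts ha hw
  obtain ⟨hz2, hbz, hz1⟩ := h.transv_facts hb hwb
  obtain ⟨hx2, hcx, -⟩ := h.transv_facts hc hwc
  have hax := h.cross hne ha haP hc hcQ hw hwc
  have hbx := h.cross hne hb hbP hc hcQ hwb hwc
  have hcw := h.cross hne.symm hc hcQ ha haP hwc hw
  have hcz := h.cross hne.symm hc hcQ hb hbP hwc hwb
  have hab := h.commute_invol ha haP hbP
  -- `b` fixes `w`, `a` fixes `z`
  have haz : a • z = z := by
    obtain ⟨v, hv, hmv⟩ := h.exists_moved hb
    have e := (hwb v hv).resolve_left hmv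
    rcases hw z hz2 with e1 | e1
    · exact e1
    exfalso
    have h1 : a • b • v = b • a • v := by rw [← mul_smul, hab.eq, mul_smul]
    rw [e, smul_mul', e1] at h1
    rcases hw v hv with e2 | e2
    · rw [e2, e, mul_right_inj, mul_eq_left] at h1
      exact (h.transv_facts ha hw).2.2 h1
    · rw [e2, smul_mul', e, mul_assoc v w, mul_assoc v z, mul_right_inj, mul_left_comm, hw2, mul_one,
        eq_comm, mul_eq_left] at h1
      exact (h.transv_facts ha hw).2.2 ((smul_eq_iff_eq_inv_smul b).1 h1 |>.trans (smul_one _))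
  have habo : orderOf (a * b) = 2 := invol_iff.2
    ⟨by rw [mul_assoc, ← mul_assoc b, ← hab.eq, mul_assoc a, invol_mul_self hb, mul_one, invol_mul_self ha],
      fun e => hba ((invol_inv ha).symm.trans (inv_eq_of_mul_eq_one_right e)).symm⟩
  obtain ⟨l, hl⟩ := isConj_iff.1 (h.isConj_of_invol ha habo)
  have hwab : Transv (a * b) (l • w) := hl ▸ hw.conj l
  set r := l • w
  obtain ⟨hr2, -, hr1⟩ := h.transv_facts habo hwab
  have habP : a * b ∈ P := mul_mem haP hbP
  have habx := h.cross hne habo habP hc hcQ hwab hwc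
  rw [mul_smul, hbx, smul_mul', hax, haz, mul_assoc, mul_right_inj] at habx
  -- the centre of `a * b` is `w * z`, and `c` fixes it
  have hcr := h.cross hne.symm hc hcQ habo habP hwc hwab
  rw [← habx, smul_mul', hcw, hcz, mul_mul_mul_comm, hx2, mul_one, left_eq_mul] at hcr
  exact (h.transv_facts hc hwc).2.2 hcr

/-- With a transvection `a` and a second involution `c`, the involutions are `a`, `c` and `a * c * a`. -/
theorem invol_three {P Q : Sylow 2 X} (hne : P ≠ Q) {a c f : X} (ha : orderOf a = 2) (haP : a ∈ P)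
    {w : E} (hw : Transv a w) (hc : orderOf c = 2) (hcQ : c ∈ Q) (hf : orderOf f = 2) :
    f = a ∨ f = c ∨ f = a * c * a⁻¹ := by
  by_contra hno
  push Not at hno
  obtain ⟨hfa, hfc, hfe⟩ := hno
  obtain ⟨g, hg⟩ := isConj_iff.1 (h.isConj_of_invol ha hc)
  obtain ⟨l, hl⟩ := isConj_iff.1 (h.isConj_of_invol ha hf)
  have hwc : Transv c (g • w) := hg ▸ hw.conj g
  have hwf : Transv f (l • w) := hl ▸ hw.conj l
  set x := g • w
  set y := l • w
  obtain ⟨R, hR⟩ := (IsPGroup.of_card (n := 1)
    (by rw [Nat.card_zpowers, hf, pow_one] : Nat.card (zpowers f) = 2 ^ 1)).exists_le_sylow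
  have hfR := hR (mem_zpowers f)
  have hPR : P ≠ R := fun e => hfa (h.invol_eq ha haP hw hf (e ▸ hfR))
  have hQR : Q ≠ R := fun e => hfc (h.invol_eq hc hcQ hwc hf (e ▸ hfR))
  have heo : orderOf (a * c * a⁻¹) = 2 := invol_conj hc a
  have heS : a * c * a⁻¹ ∈ a • Q := conj_mem_sylow_smul hcQ
  have hSR : a • Q ≠ R := fun e => hfe (h.invol_eq heo heS (hwc.conj a) hf (e ▸ hfR))
  obtain ⟨hw2, haw, hw1⟩ := h.transv_facts ha hw
  obtain ⟨hx2, hcx, -⟩ := h.transv_facts hc hwc
  have hay := h.cross hPR ha haP hf hfR hw hwf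
  have hcy := h.cross hQR hc hcQ hf hfR hwc hwf
  have hcw := h.cross hne.symm hc hcQ ha haP hwc hw
  have hax := h.cross hne ha haP hc hcQ hw hwc
  have hey := h.cross hSR heo heS hf hfR (hwc.conj a) hwf
  rw [invol_inv ha, mul_smul, mul_smul, hay, smul_mul', hcy, hcw, smul_mul', smul_mul', smul_mul', hay,
    hax, haw] at hey
  have e1 : y * w * (x * w) * (w * (x * w)) = y * w * w * w * (x * x) * w := by
    simp only [mul_assoc, mul_comm, mul_left_comm]
  rw [e1, hx2, mul_one, mul_assoc y w w, hw2, mul_one, mul_assoc, hw2, mul_one, left_eq_mul] at hey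
  rw [mul_eq_one_iff_eq_inv, inv_eq_of_mul_eq_one_right hw2] at hey
  -- then `a` fixes `x`
  rw [hey, haw, left_eq_mul] at hax
  exact hw1 hax

/-- A Sylow group with a transvection has order two. -/
theorem eq_or_eq_of_transv {P : Sylow 2 X} {a : X} (ha : orderOf a = 2) (haP : a ∈ P) {w : E}
    (hw : Transv a w) {s : X} (hs : s ∈ P) : s = 1 ∨ s = a := by
  obtain ⟨Q, k, hne, hcQ⟩ := h.exists_other ha haP
  have hc := invol_conj ha k
  set c := k * a * k⁻¹
  have key : ∀ r ∈ P, r * c * r⁻¹ = c → r = 1 := fun r hr e =>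
    h.eq_one_of_normalizes hne hr (h.mem_normalizer_of_conj hcQ (invol_ne_one hc) (e.symm ▸ hcQ))
  rcases h.invol_three hne ha haP hw hc hcQ (invol_conj hc s) with e | e | e
  · exfalso
    have h1 : s⁻¹ * a * s = c := by rw [← e]; group
    exact hne (h.ti P Q c (h1 ▸ mul_mem (mul_mem (inv_mem hs) haP) hs) hcQ (invol_ne_one hc))
  · exact Or.inl (key s hs e)
  · refine Or.inr ?_
    have h1 : a * s = 1 := key (a * s) (mul_mem haP hs) (by
      rw [mul_inv_rev, show a * s * c * (s⁻¹ * a⁻¹) = a * (s * c * s⁻¹) * a⁻¹ by group, e,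
        show a * (a * c * a⁻¹) * a⁻¹ = (a * a) * c * (a * a)⁻¹ by group, invol_mul_self ha, one_mul,
        inv_one, mul_one])
    exact (inv_eq_of_mul_eq_one_right h1).symm.trans (invol_inv ha)

end Act

end CfsgLib.AbelianInter
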