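import Cfsg.Agent.Lib.Invol.AbelianInter.Bridge
import Cfsg.Agent.Lib.Invol.AbelianInter.Transvection
import Cfsg.Agent.Lib.Invol.AbelianInter.Local

/-!
# Building the data of three transvections

An element of `S ∩ N(E)` moving all of `E` by one element is a transvection, so the automizer
has three involutions and `E` carries a `TwoData`.
-/

set_option autoImplicit false
set_option linter.unusedSectionVars false

namespace CfsgLib.AbelianInter

open Subgroup CfsgLib.Invol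
open scoped IsMulCommutative

universe u

variable {G : Type u} [Group G] {S : Sylow 2 G} {E : Subgroup G} {w y w' y' : G}

/-- The centres of a `TwoData` are unique. -/
theorem TwoData.uniq (d : TwoData S E w y) (d' : TwoData S E w' y') :
    w' = w ∧ (y' = y ∨ y' = y * w) := by
  obtain ⟨r, hr, hrn, hry⟩ := d.move
  have hw : w' = w := by
    rcases d'.quad r hr hrn y d.y_mem with e | e <;> rw [hry] at e
    · exact absurd (mul_eq_left.1 e) d.w_ne
    · exact (mul_left_cancel e).symm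
  refine ⟨hw, ?_⟩
  obtain ⟨g, hg, hgy⟩ := d'.conj_y
  rw [hw] at hgy
  have hperm := d.perm g hg w (Or.inl rfl)
  rw [hgy] at hperm
  rcases hperm with e | e
  · exfalso
    obtain ⟨r', hr', hrn', hry'⟩ := d'.move
    rw [hw, e] at hry'
    rcases d.quad r' hr' hrn' w d.w_mem with e1 | e1 <;> rw [hry'] at e1
    · exact d.w_ne (mul_eq_left.1 e1)
    · rw [d.w_sq] at hry'
      exact d.w_ne (conj_eq_one_iff.1 hry')
  · exact e

variable [Finite G]

/-- `N(S)` permutes the data. -/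
theorem TwoData.conj {n : G} (hn : n ∈ normalizer ((S : Subgroup G) : Set G)) (d : TwoData S E w y) :
    TwoData S (E.map (MulAut.conj n).toMonoidHom) (n * w * n⁻¹) (n * y * n⁻¹) := by
  have hcj : ∀ p q : G, n * p * n⁻¹ * (n * q * n⁻¹) = n * (p * q) * n⁻¹ := fun p q => by group
  have hback : ∀ {p x : G}, x * (n * p * n⁻¹) * x⁻¹ = n * ((n⁻¹ * x * n) * p * (n⁻¹ * x * n)⁻¹) * n⁻¹ :=
    fun {p x} => by group
  have hinj : ∀ {p q : G}, n * p * n⁻¹ = n * q * n⁻¹ ↔ p = q := fun {p q} => by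
    rw [mul_left_inj, mul_right_inj]
  refine ⟨d.ess.conj hn, ?_, conj_mem_map_conj d.w_mem, conj_mem_map_conj d.y_mem,
    fun e => d.w_ne (conj_eq_one_iff.1 e), by rw [hcj, d.w_sq]; group, by rw [hcj, d.y_sq]; group,
    fun s hs hsy => ?_, ?_, fun s hs hsn e he => ?_, fun e he heq => ?_, fun g hg x hx => ?_, ?_,
    fun e he => ?_, fun g hg f hf hF => ?_⟩
  · obtain ⟨s, hs, hsn⟩ := d.not_normal
    refine ⟨n * s * n⁻¹, (mem_normalizer_iff.1 hn s).1 hs, fun h => hsn ?_⟩
    simpa [mul_assoc] using mem_normalizer_map_conj.1 h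
  · refine mem_map_conj.2 (d.cy _ ((mem_sylow_conj_iff hn).2 hs) ?_)
    have := hsy.map (MulAut.conj n⁻¹).toMonoidHom
    simpa [mul_assoc] using this
  · obtain ⟨r, hr, hrn, hry⟩ := d.move
    refine ⟨n * r * n⁻¹, (mem_normalizer_iff.1 hn r).1 hr,
      mem_normalizer_map_conj.2 (by simpa [mul_assoc] using hrn), ?_⟩
    rw [show n * r * n⁻¹ * (n * y * n⁻¹) * (n * r * n⁻¹)⁻¹ = n * (r * y * r⁻¹) * n⁻¹ by group, hry,
      ← hcj]
  · obtain ⟨e, he, rfl⟩ := he
    simp only [MulEquiv.coe_toMonoidHom, MulAut.conj_apply]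
    rw [hback]
    rcases d.quad _ ((mem_sylow_conj_iff hn).2 hs) (mem_normalizer_map_conj.1 hsn) e he with h | h
    · exact Or.inl (hinj.2 h)
    · exact Or.inr (by rw [hcj, hinj]; exact h)
  · obtain ⟨e, he, rfl⟩ := he
    simp only [MulEquiv.coe_toMonoidHom, MulAut.conj_apply] at heq
    rw [hcj, hinj] at heq
    exact d.no_sq e he heq
  · rw [hcj] at hx ⊢
    obtain ⟨x, rfl⟩ : ∃ x', x = n * x' * n⁻¹ := ⟨n⁻¹ * x * n, by group⟩
    rw [hback, hinj, hinj, hinj]
    rw [hinj, hinj, hinj] at hx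
    exact d.perm _ (mem_normalizer_map_conj.1 hg) x hx
  · obtain ⟨g, hg, hgw⟩ := d.conj_y
    refine ⟨n * g * n⁻¹, mem_normalizer_map_conj.2 (by simpa [mul_assoc] using hg), ?_⟩
    rw [← hgw]
    group
  · obtain ⟨e, he, rfl⟩ := he
    obtain ⟨f, hf, hF, hcases⟩ := d.decomp e he
    refine ⟨n * f * n⁻¹, conj_mem_map_conj hf, ?_, ?_⟩
    · intro g hg hg2
      have h1 : Commute (n⁻¹ * g * n) f :=
        hF _ (mem_normalizer_map_conj.1 hg) (mem_centralizer_iff.2 fun v hv => by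
          have h2 := mem_centralizer_iff.1 hg2 _ (conj_mem_map_conj (g := n) hv)
          calc v * (n⁻¹ * g * n * (n⁻¹ * g * n)) = n⁻¹ * (n * v * n⁻¹ * (g * g)) * n := by group
            _ = n⁻¹ * g * n * (n⁻¹ * g * n) * v := by rw [h2]; group)
      have h3 := h1.map (MulAut.conj n).toMonoidHom
      simpa [mul_assoc] using h3
    · simp only [MulEquiv.coe_toMonoidHom, MulAut.conj_apply, hcj, hinj]
      exact hcases
  · obtain ⟨f, hfE, rfl⟩ := hf
    simp only [MulEquiv.coe_toMonoidHom, MulAut.conj_apply] at hF ⊢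
    have hF' : Fixed E f := by
      intro k hk hk2
      have h1 : Commute (n * k * n⁻¹) (n * f * n⁻¹) := by
        refine hF _ (mem_normalizer_map_conj.2 (by simpa [mul_assoc] using hk))
          (mem_centralizer_iff.2 ?_)
        rintro _ ⟨v, hv, rfl⟩
        simp only [MulEquiv.coe_toMonoidHom, MulAut.conj_apply]
        rw [hcj, hcj, hcj, hinj]
        exact mem_centralizer_iff.1 hk2 v hv
      have h3 := h1.map (MulAut.conj n⁻¹).toMonoidHom
      simpa [mul_assoc] using h3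
    obtain ⟨m, hm, hmn, e⟩ := d.fix_conj _ (mem_normalizer_map_conj.1 hg) f hfE hF'
    refine ⟨n * m * n⁻¹, mul_mem (mul_mem hn hm) (inv_mem hn),
      mem_normalizer_map_conj.2 (by simpa [mul_assoc] using hmn), ?_⟩
    rw [hback, e]
    group

/-- A transvection on all of `E` builds the data. -/
theorem exists_twoData (hA : InterAb G) (hE : Ess S E)
    (hnn : ∃ s ∈ (S : Subgroup G), s ∉ normalizer (E : Set G)) {a : G} (ha : a ∈ (S : Subgroup G))
    (han : a ∈ normalizer (E : Set G)) (haE : a ∉ E) (ha2 : a * a ∈ E)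
    (hidx : ∀ v ∈ E, ∀ v' ∈ E, ¬ Commute a v → ¬ Commute a v' → Commute a (v⁻¹ * v')) :
    ∃ w y, TwoData S E w y := by
  haveI := hE.isMulCommutative
  have hact := hE.act hA
  obtain ⟨P, hP⟩ := hE.exists_sylow
  set A := toAut E ⟨a, han⟩ with hAdef
  have hmemE : ∀ {s : G} (_ : s ∈ (S : Subgroup G)) (hsn : s ∈ normalizer (E : Set G)),
      toAut E ⟨s, hsn⟩ = 1 → s ∈ E := fun hs _ h1 => hE.cent _ hs fun v hv =>
    (mem_centralizer_iff.1 (toAut_eq_one_iff.1 h1) v hv).symm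
  have hAo : orderOf A = 2 := invol_iff.2 ⟨by
    rw [hAdef, ← map_mul]
    exact toAut_eq_one_iff.2 (mem_centralizer_iff.2 fun v hv => hE.comm v hv _ ha2),
    fun e => haE (hmemE ha han e)⟩
  have haP : A ∈ P := (hP _).2 ⟨_, ha, rfl⟩
  obtain ⟨v₀, -, hv₀⟩ := hact.exists_moved hAo
  -- the centre of `A` on all of `E`
  set w₀ : E := A • v₀ / v₀ with hw₀
  have hcomm_iff : ∀ v : E, Commute a (v : G) ↔ A • v = v := fun v => by
    rw [Subtype.ext_iff, hAdef, coe_toAut_smul]
    exact ⟨fun h => by show a * (v : G) * a⁻¹ = v; rw [h.eq, mul_inv_cancel_right],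
      fun h => mul_inv_eq_iff_eq_mul.1 h⟩
  have hfull : ∀ v : E, A • v = v ∨ A • v = v * w₀ := by
    intro v
    by_cases hv : A • v = v
    · exact Or.inl hv
    right
    have h1 := hidx _ v₀.2 _ v.2 (fun h => hv₀ ((hcomm_iff v₀).1 h)) fun h => hv ((hcomm_iff v).1 h)
    have h2 : A • (v₀⁻¹ * v) = v₀⁻¹ * v := (hcomm_iff (v₀⁻¹ * v)).1 h1
    rw [smul_mul', smul_inv', inv_mul_eq_iff_eq_mul] at h2
    rw [h2, hw₀, div_eq_mul_inv]
    ac_rfl
  have hTr : Transv A w₀ := fun v _ => hfull v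
  obtain ⟨hw2, hAw, hw1⟩ := hact.transv_facts hAo hTr
  obtain ⟨Q, g, hne, hcQ⟩ := hact.exists_other hAo haP
  set c := g * A * g⁻¹ with hcdef
  set x : E := g • w₀ with hxdef
  have hco : orderOf c = 2 := invol_conj hAo g
  have hTc : Transv c x := hTr.conj g
  have conjfull : ∀ (k f : ↥(Aut E)) (u : E), (∀ v : E, f • v = v ∨ f • v = v * u) →
      ∀ v : E, (k * f * k⁻¹) • v = v ∨ (k * f * k⁻¹) • v = v * (k • u) := by
    intro k f u hf v
    rcases hf (k⁻¹ • v) with e | e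
    · left; rw [mul_smul, mul_smul, e, smul_inv_smul]
    · right; rw [mul_smul, mul_smul, e, smul_mul', smul_inv_smul]
  have hcfull := conjfull g A w₀ hfull
  obtain ⟨hx2, hcx, -⟩ := hact.transv_facts hco hTc
  have hAx : A • x = x * w₀ := hact.cross hne hAo haP hco hcQ hTr hTc
  have hcw : c • w₀ = w₀ * x := hact.cross hne.symm hco hcQ hAo haP hTc hTr
  set e' := A * c * A⁻¹ with he'def
  have he'full : ∀ v : E, e' • v = v ∨ e' • v = v * (x * w₀) := hAx ▸ conjfull A c x hcfull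
  have three : ∀ f : ↥(Aut E), orderOf f = 2 → f = A ∨ f = c ∨ f = e' := fun f hf =>
    hact.invol_three hne hAo haP hTr hco hcQ hf
  have inP : ∀ {s : G} (hs : s ∈ (S : Subgroup G)) (hsn : s ∈ normalizer (E : Set G)),
      toAut E ⟨s, hsn⟩ = 1 ∨ toAut E ⟨s, hsn⟩ = A := fun hs hsn =>
    hact.eq_or_eq_of_transv hAo haP hTr ((hP _).2 ⟨_, hs, rfl⟩)
  -- uniqueness of centres
  have centre : ∀ (f : ↥(Aut E)) (u u' : E), orderOf f = 2 → (∀ v : E, f • v = v ∨ f • v = v * u) →
      (∀ v : E, f • v = v ∨ f • v = v * u') → u = u' := by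
    intro f u u' hf hu hu'
    obtain ⟨v, -, hv⟩ := hact.exists_moved hf
    exact mul_left_cancel (((hu v).resolve_left hv).symm.trans ((hu' v).resolve_left hv))
  -- the fixed elements
  have fixed_iff : ∀ d : E, Fixed E (d : G) ↔ ∀ f : ↥(Aut E), f * f = 1 → f • d = d := by
    intro d
    constructor
    · intro h f hf
      obtain ⟨k, rfl⟩ := E.normalizerMonoidHom.rangeRestrict_surjective f
      refine Subtype.ext ?_
      show ((toAut E k • d : E) : G) = d
      rw [coe_toAut_smul, (h k k.2 ?_).eq, mul_inv_cancel_right]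
      have h2 : toAut E (k * k) = 1 := by rw [map_mul]; exact hf
      exact toAut_eq_one_iff.1 h2
    · intro h k hk hk2
      have h1 := h (toAut E ⟨k, hk⟩) (by rw [← map_mul]; exact toAut_eq_one_iff.2 hk2)
      rw [Subtype.ext_iff, coe_toAut_smul] at h1
      exact mul_inv_eq_iff_eq_mul.1 h1
  refine ⟨(w₀ : G), (x : G), hE, hnn, w₀.2, x.2, fun e => hw1 (Subtype.ext e),
    congrArg Subtype.val hw2, congrArg Subtype.val hx2, ?_, ?_, ?_, ?_, ?_, ?_, ?_, ?_⟩
  · -- cy
    refine hE.cent_of_inf (fun e he => hE.comm e he _ x.2) fun s hs hsn hc => ?_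
    rcases inP hs hsn with e | e
    · exact hmemE hs hsn e
    · exfalso
      have h1 : A • x = x := by
        rw [← e, Subtype.ext_iff, coe_toAut_smul]
        exact mul_inv_eq_iff_eq_mul.2 hc.eq
      rw [hAx, mul_eq_left] at h1
      exact hw1 h1
  · -- move
    exact ⟨a, ha, han, congrArg Subtype.val hAx⟩
  · -- quad
    intro s hs hsn v hv
    rcases inP hs hsn with e | e
    · left
      have := congrArg Subtype.val (show toAut E ⟨s, hsn⟩ • (⟨v, hv⟩ : E) = ⟨v, hv⟩ by rw [e, one_smul])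
      rwa [coe_toAut_smul] at this
    · rcases hfull ⟨v, hv⟩ with h | h <;> rw [← e, Subtype.ext_iff, coe_toAut_smul] at h
      exacts [Or.inl h, Or.inr h]
  · -- no_sq
    intro v hv heq
    have h1 : (⟨v, hv⟩ : E) * ⟨v, hv⟩ = w₀ := Subtype.ext heq
    have h2 : c • w₀ = w₀ := by
      rw [← h1, smul_mul']
      rcases hcfull ⟨v, hv⟩ with e | e <;> rw [e]
      rw [mul_mul_mul_comm, ← hxdef, hx2, mul_one]
    rw [hcw, mul_eq_left] at h2
    exact (hact.transv_facts hco hTc).2.2 h2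
  · -- perm
    intro k hk u hu
    have key : ∀ (f : ↥(Aut E)) (u : E), orderOf f = 2 → (∀ v : E, f • v = v ∨ f • v = v * u) →
        toAut E ⟨k, hk⟩ • u = w₀ ∨ toAut E ⟨k, hk⟩ • u = x ∨ toAut E ⟨k, hk⟩ • u = x * w₀ := by
      intro f u hf hu
      have h1 := conjfull (toAut E ⟨k, hk⟩) f u hu
      have ho := invol_conj hf (toAut E ⟨k, hk⟩)
      rcases three _ ho with e | e | e <;> rw [e] at h1 ho
      · exact Or.inl (centre A _ _ ho h1 hfull)
      · exact Or.inr (Or.inl (centre c _ _ ho h1 hcfull))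
      · exact Or.inr (Or.inr (centre e' _ _ ho h1 he'full))
    have fin : ∀ (f : ↥(Aut E)) (v : E), orderOf f = 2 → (∀ z : E, f • z = z ∨ f • z = z * v) →
        k * (v : G) * k⁻¹ = (w₀ : G) ∨ k * (v : G) * k⁻¹ = (x : G) ∨ k * (v : G) * k⁻¹ = (x : G) * w₀ := by
      intro f v hf hv
      rcases key f v hf hv with h | h | h <;> rw [Subtype.ext_iff, coe_toAut_smul] at h
      exacts [Or.inl h, Or.inr (Or.inl h), Or.inr (Or.inr h)]
    rcases hu with rfl | rfl | rfl
    · exact fin A w₀ hAo hfull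
    · exact fin c x hco hcfull
    · exact fin e' (x * w₀) (invol_conj hco A) he'full
  · -- conj_y
    obtain ⟨k, hk⟩ := E.normalizerMonoidHom.rangeRestrict_surjective g
    refine ⟨k, k.2, ?_⟩
    have h := congrArg Subtype.val hxdef
    rw [← show toAut E k = g from hk, coe_toAut_smul] at h
    exact h.symm
  · -- decomp
    intro v hv
    have hsqw : ∀ p : E, p * w₀ * w₀ = p := fun p => by rw [mul_assoc, hw2, mul_one]
    have hsqx : ∀ p : E, p * x * x = p := fun p => by rw [mul_assoc, hx2, mul_one]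
    obtain ⟨i, hi, hiA, hi'⟩ : ∃ i : E, (i = 1 ∨ i = x) ∧ A • ((⟨v, hv⟩ : E) * i) = ⟨v, hv⟩ * i ∧
        c • i = i := by
      rcases hfull ⟨v, hv⟩ with e | e
      · exact ⟨1, Or.inl rfl, by rw [mul_one, e], smul_one c⟩
      · exact ⟨x, Or.inr rfl, by rw [smul_mul', e, hAx, mul_mul_mul_comm, mul_comm w₀ w₀, hw2, mul_one],
          hcx⟩
    obtain ⟨j, hj, hjc, hj'⟩ : ∃ j : E, (j = 1 ∨ j = w₀) ∧
        c • ((⟨v, hv⟩ : E) * i * j) = ⟨v, hv⟩ * i * j ∧ A • j = j := by
      rcases hcfull ((⟨v, hv⟩ : E) * i) with e | e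
      · exact ⟨1, Or.inl rfl, by rw [mul_one, e], smul_one A⟩
      · exact ⟨w₀, Or.inr rfl, by rw [smul_mul', e, hcw, mul_mul_mul_comm, hx2, mul_one], hAw⟩
    set d : E := ⟨v, hv⟩ * i * j with hd
    have hAd : A • d = d := by rw [hd, smul_mul', hiA, hj']
    have hF : Fixed E (d : G) := (fixed_iff d).2 fun f hf => by
      by_cases hf1 : f = 1
      · rw [hf1, one_smul]
      rcases three f (invol_iff.2 ⟨hf, hf1⟩) with rfl | rfl | rfl
      · exact hAd
      · exact hjc
      · rw [he'def, mul_smul, mul_smul, show A⁻¹ • d = d by rw [invol_inv hAo, hAd], hjc, hAd]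
    refine ⟨(d : G), d.2, hF, ?_⟩
    have conv : ∀ t : E, (⟨v, hv⟩ : E) = d * t → v = (d : G) * (t : G) := fun t h =>
      congrArg Subtype.val h
    rcases hi with rfl | rfl <;> rcases hj with rfl | rfl
    · exact Or.inl (by simpa using conv 1 (by rw [hd, mul_one, mul_one, mul_one]))
    · exact Or.inr (Or.inl (conv w₀ (by rw [hd, mul_one, hsqw])))
    · exact Or.inr (Or.inr (Or.inl (conv x (by rw [hd, mul_one, hsqx]))))
    · exact Or.inr (Or.inr (Or.inr (conv (x * w₀) (by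
        rw [hd, mul_assoc (⟨v, hv⟩ : E) x w₀, mul_assoc, mul_mul_mul_comm, hx2, hw2, mul_one, mul_one]))))
  · -- fix_conj
    intro k hk d hd hF
    set K := toAut E ⟨k, hk⟩ with hK
    have hdfix := (fixed_iff ⟨d, hd⟩).1 hF
    have hKd : ∀ f : ↥(Aut E), f * f = 1 → f • K • (⟨d, hd⟩ : E) = K • ⟨d, hd⟩ := fun f hf => by
      have h1 := hdfix (K⁻¹ * f * K) (by
        rw [show K⁻¹ * f * K * (K⁻¹ * f * K) = K⁻¹ * (f * f) * K by group, hf, mul_one,
          inv_mul_cancel])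
      rwa [mul_smul, mul_smul, inv_smul_eq_iff] at h1
    set f := K * A * K⁻¹ with hfdef
    have hfo : orderOf f = 2 := invol_conj hAo K
    obtain ⟨z, hz, hzd⟩ : ∃ z : ↥(Aut E), z * f * z⁻¹ = A ∧
        z • K • (⟨d, hd⟩ : E) = K • ⟨d, hd⟩ := by
      by_cases hfA : f = A
      · exact ⟨1, by rw [one_mul, inv_one, mul_one, hfA], one_smul _ _⟩
      obtain ⟨R, hR⟩ := (IsPGroup.of_card (n := 1)
        (by rw [Nat.card_zpowers, hfo, pow_one] : Nat.card (zpowers f) = 2 ^ 1)).exists_le_sylow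
      have hne' : R ≠ P := fun e =>
        hfA (hact.invol_eq hAo haP hTr hfo (e ▸ hR (mem_zpowers f)))
      obtain ⟨z, hz, hzf⟩ := exists_conj_eq_of_odd hfo hAo
        (hact.odd_mul hne' hfo (hR (mem_zpowers f)) hAo haP)
      refine ⟨z, hzf, ?_⟩
      have h1 : f * A ∈ MulAction.stabilizer ↥(Aut E) (K • (⟨d, hd⟩ : E)) :=
        mul_mem (hKd f (invol_mul_self hfo)) (hKd A (invol_mul_self hAo))
      exact zpowers_le.2 h1 hz
    obtain ⟨z', hz'⟩ := E.normalizerMonoidHom.rangeRestrict_surjective z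
    set g' : ↥(normalizer (E : Set G)) := z' * ⟨k, hk⟩ with hg'
    have hg'A : toAut E g' = z * K := by rw [hg', map_mul, show toAut E z' = z from hz']
    have hc₀ : (g' : G) * a * (g' : G)⁻¹ * a⁻¹ ∈ centralizer (E : Set G) := by
      have h1 : toAut E (g' * ⟨a, han⟩ * g'⁻¹ * ⟨a, han⟩⁻¹) = 1 := by
        rw [map_mul, map_mul, map_mul, map_inv, map_inv, hg'A, ← hAdef,
          show z * K * A * (z * K)⁻¹ = z * (K * A * K⁻¹) * z⁻¹ by group, ← hfdef, hz, mul_inv_cancel]
      exact toAut_eq_one_iff.1 h1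
    obtain ⟨c₁, hc₁, hn⟩ := hE.exists_mem_normalizer hA g'.2 ha han haE ha han hc₀
      (inv_mul_cancel_right _ _).symm
    refine ⟨c₁ * g', hn, mul_mem (centralizer_le_normalizer _ hc₁) g'.2, ?_⟩
    have h2 := congrArg Subtype.val hzd
    rw [← mul_smul, ← hg'A, coe_toAut_smul, hK, coe_toAut_smul] at h2
    have h4 : (g' : G) * d * (g' : G)⁻¹ ∈ E := (mem_normalizer_iff.1 g'.2 d).1 hd
    rw [show c₁ * (g' : G) * d * (c₁ * g')⁻¹ = c₁ * ((g' : G) * d * (g' : G)⁻¹) * c₁⁻¹ by group,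
      ← mem_centralizer_iff.1 hc₁ _ h4, mul_inv_cancel_right, h2]

end CfsgLib.AbelianInter
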