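import Cfsg.Agent.Lib.Invol.AbelianInter.BigFocal
import Cfsg.Agent.Lib.Invol.AbelianInter.TwoBuild

/-!
# Nonnormal essential subgroups exclude normal ones
-/

set_option autoImplicit false
set_option linter.unusedSectionVars false

namespace CfsgLib.AbelianInter

open Subgroup

universe u

variable {G : Type u} [Group G] [Finite G] {S : Sylow 2 G} {E : Subgroup G}

theorem exists_twoData_of_not_normal [IsSimpleGroup G] (hG : ¬ IsMulCommutative G) (hA : InterAb G)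
    (hE : Ess S E) (hnn : ∃ s ∈ (S : Subgroup G), s ∉ normalizer (E : Set G)) :
    ∃ w y, TwoData S E w y := by
  obtain ⟨x, h⟩ := exists_twin hE hnn
  obtain ⟨f, hf, hfE⟩ := SetLike.not_le_iff_exists.1 h.not_le
  have hfN := h.twin_le hf
  refine exists_twoData hA hE hnn hfN.1 hfN.2 hfE (h.sq_inf hA hfN).1 fun v hv v' hv' hc hc' => ?_
  have h1 : v ∉ twin E x := fun hm => hc (h.ess_twin.comm f hf v hm)
  have h2 : v' ∉ twin E x := fun hm => hc' (h.ess_twin.comm f hf v' hm)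
  exact h.ess_twin.comm f hf _ (h.small hA hG hv hv' h1 h2)

/-- A soft nonnormal essential subgroup and a normal one do not coexist. -/
theorem TwoData.false_of_normal (hA : InterAb G) {F : Subgroup G} {w y : G} (h : TwoData S E w y)
    (hF : Ess S F) (hn : (S : Subgroup G) ≤ normalizer (F : Set G)) : False := by
  obtain ⟨s₀, hs₀, hs₀n⟩ := h.not_normal
  have hyS : y ∈ (S : Subgroup G) := h.ess.le h.y_mem
  have hyF : y ∉ F := fun hm => by
    have h1 : F ≤ E := fun f hf => h.cy f (hF.le hf) (hF.comm f hf y hm)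
    have h2 : E ≤ F := fun e he => hF.cent e (h.ess.le he) fun f hf => h.ess.comm e he f (h1 hf)
    exact hs₀n (le_antisymm h1 h2 ▸ hn hs₀)
  have hcF : ∀ f ∈ F, f * y * f⁻¹ * y⁻¹ ∈ F := fun f hf => by
    rw [show f * y * f⁻¹ * y⁻¹ = f * (y * f⁻¹ * y⁻¹) by group]
    exact mul_mem hf ((mem_normalizer_iff.1 (hn hyS) _).1 (inv_mem hf))
  have hconjF : ∀ f ∈ F, y * f * y⁻¹ ∈ F := fun f hf => (mem_normalizer_iff.1 (hn hyS) f).1 hf
  have hyinv : y⁻¹ = y := inv_eq_of_mul_eq_one_left h.y_sq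
  -- commutators of order two
  have hinv : ∀ f ∈ F, f * y * f⁻¹ * y⁻¹ * (f * y * f⁻¹ * y⁻¹) = 1 →
      f ∈ normalizer (E : Set G) ∧ (f * y * f⁻¹ * y⁻¹ = 1 ∨ f * y * f⁻¹ * y⁻¹ = w) := by
    intro f hf hc2
    set c := f * y * f⁻¹ * y⁻¹ with hc
    have hfy : f * y * f⁻¹ = c * y := by rw [hc]; group
    have h1 : c * y * (c * y) = 1 := by
      rw [← hfy, show f * y * f⁻¹ * (f * y * f⁻¹) = f * (y * y) * f⁻¹ by group, h.y_sq, mul_one, mul_inv_cancel]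
    have h2 : Commute c y := by
      show c * y = y * c
      rw [eq_inv_of_mul_eq_one_left h1, mul_inv_rev, inv_eq_of_mul_eq_one_left hc2, hyinv]
    have hcE : c ∈ E := h.cy c (hF.le (hcF f hf)) h2
    have hfn : f⁻¹ ∈ normalizer (E : Set G) := mem_normalizer_fintype fun e he => by
      rw [inv_inv]
      refine h.cy _ (mul_mem (mul_mem (inv_mem (hF.le hf)) (h.ess.le he)) (hF.le hf)) ?_
      have h3 : Commute e (f * y * f⁻¹) := h.ess.comm e he _ (hfy ▸ mul_mem hcE h.y_mem)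
      have h4 := h3.map (MulAut.conj f⁻¹).toMonoidHom
      simpa [mul_assoc] using h4
    refine ⟨inv_mem_iff.1 hfn, ?_⟩
    rcases h.quad f (hF.le hf) (inv_mem_iff.1 hfn) y h.y_mem with e | e
    · left; rw [hc, e, mul_inv_cancel]
    · right
      rw [hc, e, (h.ess.comm y h.y_mem w h.w_mem).eq, mul_inv_cancel_right]
  -- the map `f ↦ [f, y]`
  have hmul : ∀ f ∈ F, ∀ g ∈ F, f * g * y * (f * g)⁻¹ * y⁻¹
      = f * y * f⁻¹ * y⁻¹ * (g * y * g⁻¹ * y⁻¹) := fun f hf g hg => by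
    have h1 : Commute (g * y * g⁻¹ * y⁻¹) f := hF.comm _ (hcF g hg) f hf
    rw [show f * g * y * (f * g)⁻¹ * y⁻¹ = f * (g * y * g⁻¹ * y⁻¹) * (y * f⁻¹ * y⁻¹) by group, ← h1.eq,
      mul_assoc, show f * (y * f⁻¹ * y⁻¹) = f * y * f⁻¹ * y⁻¹ by group]
    exact hF.comm _ (hcF g hg) _ (hcF f hf)
  have hsq : ∀ v ∈ F, v * v = 1 → v * y * v⁻¹ * y⁻¹ * (v * y * v⁻¹ * y⁻¹) = 1 := fun v hv hv2 => by
    rw [← hmul v hv v hv, hv2]; group
  have htr : ∀ v ∈ F, v * v = 1 → y * v * y⁻¹ = v ∨ y * v * y⁻¹ = v * w := fun v hv hv2 => by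
    have hvinv : v⁻¹ = v := inv_eq_of_mul_eq_one_left hv2
    have h1 : y * v * y⁻¹ = v * (v * y * v⁻¹ * y⁻¹) := by
      rw [hvinv, show v * (v * y * v * y⁻¹) = v * v * (y * v * y⁻¹) by group, hv2, one_mul]
    rcases (hinv v hv (hsq v hv hv2)).2 with e | e
    · exact Or.inl (by rw [h1, e, mul_one])
    · exact Or.inr (by rw [h1, e])
  obtain ⟨hidx, y₀, hy₀, hy₀2, -, hy₀m, -⟩ := hF.of_transv hA hyS (hn hyS) hyF
    (by rw [h.y_sq]; exact one_mem F) htr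
  have hy₀w : y₀ * y * y₀⁻¹ * y⁻¹ = w := by
    refine ((hinv y₀ hy₀ (hsq y₀ hy₀ hy₀2)).2).resolve_left fun e => hy₀m ?_
    have h1 : y₀ * y * y₀⁻¹ = y := mul_inv_eq_one.1 e
    rw [mul_inv_eq_iff_eq_mul.1 h1 |>.symm, mul_inv_cancel_right]
  -- some commutator has order four
  obtain ⟨f, hf, hf4, hf2⟩ : ∃ f ∈ F, (f * y * f⁻¹ * y⁻¹) ^ 4 = 1 ∧ (f * y * f⁻¹ * y⁻¹) ^ 2 ≠ 1 := by
    have key : ∀ k : ℕ, ∀ f ∈ F, (f * y * f⁻¹ * y⁻¹) ^ 2 ^ k = 1 → (f * y * f⁻¹ * y⁻¹) ^ 2 ≠ 1 →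
        ∃ f ∈ F, (f * y * f⁻¹ * y⁻¹) ^ 4 = 1 ∧ (f * y * f⁻¹ * y⁻¹) ^ 2 ≠ 1 := by
      intro k
      induction k with
      | zero => intro f _ h1 h2; rw [pow_zero, pow_one] at h1; rw [h1, one_pow] at h2; exact absurd rfl h2
      | succ k ih =>
        intro f hf h1 h2
        by_cases h3 : (f * y * f⁻¹ * y⁻¹) ^ 4 = 1
        · exact ⟨f, hf, h3, h2⟩
        · have h4 := hmul f hf f hf
          rw [← pow_two] at h4
          refine ih (f * f) (mul_mem hf hf) ?_ ?_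
          · rw [← pow_two, h4, ← pow_two, ← pow_mul, ← pow_succ']; exact h1
          · rw [← pow_two, h4, ← pow_two, ← pow_mul]; exact h3
    by_contra hno
    have hall : ∀ f ∈ F, f ∈ normalizer (E : Set G) := fun f hf => by
      refine (hinv f hf ?_).1
      by_contra h2
      obtain ⟨k, hk⟩ := S.2 ⟨_, hF.le (hcF f hf)⟩
      exact hno (key k f hf (congrArg Subtype.val hk) (by rwa [pow_two]))
    refine hs₀n ?_
    rcases hidx s₀ hs₀ (hn hs₀) with h1 | h1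
    · exact hall s₀ h1
    · have h2 := mul_mem (le_normalizer (H := E) h.y_mem) (hall _ h1)
      rwa [mul_inv_cancel_left] at h2
  have hh : f * f * y * (f * f)⁻¹ * y⁻¹ = (f * y * f⁻¹ * y⁻¹) ^ 2 := by rw [hmul f hf f hf, pow_two]
  have hc2w : (f * y * f⁻¹ * y⁻¹) ^ 2 = w := by
    have h1 := hinv (f * f) (mul_mem hf hf) (by rw [hh, ← pow_two, ← pow_mul]; exact hf4)
    rw [hh] at h1
    exact h1.2.resolve_left hf2
  -- `k` and `t` commute with `y`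
  have hkE : f * f * y₀ ∈ E := by
    refine h.cy _ (hF.le (mul_mem (mul_mem hf hf) hy₀)) ?_
    have h1 := hmul (f * f) (mul_mem hf hf) y₀ hy₀
    rw [hh, hc2w, hy₀w, h.w_sq] at h1
    exact mul_inv_eq_iff_eq_mul.1 (mul_inv_eq_one.1 h1)
  have hyf := hconjF f hf
  have htE : f * (y * f * y⁻¹) ∈ E := by
    refine h.cy _ (hF.le (mul_mem hf hyf)) ?_
    refine (mul_inv_eq_iff_eq_mul.1 ?_).symm
    rw [show y * (f * (y * f * y⁻¹)) * y⁻¹ = y * f * y⁻¹ * (y * y * f * (y * y)⁻¹) by group, h.y_sq, one_mul,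
      inv_one, mul_one]
    exact hF.comm _ hyf f hf
  set c := f * y * f⁻¹ * y⁻¹ with hc
  have htc : f * (y * f * y⁻¹) = f * f * c⁻¹ := by
    rw [show c⁻¹ = y * f * y⁻¹ * f⁻¹ by rw [hc]; group, mul_assoc f f,
      (hF.comm f hf _ (mul_mem hyf (inv_mem hf))).eq, inv_mul_cancel_right]
  refine h.no_sq _ (mul_mem htE (inv_mem hkE)) ?_
  rw [htc]
  have hF1 : f * f ∈ F := mul_mem hf hf
  have h5 : ∀ d ∈ F, f * f * d * (f * f * y₀)⁻¹ = d * y₀⁻¹ := fun d hd => by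
    rw [(hF.comm _ hF1 d hd).eq, (hF.comm _ hF1 y₀ hy₀).eq]
    group
  rw [h5 _ (inv_mem (hcF f hf)), (hF.comm _ (inv_mem (hcF f hf)) _ (inv_mem hy₀)).symm.mul_mul_mul_comm, ← mul_inv_rev,
    ← mul_inv_rev y₀, hy₀2, inv_one, mul_one, ← pow_two, hc2w, inv_eq_of_mul_eq_one_left h.w_sq]

end CfsgLib.AbelianInter
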