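import Cfsg.Agent.Lib.Fusion.AlperinGoldschmidt
import Cfsg.Agent.Lib.Goldschmidt.Final
import Cfsg.Agent.Lib.Bender.Suzuki.Consumers
import Cfsg.Agent.Lib.Bender.Suzuki.Classified
import Cfsg.Agent.Lib.Goldschmidt.RankOne.Main
import Mathlib.GroupTheory.Focal
import Mathlib.GroupTheory.SpecificGroups.Dihedral

/-!
# Simple groups with abelian Sylow two-intersections: the setting

Fusion is controlled by the normalizer of `S` and the abelian essential subgroups.  An abelian strongly
closed subgroup, or a proper subgroup holding all the fusion quotients, ends the proof.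
-/

set_option autoImplicit false
set_option linter.unusedSectionVars false

namespace CfsgLib.AbelianInter

open Subgroup
open scoped commutatorElement

universe u

variable {G : Type u} [Group G]

/-- The conclusion. -/
def Goal (S : Sylow 2 G) : Prop :=
  (∃ m : ℕ, 2 ≤ m ∧ Nonempty (↥(S : Subgroup G) ≃* DihedralGroup m)) ∨
    commutator ↥(S : Subgroup G) ≤ Subgroup.center ↥(S : Subgroup G)

/-- Any two distinct Sylow groups meet in an abelian group. -/
def InterAb (G : Type u) [Group G] : Prop :=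
  ∀ S T : Sylow 2 G, S ≠ T → IsMulCommutative ↥((S : Subgroup G) ⊓ (T : Subgroup G))

/-- An abelian self-centralizing subgroup whose normalizer does more than that of `S`. -/
structure Ess (S : Sylow 2 G) (E : Subgroup G) : Prop where
  le : E ≤ (S : Subgroup G)
  comm : ∀ a ∈ E, ∀ b ∈ E, Commute a b
  cent : ∀ s ∈ (S : Subgroup G), (∀ e ∈ E, Commute s e) → s ∈ E
  sylow : ¬ 2 ∣ ((S : Subgroup G) ⊓ normalizer (E : Set G)).relIndex (normalizer (E : Set G))
  moves : ∃ g ∈ normalizer (E : Set G), ∀ c ∈ centralizer (E : Set G),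
    c * g ∉ normalizer ((S : Subgroup G) : Set G)

variable [Finite G]

/-- A nonabelian subgroup of `S` is moved into `S` only by the normalizer of `S`. -/
theorem InterAb.mem_normalizer (hA : InterAb G) {S : Sylow 2 G} {a b g : G} (ha : a ∈ (S : Subgroup G))
    (hb : b ∈ (S : Subgroup G)) (hab : ¬ Commute a b) (hga : g * a * g⁻¹ ∈ (S : Subgroup G))
    (hgb : g * b * g⁻¹ ∈ (S : Subgroup G)) :
    g ∈ normalizer ((S : Subgroup G) : Set G) := by
  by_contra hg
  have hne : S ≠ g⁻¹ • S := fun e => hg (inv_mem_iff.1 (Sylow.smul_eq_iff_mem_normalizer.1 e.symm))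
  have hmem : ∀ x : G, g * x * g⁻¹ ∈ (S : Subgroup G) → x ∈ ((g⁻¹ • S : Sylow 2 G) : Subgroup G) := fun x hx => by
    rw [Sylow.coe_subgroup_smul, mem_pointwise_smul_iff_inv_smul_mem, ← map_inv, MulAut.smul_def,
      MulAut.conj_apply]
    simpa using hx
  exact hab (congrArg Subtype.val
    ((hA S _ hne).is_comm.comm ⟨a, ha, hmem a hga⟩ ⟨b, hb, hmem b hgb⟩))

theorem cent_of_good {S : Sylow 2 G} {E : Subgroup G} (h : CfsgLib.Fusion.Goldschmidt.Good S E) {s : G}
    (hs : s ∈ (S : Subgroup G)) (hc : ∀ e ∈ E, Commute s e) : s ∈ E := by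
  obtain ⟨hES, hC, ⟨-, -, hcomm, -, hsup⟩, -⟩ := h
  set K := CfsgLib.Fusion.Goldschmidt.core' 2 E with hK
  have h1 : s ∈ K ⊔ E := hsup.symm ▸ hC (mem_centralizer_iff.2 fun e he => (hc e he).eq.symm)
  have hn : K ≤ normalizer (E : Set G) := map_subtype_le _
  rw [← SetLike.mem_coe, coe_mul_of_left_le_normalizer_right _ _ hn, Set.mem_mul] at h1
  obtain ⟨c, hcK, e, he, rfl⟩ := h1
  have hcS : c ∈ (S : Subgroup G) := by simpa using mul_mem hs (inv_mem (hES he))
  have h2 : Nat.Coprime (Nat.card K) (Nat.card (S : Subgroup G)) := by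
    obtain ⟨n, hn2⟩ := IsPGroup.iff_card.1 S.2
    rw [hK, CfsgLib.Fusion.Goldschmidt.core', card_map_of_injective (subtype_injective _), hn2]
    exact ((CfsgLib.Coprime.pPrimeCore_coprime Nat.prime_two).symm.pow_left n).symm
  have h3 : c ∈ K ⊓ (S : Subgroup G) := ⟨hcK, hcS⟩
  rw [inf_eq_bot_of_coprime h2, mem_bot] at h3
  simpa [h3] using he

/-- Fusion in `S` is generated by the normalizers of `S` and of the essential subgroups. -/
theorem InterAb.fusion (hA : InterAb G) (S : Sylow 2 G) (R : G → G → Prop)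
    (hrefl : ∀ a ∈ (S : Subgroup G), R a a) (htrans : ∀ a b c : G, R a b → R b c → R a c)
    (hN : ∀ a ∈ (S : Subgroup G), ∀ n ∈ normalizer ((S : Subgroup G) : Set G), R a (n * a * n⁻¹))
    (hE : ∀ E, Ess S E → ∀ a ∈ E, ∀ g ∈ normalizer (E : Set G), R a (g * a * g⁻¹))
    {a : G} (ha : a ∈ (S : Subgroup G)) {g : G} (hga : g * a * g⁻¹ ∈ (S : Subgroup G)) :
    R a (g * a * g⁻¹) := by
  obtain ⟨D, c, k, hAD, hDS, hc, hch, hg⟩ := CfsgLib.Fusion.Goldschmidt.exists_gchain S {a} g⁻¹
    (Set.singleton_subset_iff.2 ha) (by rintro _ ⟨b, rfl, rfl⟩; exact SetLike.mem_coe.2 (by simpa using hga : g⁻¹⁻¹ * b * g⁻¹ ∈ (S : Subgroup G)))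
  have key : ∀ {D : Subgroup G} {k : G}, CfsgLib.Fusion.Goldschmidt.GChain S D k →
      ∀ b ∈ D, b ∈ (S : Subgroup G) → R b (k⁻¹ * b * k) := by
    intro D k h
    induction h with
    | nil D => intro b _ hb; simpa using hrefl b hb
    | @cons D k E x hGood hx hD _ ih =>
      intro b hbD hb
      have hbE := hD hbD
      have hES := hGood.1
      have h1 : x⁻¹ * b * x ∈ E := (mem_normalizer_iff''.1 hx b).1 hbE
      have step : R b (x⁻¹ * b * x) := by
        by_cases hab : ∀ a ∈ E, ∀ b ∈ E, Commute a b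
        · by_cases hm : ∀ g ∈ normalizer (E : Set G), ∃ c ∈ centralizer (E : Set G),
              c * g ∈ normalizer ((S : Subgroup G) : Set G)
          · obtain ⟨c, hc, hn⟩ := hm _ (inv_mem hx)
            have h2 := hN b hb _ hn
            rwa [mul_inv_rev, inv_inv, show c * x⁻¹ * b * (x * c⁻¹) = c * (x⁻¹ * b * x) * c⁻¹ by group,
              ← mem_centralizer_iff.1 hc _ h1, mul_inv_cancel_right] at h2
          · push Not at hm
            have hess : Ess S E := ⟨hES, hab, fun s hs hc => cent_of_good hGood hs hc, hGood.2.2.2, hm⟩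
            simpa using hE E hess b hbE x⁻¹ (inv_mem hx)
        · push Not at hab
          obtain ⟨p, hp, q, hq, hpq⟩ := hab
          have hn := inv_mem_iff.2 hx
          simpa using hN b hb x⁻¹ (hA.mem_normalizer (hES hp) (hES hq) hpq
            (hES ((mem_normalizer_iff.1 hn p).1 hp)) (hES ((mem_normalizer_iff.1 hn q).1 hq)))
      refine htrans _ _ _ step ?_
      rw [mul_inv_rev, show k⁻¹ * x⁻¹ * b * (x * k) = k⁻¹ * (x⁻¹ * b * x) * k by group]
      exact ih _ (CfsgLib.Fusion.mem_conjBy.2 (by simpa [mul_assoc] using hbD)) (hES h1)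
  have h1 := key hch a (hAD rfl) ha
  have hca : c⁻¹ * a * c = a := by rw [mul_assoc, mem_centralizer_iff.1 hc a rfl, inv_mul_cancel_left]
  rwa [show g = k⁻¹ * c⁻¹ by rw [← mul_inv_rev, ← hg, inv_inv],
    show k⁻¹ * c⁻¹ * a * (k⁻¹ * c⁻¹)⁻¹ = k⁻¹ * (c⁻¹ * a * c) * k by group, hca]

variable [IsSimpleGroup G]

/-- A nontrivial strongly closed abelian subgroup ends the proof. -/
theorem goal_of_closed (S : Sylow 2 G) {A : Subgroup G} (hA1 : A ≠ ⊥) (hcomm : ∀ a ∈ A, ∀ b ∈ A, Commute a b)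
    (hcl : Cfsg.IsStronglyClosed A (S : Subgroup G)) : Goal S := by
  right
  rw [commutator_def, commutator_le]
  intro x _ y _
  rw [mem_center_iff]
  intro z
  by_cases hab : IsMulCommutative (S : Subgroup G)
  · exact (hab.is_comm.comm z _)
  rcases CfsgLib.Gold.main G S A hA1 ⟨⟨fun a b => Subtype.ext (hcomm a.1 a.2 b.1 b.2)⟩⟩ hcl with h | ⟨H, hH⟩
  · exact absurd h hab
  have hF := CfsgLib.Gold.Phi.rankOneFacts G inferInstance
    (CfsgLib.Bender.Suzuki.isoFamilies_of_se CfsgLib.Bender.Suzuki.classified hH) S hab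
  have h1 : (x : G) * y * (x : G)⁻¹ * (y : G)⁻¹ ∈ ⁅(S : Subgroup G), (S : Subgroup G)⁆ := by
    rw [← commutatorElement_def]
    exact commutator_mem_commutator x.2 y.2
  exact Subtype.ext (hF.central _ ((hF.derived _).1 h1).1 ((hF.derived _).1 h1).2 z z.2).eq.symm

/-- A proper subgroup of `S` cannot hold all the fusion quotients. -/
theorem false_of_focal (hG : ¬ IsMulCommutative G) (S : Sylow 2 G) {M : Subgroup G}
    (hlt : ¬ (S : Subgroup G) ≤ M)
    (hM : ∀ a ∈ (S : Subgroup G), ∀ g : G, g * a * g⁻¹ ∈ (S : Subgroup G) → a⁻¹ * (g * a * g⁻¹) ∈ M) :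
    False := by
  have h1 : (S : Subgroup G).focalSubgroup ≤ M := by
    rw [focalSubgroup_def, closure_le]
    rintro _ ⟨hmem, x, hx, u, rfl⟩
    rw [commutatorElement_def] at hmem ⊢
    have h2 : u * x⁻¹ * u⁻¹ ∈ (S : Subgroup G) := by
      simpa [mul_assoc] using mul_mem (inv_mem hx) hmem
    have h3 := hM x⁻¹ (inv_mem hx) u h2
    simpa [mul_assoc] using h3
  refine hlt (le_trans ?_ h1)
  rw [← ker_transferFocal_inf_eq_focalSubgroup S]
  refine le_inf (fun x _ => ?_) le_rfl
  rcases (inferInstance : ((S : Subgroup G).transferFocal.ker).Normal).eq_bot_or_eq_top with h | h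
  · exact absurd ⟨⟨fun a b => (MonoidHom.ker_eq_bot_iff _).1 h (by
      rw [map_mul, map_mul]
      exact (inferInstance : IsMulCommutative
        (↥(S : Subgroup G) ⧸ (S : Subgroup G).focalSubgroupOf)).is_comm.comm _ _)⟩⟩ hG
  · exact h ▸ mem_top x

end CfsgLib.AbelianInter
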