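import Cfsg.Agent.Lib.Invol.Basic
import Cfsg.Agent.Lib.Bender.Full.Main
import Mathlib.Algebra.Group.Action.Basic

/-!
# A group acting faithfully on an abelian two-group with trivially meeting Sylow two-subgroups

The automizer of an abelian essential subgroup, when the intersections of Sylow groups are abelian.
-/

set_option autoImplicit false
set_option linter.unusedSectionVars false

namespace CfsgLib.AbelianInter

open Subgroup CfsgLib.Invol

universe u

/-- `X` acts faithfully on the abelian 2-group `E`, its Sylow 2-subgroups meet trivially, and there is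
more than one of them. -/
structure Act (E : Type u) (X : Type u) [CommGroup E] [Group X] [MulDistribMulAction X E] : Prop where
  hE : IsPGroup 2 E
  faith : ∀ x : X, (∀ v : E, x • v = v) → x = 1
  ti : ∀ P Q : Sylow 2 X, ∀ a : X, a ∈ P → a ∈ Q → a ≠ 1 → P = Q
  many : ∀ P : Sylow 2 X, ∃ Q : Sylow 2 X, Q ≠ P

theorem mem_sylow_smul {X : Type*} [Group X] {p : ℕ} {g x : X} {P : Sylow p X} :
    x ∈ g • P ↔ g⁻¹ * x * g ∈ P := by
  show x ∈ ((g • P : Sylow p X) : Subgroup X) ↔ _
  rw [Sylow.coe_subgroup_smul, mem_pointwise_smul_iff_inv_smul_mem, ← map_inv, MulAut.smul_def,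
    MulAut.conj_apply, inv_inv]
  rfl

theorem conj_mem_sylow_smul {X : Type*} [Group X] {p : ℕ} {g x : X} {P : Sylow p X} (hx : x ∈ P) :
    g * x * g⁻¹ ∈ g • P := by
  rw [mem_sylow_smul]
  simpa [mul_assoc] using hx

theorem mem_of_sq_mem {X : Type*} [Group X] {d : X} {H : Subgroup X} (hd : Odd (orderOf d))
    (h : d * d ∈ H) : d ∈ H := by
  obtain ⟨k, hk⟩ := hd
  have h1 : (d * d) ^ (k + 1) = d := by
    rw [← pow_two, ← pow_mul, show 2 * (k + 1) = orderOf d + 1 by omega, pow_succ, pow_orderOf_eq_one,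
      one_mul]
  exact h1 ▸ pow_mem h (k + 1)

variable {E : Type u} [CommGroup E] {X : Type u} [Group X] [Finite X] [MulDistribMulAction X E]

theorem smul_smul_invol {a : X} (ha : orderOf a = 2) (v : E) : a • a • v = v := by
  rw [← mul_smul, invol_mul_self ha, one_smul]

theorem smul_div_invol {a : X} (ha : orderOf a = 2) (v : E) : a • (a • v / v) = (a • v / v)⁻¹ := by
  rw [smul_div', smul_smul_invol ha, inv_div]

namespace Act

variable (h : Act E X)
include h

/-- An element normalising a Sylow group, in another one, is trivial. -/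
theorem eq_one_of_normalizes {P Q : Sylow 2 X} (hne : P ≠ Q) {s : X} (hs : s ∈ P) (hn : s • Q = Q) :
    s = 1 := by
  by_contra h1
  have h2 : s ∈ (P : Subgroup X) ⊓ normalizer ((Q : Subgroup X) : Set X) :=
    ⟨hs, Sylow.smul_eq_iff_mem_normalizer.1 hn⟩
  have h3 := IsPGroup.inf_normalizer_sylow P.2 Q
  erw [h3] at h2
  exact hne (h.ti P Q s hs h2.2 h1)

theorem mem_normalizer_of_conj {P : Sylow 2 X} {g a : X} (ha : a ∈ P) (ha1 : a ≠ 1)
    (hg : g * a * g⁻¹ ∈ P) : g • P = P :=
  h.ti _ _ _ (conj_mem_sylow_smul ha) hg (fun e => ha1 (conj_eq_one_iff.1 e))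

/-- An involution commuting with one of `P` is in `P`. -/
theorem mem_of_commute {P : Sylow 2 X} {a z : X} (ha : orderOf a = 2) (haP : a ∈ P) (hz : orderOf z = 2)
    (hc : Commute a z) : z ∈ P := by
  by_cases hzn : z = a
  · exact hzn ▸ haP
  have h1 : orderOf (a * z) = 2 ^ 1 := by
    rw [pow_one, invol_iff]
    refine ⟨?_, fun e => hzn ((invol_inv ha).symm.trans (inv_eq_of_mul_eq_one_right e)).symm⟩
    rw [mul_assoc, ← mul_assoc z, ← hc.eq, mul_assoc a, invol_mul_self hz, mul_one, invol_mul_self ha]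
  obtain ⟨R, hR⟩ := (two_group_of_pair ha hz h1).exists_le_sylow
  have h2 : R = P := h.ti R P a (hR (subset_closure (by simp))) haP (invol_ne_one ha)
  exact h2 ▸ hR (subset_closure (by simp))

/-- Involutions in distinct Sylow groups have product of odd order. -/
theorem odd_mul {P Q : Sylow 2 X} (hne : P ≠ Q) {a b : X} (ha : orderOf a = 2) (haP : a ∈ P)
    (hb : orderOf b = 2) (hbQ : b ∈ Q) : Odd (orderOf (a * b)) := by
  rw [← Nat.not_even_iff_odd]
  intro hev
  have hz := orderOf_pow_half hev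
  have hca := commute_pow_half (invol_conj_mul ha hb) hev
  have hcb := commute_pow_half (invol_conj_mul' ha hb) hev
  exact hne (h.ti P Q _ (h.mem_of_commute ha haP hz hca.symm) (h.mem_of_commute hb hbQ hz hcb.symm)
    (invol_ne_one hz))

theorem exists_invol (hev : Even (Nat.card X)) (P : Sylow 2 X) : ∃ a ∈ P, orderOf a = 2 := by
  obtain ⟨t, -, ht⟩ := exists_invol_mem (H := (⊤ : Subgroup X)) (by rwa [card_top])
  obtain ⟨g, hg⟩ := exists_conj_le_sylow (IsPGroup.of_card (n := 1)
    (by rw [Nat.card_zpowers, ht, pow_one] : Nat.card (zpowers t) = 2 ^ 1)) P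
  exact ⟨g * t * g⁻¹, hg t (mem_zpowers t), invol_conj ht g⟩

theorem mem_iff {P : Sylow 2 X} {a : X} (ha : orderOf a = 2) (haP : a ∈ P) {Q : Sylow 2 X} :
    a ∈ Q ↔ Q = P :=
  ⟨fun hQ => h.ti Q P a hQ haP (invol_ne_one ha), fun e => e ▸ haP⟩

theorem isConj_of_invol {a b : X} (ha : orderOf a = 2) (hb : orderOf b = 2) : IsConj a b := by
  obtain ⟨P, hP⟩ := (IsPGroup.of_card (n := 1)
    (by rw [Nat.card_zpowers, ha, pow_one] : Nat.card (zpowers a) = 2 ^ 1)).exists_le_sylow
  obtain ⟨R, hR⟩ := (IsPGroup.of_card (n := 1)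
    (by rw [Nat.card_zpowers, hb, pow_one] : Nat.card (zpowers b) = 2 ^ 1)).exists_le_sylow
  have key : ∀ {P R : Sylow 2 X} {a b : X}, P ≠ R → orderOf a = 2 → a ∈ P → orderOf b = 2 → b ∈ R →
      IsConj a b := fun hne ha haP hb hbR => isConj_of_odd ha hb (h.odd_mul hne ha haP hb hbR)
  by_cases hPR : P = R
  · obtain ⟨Q, hQ⟩ := h.many P
    obtain ⟨g, hg⟩ := MulAction.exists_smul_eq X P Q
    have hcQ : g * a * g⁻¹ ∈ Q := hg ▸ conj_mem_sylow_smul (hP (mem_zpowers a))
    exact (key (Ne.symm hQ) ha (hP (mem_zpowers a)) (invol_conj ha g) hcQ).trans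
      (key (by rwa [← hPR]) (invol_conj ha g) hcQ hb (hR (mem_zpowers b)))
  · exact key hPR ha (hP (mem_zpowers a)) hb (hR (mem_zpowers b))

/-- The normalizer of `P` is transitive on the involutions of `P`. -/
theorem exists_normalizer_conj {P : Sylow 2 X} {a b : X} (ha : orderOf a = 2) (haP : a ∈ P)
    (hb : orderOf b = 2) (hbP : b ∈ P) : ∃ g : X, g • P = P ∧ g * a * g⁻¹ = b := by
  obtain ⟨g, hg⟩ := isConj_iff.1 (h.isConj_of_invol ha hb)
  exact ⟨g, h.mem_normalizer_of_conj haP (invol_ne_one ha) (hg ▸ hbP), hg⟩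

/-- The involutions are central in their Sylow groups. -/
theorem commute_invol {P : Sylow 2 X} {a : X} (ha : orderOf a = 2) (haP : a ∈ P) {s : X} (hs : s ∈ P) :
    Commute a s := by
  haveI : Nontrivial (P : Subgroup X) :=
    ⟨⟨a, haP⟩, 1, fun e => invol_ne_one ha (congrArg Subtype.val e)⟩
  haveI := P.2.center_nontrivial
  have hZ : IsPGroup 2 (center (P : Subgroup X)) := IsPGroup.to_subgroup P.2 _
  obtain ⟨z, hz⟩ := exists_prime_orderOf_dvd_card' (G := center (P : Subgroup X)) 2 (by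
    obtain ⟨n, hn⟩ := IsPGroup.iff_card.1 hZ
    have hn0 : 0 < n := by
      rcases Nat.eq_zero_or_pos n with rfl | h0
      · rw [pow_zero] at hn; exact absurd hn Finite.one_lt_card.ne'
      · exact h0
    exact hn ▸ dvd_pow_self 2 hn0.ne')
  have hzo : orderOf ((z : (P : Subgroup X)) : X) = 2 := by
    rw [orderOf_coe, orderOf_coe, hz]
  obtain ⟨g, hgP, hg⟩ := h.exists_normalizer_conj hzo z.1.2 ha haP
  have hsz : g⁻¹ * s * g ∈ P := mem_sylow_smul.1 (hgP.symm ▸ hs)
  have h1 : Commute ((z : (P : Subgroup X)) : X) (g⁻¹ * s * g) :=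
    (congrArg Subtype.val (mem_center_iff.1 z.2 ⟨_, hsz⟩)).symm
  rw [← hg]
  have h2 := h1.map (MulAut.conj g).toMonoidHom
  simpa [mul_assoc] using h2

/-- An involution exchanging two Sylow groups and given involutions in them. -/
theorem exists_swap {P Q : Sylow 2 X} (hne : P ≠ Q) {a b : X} (ha : orderOf a = 2) (haP : a ∈ P)
    (hb : orderOf b = 2) (hbQ : b ∈ Q) :
    ∃ t : X, orderOf t = 2 ∧ t * a * t⁻¹ = b ∧ t • P = Q ∧ t • Q = P := by
  obtain ⟨d, hd, hdab⟩ := exists_conj_eq_of_odd ha hb (h.odd_mul hne ha haP hb hbQ)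
  obtain ⟨k, rfl⟩ := mem_zpowers_iff.1 hd
  have hinv := conj_zpow_of_inverts (invol_conj_mul ha hb) k
  rw [zpow_neg] at hinv
  generalize (a * b) ^ k = d at hdab hinv
  have hai : a⁻¹ = a := invol_inv ha
  have htab : d * a * a * (d * a)⁻¹ = b := by
    rw [← hdab]; group
  have ht2 : d * a * (d * a) = 1 := by
    have : (d * a) * (d * a) = d * (a * d * a⁻¹) * (a * a) := by group
    rw [this, hinv, invol_mul_self ha, mul_inv_cancel, one_mul]
  have htP : (d * a) • P = Q := h.ti _ _ b (htab ▸ conj_mem_sylow_smul haP) hbQ (invol_ne_one hb)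
  refine ⟨d * a, invol_iff.2 ⟨ht2, fun e => hne ?_⟩, htab, htP, ?_⟩
  · rw [← htP, e, one_smul]
  · rw [← htP, smul_smul, ht2, one_smul]

/-- If `b` fixes `v` and `a • v / v`, for involutions in distinct Sylow groups, then `a` fixes `v`. -/
theorem smul_eq_self {P Q : Sylow 2 X} (hne : P ≠ Q) {a b : X} (ha : orderOf a = 2) (haP : a ∈ P)
    (hb : orderOf b = 2) (hbQ : b ∈ Q) {v : E} (hv : b • v = v)
    (hc : b • (a • v / v) = a • v / v) : a • v = v := by
  set c := a • v / v with hcd
  have e1 : (b * a) • v = c * v := by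
    rw [mul_smul, ← div_mul_cancel (a • v) v, smul_mul', hc, hv]
  have e2 : (b * a) • c = c⁻¹ := by rw [mul_smul, hcd, smul_div_invol ha, smul_inv', hc]
  have h2 : b * a * (b * a) ∈ MulAction.stabilizer X v := by
    rw [MulAction.mem_stabilizer_iff, mul_smul, e1, smul_mul', e1, e2, inv_mul_cancel_left]
  have h3 := mem_of_sq_mem (h.odd_mul hne.symm hb hbQ ha haP) h2
  rw [MulAction.mem_stabilizer_iff, e1] at h3
  exact div_eq_one.1 (mul_eq_right.1 h3)

/-- An element of odd order fixing every `v` with `v * v = 1` is trivial. -/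
theorem eq_one_of_fix_omega {x : X} (hx : Odd (orderOf x)) (hfix : ∀ v : E, v * v = 1 → x • v = v) :
    x = 1 := by
  refine h.faith x fun v => ?_
  obtain ⟨k, hk⟩ := h.hE v
  induction k generalizing v with
  | zero => rw [pow_zero, pow_one] at hk; rw [hk, smul_one]
  | succ k ih =>
    have h1 : x • (v * v) = v * v := ih (v * v) (by rw [← pow_two, ← pow_mul, ← pow_succ']; exact hk)
    set c := x • v / v with hc
    have hxv : x • v = c * v := (div_mul_cancel _ _).symm
    rw [smul_mul', hxv, mul_mul_mul_comm, mul_eq_right] at h1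
    have hfc : x • c = c := hfix c h1
    have hpow : ∀ n : ℕ, x ^ n • v = c ^ n * v := by
      intro n
      induction n with
      | zero => simp
      | succ n ihn => rw [pow_succ', mul_smul, ihn, smul_mul', smul_pow', hfc, hxv, pow_succ, mul_assoc]
    have h2 := hpow (orderOf x)
    rw [pow_orderOf_eq_one, one_smul, eq_comm, mul_eq_right] at h2
    obtain ⟨m, hm⟩ := hx
    rw [hm, pow_succ, pow_mul, pow_two, h1, one_pow, one_mul] at h2
    rw [hxv, h2, one_mul]

theorem exists_moved {a : X} (ha : orderOf a = 2) : ∃ v : E, v * v = 1 ∧ a • v ≠ v := by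
  by_contra hall
  push Not at hall
  obtain ⟨P, hP⟩ := (IsPGroup.of_card (n := 1)
    (by rw [Nat.card_zpowers, ha, pow_one] : Nat.card (zpowers a) = 2 ^ 1)).exists_le_sylow
  obtain ⟨Q, hQ⟩ := h.many P
  obtain ⟨g, hg⟩ := MulAction.exists_smul_eq X P Q
  have haP := hP (mem_zpowers a)
  have hcQ : g * a * g⁻¹ ∈ Q := hg ▸ conj_mem_sylow_smul haP
  have hodd := h.odd_mul (Ne.symm hQ) ha haP (invol_conj ha g) hcQ
  have h1 := h.eq_one_of_fix_omega hodd fun v hv => by
    have hgv : g⁻¹ • v * (g⁻¹ • v) = 1 := by rw [← smul_mul', hv, smul_one]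
    rw [mul_smul, mul_smul, mul_smul, hall _ hgv, smul_inv_smul, hall v hv]
  refine hQ (h.ti Q P a ?_ haP (invol_ne_one ha))
  rwa [← inv_eq_of_mul_eq_one_right h1, invol_inv ha] at hcQ

/-- A subgroup holding a whole Sylow group and an element of another holds that one too. -/
theorem le_of_mem {H : Subgroup X} {P Q : Sylow 2 X} (hQ : (Q : Subgroup X) ≤ H) {a : X} (ha : a ∈ P)
    (haH : a ∈ H) (ha1 : a ≠ 1) : (P : Subgroup X) ≤ H := by
  obtain ⟨S, hS⟩ := (P.2.to_le (zpowers_le.2 ha)).comap_subtype (K := H) |>.exists_le_sylow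
  obtain ⟨R, hR⟩ := (S.2.map H.subtype).exists_le_sylow
  have haS : a ∈ (S : Subgroup H).map H.subtype :=
    ⟨⟨a, haH⟩, hS (mem_zpowers a : a ∈ zpowers a), rfl⟩
  have hRP : R = P := h.ti R P a (hR haS) ha ha1
  have hcard : Nat.card (R : Subgroup X) ≤ Nat.card ((S : Subgroup H).map H.subtype) := by
    obtain ⟨T, hT⟩ := (Q.2.comap_subtype (K := H)).exists_le_sylow
    rw [card_map_of_injective H.subtype_injective, Nat.card_congr (R.equiv Q).toEquiv,
      ← Nat.card_congr (subgroupOfEquivOfLe hQ).toEquiv, Nat.card_congr (S.equiv T).toEquiv]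
    exact card_le_of_le hT
  rw [← hRP, ← Subgroup.eq_of_le_of_card_ge hR hcard]
  exact map_subtype_le _

end Act

end CfsgLib.AbelianInter
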