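import Cfsg.Agent.Lib.Invol.AbelianInter.Local

/-!
# A nonnormal essential subgroup and its twin
-/

set_option autoImplicit false
set_option linter.unusedSectionVars false

namespace CfsgLib.AbelianInter

open Subgroup

universe u

variable {G : Type u} [Group G] [Finite G]

/-- `x` in `S` moves `E` but normalizes `S ⊓ N(E)`. -/
structure Twin (S : Sylow 2 G) (E : Subgroup G) (x : G) : Prop where
  ess : Ess S E
  xS : x ∈ (S : Subgroup G)
  xn : x ∉ normalizer (E : Set G)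
  xN : x ∈ normalizer (((S : Subgroup G) ⊓ normalizer (E : Set G) : Subgroup G) : Set G)

/-- The twin. -/
abbrev twin (E : Subgroup G) (x : G) : Subgroup G := E.map (MulAut.conj x).toMonoidHom

variable {S : Sylow 2 G} {E : Subgroup G} {x : G}

theorem exists_twin (hE : Ess S E) (hnn : ∃ s ∈ (S : Subgroup G), s ∉ normalizer (E : Set G)) :
    ∃ x, Twin S E x := by
  obtain ⟨s, hs, hsn⟩ := hnn
  obtain ⟨x, hx, hxn, hxN⟩ := exists_normalizer_notMem S (H := (S : Subgroup G) ⊓ normalizer (E : Set G))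
    inf_le_left le_rfl (fun hle => hsn (hle hs).2)
  exact ⟨x, hE, hx, fun h => hxN ⟨hx, h⟩, hxn⟩

namespace Twin

variable (h : Twin S E x)
include h

theorem mem_normalizer_S : x ∈ normalizer ((S : Subgroup G) : Set G) := le_normalizer h.xS

theorem ess_twin : Ess S (twin E x) := h.ess.conj h.mem_normalizer_S

theorem inf_normalizer : (S : Subgroup G) ⊓ normalizer ((twin E x : Subgroup G) : Set G) =
    (S : Subgroup G) ⊓ normalizer (E : Set G) := by
  ext s
  rw [mem_inf, mem_normalizer_map_conj, ← mem_sylow_conj_iff h.mem_normalizer_S, ← mem_inf,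
    ← mem_normalizer_iff''.1 h.xN]

theorem twin_le : twin E x ≤ (S : Subgroup G) ⊓ normalizer (E : Set G) :=
  h.inf_normalizer ▸ h.ess_twin.le_inf

theorem card_twin : Nat.card (twin E x) = Nat.card E :=
  card_map_of_injective (MulAut.conj x).injective

theorem not_le : ¬ twin E x ≤ E := by
  intro hle
  have heq := Subgroup.eq_of_le_of_card_ge hle h.card_twin.ge
  exact h.xn (CfsgLib.Fusion.conjBy_eq_iff.1 heq)

theorem not_le' : ¬ E ≤ twin E x := fun hle =>
  h.not_le (Subgroup.eq_of_le_of_card_ge hle h.card_twin.le).ge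

theorem relIndex_eq : (E ⊓ twin E x).relIndex E = (E ⊓ twin E x).relIndex (twin E x) := by
  have h1 := relIndex_mul_relIndex ⊥ (E ⊓ twin E x) E bot_le inf_le_left
  have h2 := relIndex_mul_relIndex ⊥ (E ⊓ twin E x) (twin E x) bot_le inf_le_right
  rw [relIndex_bot_left, relIndex_bot_left] at h1 h2
  rw [h.card_twin, ← h1] at h2
  exact (Nat.eq_of_mul_eq_mul_left Nat.card_pos h2).symm

theorem pair (hA : InterAb G) : ∃ D, GPair S E (twin E x) D :=
  gpair hA h.ess h.ess_twin (h.twin_le.trans inf_le_right)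
    (h.inf_normalizer.ge.trans inf_le_right) h.not_le h.relIndex_eq.le

theorem pair' (hA : InterAb G) : ∃ D, GPair S (twin E x) E D :=
  gpair hA h.ess_twin h.ess
    (h.ess.le_inf.trans (h.inf_normalizer.ge.trans inf_le_right))
    (h.inf_normalizer.le.trans inf_le_right) h.not_le' (by rw [inf_comm]; exact h.relIndex_eq.ge)

variable (hA : InterAb G)
include hA

theorem exists_decomp {n : G} (hn : n ∈ (S : Subgroup G) ⊓ normalizer (E : Set G)) :
    ∃ f ∈ twin E x, ∃ e ∈ E, n = f * e := by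
  obtain ⟨D, hD⟩ := h.pair hA
  exact hD.top n hn.1 hn.2

theorem central {z n : G} (hz : z ∈ E ⊓ twin E x) (hn : n ∈ (S : Subgroup G) ⊓ normalizer (E : Set G)) :
    Commute z n := by
  obtain ⟨f, hf, e, he, rfl⟩ := h.exists_decomp hA hn
  exact (h.ess_twin.comm z hz.2 f hf).mul_right (h.ess.comm z hz.1 e he)

theorem conj_mem {g z : G} (hg : g ∈ (S : Subgroup G))
    (hgN : g ∈ normalizer (((S : Subgroup G) ⊓ normalizer (E : Set G) : Subgroup G) : Set G))
    (hz : z ∈ E ⊓ twin E x) : g * z * g⁻¹ ∈ E ⊓ twin E x := by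
  have hS : g * z * g⁻¹ ∈ (S : Subgroup G) := mul_mem (mul_mem hg (h.ess.le hz.1)) (inv_mem hg)
  have hc : ∀ n ∈ (S : Subgroup G) ⊓ normalizer (E : Set G), Commute (g * z * g⁻¹) n := fun n hn => by
    have h1 : g⁻¹ * n * g ∈ (S : Subgroup G) ⊓ normalizer (E : Set G) := (mem_normalizer_iff''.1 hgN n).1 hn
    have h2 := (h.central hA hz h1).map (MulAut.conj g).toMonoidHom
    simpa [mul_assoc] using h2
  exact ⟨h.ess.cent _ hS fun e he => hc e (h.ess.le_inf he),
    h.ess_twin.cent _ hS fun e he => hc e (h.twin_le he)⟩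

theorem comm_mem {m n : G} (hm : m ∈ (S : Subgroup G) ⊓ normalizer (E : Set G))
    (hn : n ∈ (S : Subgroup G) ⊓ normalizer (E : Set G)) : m * n * m⁻¹ * n⁻¹ ∈ E ⊓ twin E x := by
  obtain ⟨D, hD⟩ := h.pair hA
  obtain ⟨D', hD'⟩ := h.pair' hA
  obtain ⟨f, hf, e, he, rfl⟩ := h.exists_decomp hA hn
  have hm' := h.inf_normalizer.ge hm
  have h1 : m * e * m⁻¹ * e⁻¹ ∈ E ⊓ twin E x :=
    mem_inf.2 ⟨mul_mem ((mem_normalizer_iff.1 hm.2 e).1 he) (inv_mem he), hD.quad e he m hm.1 hm.2⟩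
  have h2 : m * f * m⁻¹ * f⁻¹ ∈ E ⊓ twin E x :=
    mem_inf.2 ⟨hD'.quad f hf m hm.1 hm'.2, mul_mem ((mem_normalizer_iff.1 hm'.2 f).1 hf) (inv_mem hf)⟩
  have h3 := h.central hA h1 (h.twin_le hf)
  have h4 : m * (f * e) * m⁻¹ * (f * e)⁻¹ = (m * f * m⁻¹ * f⁻¹) * (m * e * m⁻¹ * e⁻¹) := by
    rw [show m * (f * e) * m⁻¹ * (f * e)⁻¹
      = m * f * m⁻¹ * f⁻¹ * (f * (m * e * m⁻¹ * e⁻¹) * f⁻¹) by group, ← h3.eq, mul_inv_cancel_right]
  exact h4 ▸ mul_mem h2 h1

/-- Squares of the elements of `E` and of its twin are squares of elements of `D`. -/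
theorem sq_mem {D : Subgroup G} (hD : GPair S E (twin E x) D) {n : G} (hn : n ∈ E ∨ n ∈ twin E x) :
    ∃ d ∈ D, n * n = d * d := by
  rcases hn with hn | hn
  · exact hD.sq n hn
  · obtain ⟨d, hd, he⟩ := hD.sq _ (mem_map_conj.1 hn)
    have h1 := h.conj_mem hA h.xS h.xN (hD.le hd)
    obtain ⟨d', hd', he'⟩ := hD.sq _ h1.1
    refine ⟨d', hd', he'.symm ▸ ?_⟩
    calc n * n = x * (x⁻¹ * n * x * (x⁻¹ * n * x)) * x⁻¹ := by group
      _ = x * d * x⁻¹ * (x * d * x⁻¹) := by rw [he]; group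

/-- The involutions of `S ⊓ N(E)` lie in `E` or in its twin. -/
theorem invol_mem {n : G} (hn : n ∈ (S : Subgroup G) ⊓ normalizer (E : Set G)) (hn2 : n * n = 1) :
    n ∈ E ∨ n ∈ twin E x := by
  obtain ⟨D, hD⟩ := h.pair hA
  obtain ⟨f, hf, e, he, rfl⟩ := h.exists_decomp hA hn
  by_cases hf' : f ∈ E
  · exact Or.inl (mul_mem hf' he)
  by_cases he' : e ∈ twin E x
  · exact Or.inr (mul_mem hf he')
  exfalso
  obtain ⟨d₁, hd₁, h₁⟩ := h.sq_mem hA hD (Or.inr hf)
  obtain ⟨d₂, hd₂, h₂⟩ := h.sq_mem hA hD (Or.inl he)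
  refine hD.comm_notMem e he he' f⁻¹ (inv_mem hf) (fun hm => hf' (inv_mem_iff.1 hm)) ?_
  have h3 : f⁻¹ * e * f⁻¹⁻¹ * e⁻¹ = (f * f)⁻¹ * (f * e * (f * e)) * (e * e)⁻¹ := by group
  rw [h3, hn2, mul_one, h₁, h₂]
  exact mul_mem (inv_mem (mul_mem hd₁ hd₁)) (inv_mem (mul_mem hd₂ hd₂))

/-- A conjugate of `E` by `N(S)` inside `S ⊓ N(E)` is `E` or its twin. -/
theorem conj_eq {g : G} (hg : g ∈ normalizer ((S : Subgroup G) : Set G))
    (hle : twin E g ≤ (S : Subgroup G) ⊓ normalizer (E : Set G)) :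
    twin E g = E ∨ twin E g = twin E x := by
  obtain ⟨D, hD⟩ := h.pair hA
  obtain ⟨D', hD'⟩ := h.pair' hA
  obtain ⟨y, hy, hy2, hyc⟩ := hD.witness
  have hess := h.ess.conj hg
  set y' := g * y * g⁻¹ with hy'
  have hy'F : y' ∈ twin E g := conj_mem_map_conj hy
  have hcard : Nat.card (twin E g) = Nat.card E := card_map_of_injective (MulAut.conj g).injective
  have hy'N := hle hy'F
  have hy'2 : y' * y' = 1 := by rw [hy', show g * y * g⁻¹ * (g * y * g⁻¹) = g * (y * y) * g⁻¹ by group,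
    hy2, mul_one, mul_inv_cancel]
  have hnot : y' ∉ E ⊓ twin E x := fun hm => by
    have h1 : (S : Subgroup G) ⊓ normalizer (E : Set G) ≤ twin E g := fun n hn => by
      refine mem_map_conj.2 (hyc _ ((mem_sylow_conj_iff hg).2 hn.1) ?_)
      have h2 := ((h.central hA hm hn).symm).map (MulAut.conj g⁻¹).toMonoidHom
      simpa [hy', mul_assoc] using h2
    exact h.not_le ((h.twin_le.trans h1).trans
      (Subgroup.eq_of_le_of_card_ge (h.ess.le_inf.trans h1) hcard.le).ge)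
  rcases h.invol_mem hA hy'N hy'2 with hyE | hyT
  · refine Or.inl (Subgroup.eq_of_le_of_card_ge (fun f hf => ?_) hcard.ge)
    by_contra hfE
    obtain ⟨a, ha, e, he, rfl⟩ := h.exists_decomp hA (hle hf)
    refine hD.comm_notMem y' hyE (fun hm => hnot ⟨hyE, hm⟩) a ha (fun hm => hfE (mul_mem hm he)) ?_
    have h1 : Commute a y' := by
      simpa using (hess.comm _ hf y' hy'F).mul_left ((h.ess.comm e he y' hyE).inv_left)
    rw [h1.eq, mul_inv_cancel_right, mul_inv_cancel]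
    exact one_mem D
  · refine Or.inr (Subgroup.eq_of_le_of_card_ge (fun f hf => ?_) (by rw [hcard, h.card_twin]))
    have hfN := h.inf_normalizer.ge (hle hf)
    obtain ⟨a, ha, e, he, rfl⟩ := hD'.top f hfN.1 hfN.2
    by_contra hfT
    refine hD'.comm_notMem y' hyT (fun hm => hnot ⟨hm, hyT⟩) a ha (fun hm => hfT (mul_mem hm he)) ?_
    have h1 : Commute a y' := by
      simpa using (hess.comm _ hf y' hy'F).mul_left ((h.ess_twin.comm e he y' hyT).inv_left)
    rw [h1.eq, mul_inv_cancel_right, mul_inv_cancel]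
    exact one_mem D'

/-- `S ⊓ N(E)` has index at most two in its normalizer in `S`. -/
theorem mem_or_mem {s : G} (hs : s ∈ (S : Subgroup G))
    (hsN : s ∈ normalizer (((S : Subgroup G) ⊓ normalizer (E : Set G) : Subgroup G) : Set G)) :
    s ∈ (S : Subgroup G) ⊓ normalizer (E : Set G) ∨ x⁻¹ * s ∈ (S : Subgroup G) ⊓ normalizer (E : Set G) := by
  have hle : twin E s ≤ (S : Subgroup G) ⊓ normalizer (E : Set G) := by
    rintro _ ⟨e, he, rfl⟩
    exact (mem_normalizer_iff.1 hsN e).1 (h.ess.le_inf he)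
  rcases h.conj_eq hA (le_normalizer hs) hle with e | e
  · exact Or.inl ⟨hs, CfsgLib.Fusion.conjBy_eq_iff.1 e⟩
  · refine Or.inr (mem_inf.2 ⟨mul_mem (inv_mem h.xS) hs, mem_normalizer_iff.2 fun z => ?_⟩)
    have h1 : z ∈ E ↔ s * z * s⁻¹ ∈ twin E x := by
      rw [← e, mem_map_conj, show s⁻¹ * (s * z * s⁻¹) * s = z by group]
    rw [h1, mem_map_conj, show x⁻¹ * (s * z * s⁻¹) * x = x⁻¹ * s * z * (x⁻¹ * s)⁻¹ by group]

theorem twin_eq {ξ : G} (hξ : Twin S E ξ) : twin E ξ = twin E x := by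
  rcases h.conj_eq hA hξ.mem_normalizer_S hξ.twin_le with e | e
  · exact absurd (CfsgLib.Fusion.conjBy_eq_iff.1 e) hξ.xn
  · exact e

end Twin

end CfsgLib.AbelianInter
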